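import Cfsg.Agent.H57.SlP1a
import Cfsg.Agent.H63.WrDefs
import Cfsg.Agent.H49.XS

/-! The wreath case with graph automorphisms: the transfer step P1. -/

set_option autoImplicit false
set_option linter.unusedSectionVars false

namespace Cfsg.Agent.H57.SlP

open Cfsg H63 H63.SL Subgroup H63.WR H27.End H8
open H26.WrP (cjC cjN cjI cj_eq dec exists_sq conj_of_odd)
open scoped commutatorElement Pointwise

universe u

variable {G : Type u} [Group G] [Finite G] {A B L U T P W X K : Subgroup G} {g x y e j r m t w : G}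

/-- The elements of `N(L)` fixing the class of `r`. -/
def FS (L : Subgroup G) (r : G) : Subgroup G where
  carrier := {g | g ∈ N[L] ∧ FixC L r g}
  one_mem' := ⟨one_mem _, 1, one_mem _, by simp⟩
  mul_mem' := by
    rintro g g' ⟨h, l, hl, e⟩ ⟨h', l', hl', e'⟩
    refine ⟨mul_mem h h', _, mul_mem hl (conj_mem h hl'), ?_⟩
    convert mul_mem ((cjC (cj_eq (mul_mem (le_normalizer hl) h))).2 e') e using 1
    group
  inv_mem' := by
    rintro g ⟨h, l, hl, e⟩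
    refine ⟨inv_mem h, _, conj_mem (inv_mem h) (inv_mem hl), ?_⟩
    convert (cjC (cj_eq (inv_mem (mul_mem (le_normalizer hl) h)))).2 (inv_mem e) using 1
    group

theorem I_le_FS (h : r ∈ N[L]) : L ⊔ C[L] ≤ FS L r :=
  sup_le (fun l hl => ⟨le_normalizer hl, _, inv_mem hl, by simp⟩) fun a ha =>
    ⟨centralizer_le_normalizer _ ha, 1, one_mem _, by
      simpa [mul_assoc] using mul_mem ha ((cjC (cj_eq h)).2 (inv_mem ha))⟩

theorem mem_FS (h : g ∈ N[L]) (h' : g ∈ C1[r]) : g ∈ FS L r :=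
  ⟨h, 1, one_mem _, by simp [(mem_C1.1 h').eq]⟩

theorem fix_conj (e : cj g A = B) (h : FixC A r m) : FixC B (g * r * g⁻¹) (g * m * g⁻¹) := by
  obtain ⟨l, hl, h⟩ := h
  refine ⟨g * l * g⁻¹, e ▸ ⟨l, hl, rfl⟩, ?_⟩
  convert (cjC e).2 h using 1
  group

theorem cc_conj (e : cj g A = B) : cc B (g * j * g⁻¹) = cc A j := by
  subst e
  suffices h : cj g A ⊓ C1[g * j * g⁻¹] = MulAut.conj g • (A ⊓ C1[j]) by
    rw [cc, cc, h, card_conj_smul]
  ext x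
  rw [mem_conj_smul, mem_inf, mem_inf, mem_C1, mem_C1]
  exact and_congr mem_conj_smul ⟨fun h => by simpa [mul_assoc] using h.conj g⁻¹,
    fun h => by simpa [mul_assoc] using h.conj g⟩

theorem cc_mul (h : x ∈ C[L]) : cc L (x * y) = cc L y := by
  suffices h : L ⊓ C1[x * y] = L ⊓ C1[y] by rw [cc, cc, h]
  ext l
  refine and_congr_right fun hl => ?_
  have := (comm_of_C h hl).symm
  show l ∈ C1[x * y] ↔ l ∈ C1[y]
  rw [mem_C1, mem_C1]
  exact ⟨fun h' => by simpa using this.inv_right.mul_right h', this.mul_right⟩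

theorem ex_cc (L : Subgroup G) (j : G) :
    ∃ P, IsSylowIn 2 P (L ⊓ C1[j]) ∧ Nat.card P = 2 ^ cc L j :=
  let ⟨P, h⟩ := exists_isSylowIn 2 (L ⊓ C1[j]); ⟨P, h, h.card_eq⟩

theorem le_cc (hP : IsPGroup 2 P) (h : P ≤ L ⊓ C1[j]) : Nat.card P ≤ 2 ^ cc L j :=
  let ⟨_, h1, h2⟩ := ex_cc L j; h2 ▸ h1.card_le hP h

theorem le_of_odd [X.Normal] (hX : X.index = 2) (h : B ≤ X) (o : ¬ 2 ∣ B.relIndex A) : A ≤ X := by
  rcases (Nat.dvd_prime Nat.prime_two).1 (hX ▸ relIndex_dvd_index_of_normal X A) with e | e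
  · exact relIndex_eq_one.1 e
  · exact absurd (e ▸ relIndex_dvd_of_le_left A h) o

/-- The elements of `T0` fixing both classes of `j`. -/
abbrev TJ (L T : Subgroup G) (t j : G) : Subgroup G := T ⊓ N[L] ⊓ (FS L j ⊓ FS (cj t L) j)

variable (c : WC L U T t w) (k : WK L U T t w)
include c k

theorem com : cj t L ≤ C[L] := by
  rintro _ ⟨b, hb, rfl⟩ a ha
  exact c.com a ha b hb

theorem com' : L ≤ C[cj t L] := le_centralizer_iff.1 (com c k)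

theorem back : cj t (cj t L) = L := (k.sw t (c.syl.le c.tT) k.tn).2

theorem N2 : T ⊓ N[L] ≤ N[cj t L] := fun _ h => k.nn ⟨c.syl.le h.1, h.2⟩

theorem tt' (x : G) : t * (t * x * t⁻¹) * t⁻¹ = x := by
  rw [show t * (t * x * t⁻¹) * t⁻¹ = t * t * x * (t * t)⁻¹ by group, c.t2]; simp

theorem ct (h : x ∈ T ⊓ N[L]) : t * x * t⁻¹ ∈ T ⊓ N[L] :=
  ⟨T.mul_mem (T.mul_mem c.tT h.1) (T.inv_mem c.tT), (cjN (back c k)).2 (N2 c k h)⟩

theorem u1 : U ⊔ cj t U ≤ L ⊔ C[L] := sup_le_sup c.wl.syl.le (k.swap.wl.syl.le.trans (com c k))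

theorem u2 : U ⊔ cj t U ≤ cj t L ⊔ C[cj t L] := sup_le ((c.wl.syl.le.trans (com' c k)).trans
  le_sup_right) (k.swap.wl.syl.le.trans le_sup_left)

theorem u0 : U ⊔ cj t U ≤ T ⊓ N[L] := le_inf (sup_le c.UT k.swap.UT)
  ((u1 c k).trans (sup_le le_normalizer (centralizer_le_normalizer _)))

theorem udec (h : x ∈ U ⊔ cj t U) : ∃ a ∈ U, ∃ b ∈ cj t U, a * b = x :=
  (H83.mem_sup_right_norm (H83.le_norm_of_le_cent fun a ha b hb => (k.idp.2.2.1 a ha b hb).symm)).1 h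

theorem upper (hj : j ∈ T ⊓ N[L]) : Nat.card ↥(T ⊓ N[L] ⊓ C1[j]) ≤
    2 ^ (cc L j + cc (cj t L) j) * (U ⊔ cj t U).relIndex (TJ L T t j) := by
  have e3 := k.T0 hj
  have h3 : ∀ x : ↥((U ⊔ cj t U) ⊓ (T ⊓ N[L] ⊓ C1[j])), ∃ p : ↥(U ⊓ C1[j]) × ↥(cj t U ⊓ C1[j]),
      (p.1 : G) * p.2 = x := fun x => by
    obtain ⟨a, ha, b, hb, e5⟩ := udec c k x.2.1
    have e6 := (mem_C1.1 x.2.2.2).symm.mul_inv_cancel
    rw [← e5, ← conj_mul] at e6
    have e7 : a⁻¹ * (j * a * j⁻¹) = 1 := mem_bot.1 (k.idp.2.2.2.1.le (mem_inf.2 ⟨mul_mem (inv_mem ha)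
      (conj_mem e3.1 ha), by
        rw [eq_mul_inv_of_mul_eq e6, mul_assoc, inv_mul_cancel_left]
        exact mul_mem hb (inv_mem (conj_mem e3.2 hb))⟩))
    rw [← inv_mul_eq_one.1 e7, mul_left_cancel_iff] at e6
    exact ⟨⟨⟨a, ha, mem_C1.2 (eq_mul_of_mul_inv_eq (inv_mul_eq_one.1 e7).symm).symm⟩,
      ⟨b, hb, mem_C1.2 (eq_mul_of_mul_inv_eq e6).symm⟩⟩, e5⟩
  choose f hf using h3
  have h4 := Nat.card_le_card_of_injective f fun x y e => Subtype.ext ((hf x).symm.trans (e ▸ hf y))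
  rw [Nat.card_prod] at h4
  rw [card_eq_card_mul_relIndex (inf_le_right : (U ⊔ cj t U) ⊓ _ ≤ _), inf_relIndex_right, pow_add]
  exact Nat.mul_le_mul (h4.trans (Nat.mul_le_mul
    (le_cc c.wl.syl.isPGroup.to_inf_left (inf_le_inf_right _ c.wl.syl.le))
    (le_cc k.swap.wl.syl.isPGroup.to_inf_left (inf_le_inf_right _ k.swap.wl.syl.le))))
    (relIndex_le_of_le_right (fun x hx => ⟨hx.1, mem_FS hx.1.2 hx.2, mem_FS (N2 c k hx.1) hx.2⟩)
      index_ne_zero_of_finite)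

theorem cover (h1 : y ∈ N[L]) (h2 : y ∈ N[cj t L]) (y2 : y * y = 1) (x1 : x ∈ FS L y)
    (x2 : x ∈ FS (cj t L) y) : ∃ n ∈ (L ⊔ C[L]) ⊓ (cj t L ⊔ C[cj t L]), n * x ∈ C1[y] := by
  obtain ⟨-, l, hl, e1⟩ := x1
  obtain ⟨-, l', hl', e2⟩ := mul_mem (I_le_FS h2 (mem_sup_right (com' c k hl))) x2
  have e3 : l' * (l * x) * y * (l' * (l * x))⁻¹ * y⁻¹ ∈ C[L] := by
    have := mul_mem (mul_mem (com c k hl') e1) ((cjC (cj_eq h1)).2 (inv_mem (com c k hl')))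
    convert this using 1
    group
  obtain ⟨j, e⟩ := conj_of_odd y2 (x := l' * (l * x) * y * (l' * (l * x))⁻¹)
    (by rw [conj_mul, y2, mul_one, mul_inv_cancel])
    (odd_orderOf_of_mem c.odd ((H83.centralizer_sup _ _).ge ⟨e3, e2⟩))
  have e4 := pow_mem e2 j
  have e5 := pow_mem e3 j
  generalize (l' * (l * x) * y * (l' * (l * x))⁻¹ * y⁻¹) ^ j = d at *
  refine ⟨d⁻¹ * l' * l, ⟨mul_mem (mem_sup_right (mul_mem (inv_mem e5) (com c k hl')))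
    (mem_sup_left hl), mul_mem (mul_mem (mem_sup_right (inv_mem e4)) (mem_sup_left hl'))
    (mem_sup_right (com' c k hl))⟩, mem_C1.2 (mul_inv_eq_iff_eq_mul.1 ?_)⟩
  rw [show d⁻¹ * l' * l * x * y * (d⁻¹ * l' * l * x)⁻¹ =
    d⁻¹ * (l' * (l * x) * y * (l' * (l * x))⁻¹) * d by group, ← e]
  group

theorem lower (hN : (L ⊔ C[L]) ⊓ (cj t L ⊔ C[cj t L]) ≤ X) (hT : T ⊓ N[L] ≤ X)
    (hj : j ∈ T ⊓ N[L]) (j2 : j * j = 1) : ∃ Q ≤ C1[j] ⊓ X, IsPGroup 2 Q ∧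
      2 ^ (cc L j + cc (cj t L) j) * (U ⊔ cj t U).relIndex (TJ L T t j) ≤ Nat.card Q := by
  obtain ⟨P1, a1, a3⟩ := ex_cc L j
  obtain ⟨P2, b1, b3⟩ := ex_cc (cj t L) j
  set M0 := N[L] ⊓ N[cj t L]
  set N0 := (L ⊔ C[L]) ⊓ (cj t L ⊔ C[cj t L])
  have nm : N0 ≤ M0 := inf_le_inf (sup_le le_normalizer (centralizer_le_normalizer _))
    (sup_le le_normalizer (centralizer_le_normalizer _))
  have p1 : P1 ≤ N0 := fun a ha =>
    ⟨mem_sup_left (a1.le ha).1, mem_sup_right (com' c k (a1.le ha).1)⟩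
  have p2 : P2 ≤ N0 := fun a ha =>
    ⟨mem_sup_right (com c k (b1.le ha).1), mem_sup_left (b1.le ha).1⟩
  obtain ⟨Q, hQ, h2⟩ := exists_isSylowIn_ge (p := 2) (H := M0 ⊓ (C1[j] ⊓ X))
    (a1.isPGroup.to_sup_of_normal_right' b1.isPGroup (H83.le_norm_of_le_cent fun a ha b hb =>
      (com' c k (a1.le ha).1 b (b1.le hb).1)))
    (sup_le (fun a ha => ⟨nm (p1 ha), (a1.le ha).2, hN (p1 ha)⟩)
      fun a ha => ⟨nm (p2 ha), (b1.le ha).2, hN (p2 ha)⟩)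
  have h3 := cover_idx (M := M0) (N := N0) (P := TJ L T t j) (fun m hm =>
    mem_N_of_conj fun x hx => ⟨(cjI (cj_eq hm.1)).2 hx.1, (cjI (cj_eq hm.2)).2 hx.2⟩) hQ inf_le_left
    (fun x hx => ⟨hx.1.2, hx.2.2.1⟩) c.syl.isPGroup.to_inf_left.to_inf_left fun x hx => by
      obtain ⟨n, hn, h⟩ := cover c k hj.2 (N2 c k hj) j2 hx.2.1 hx.2.2
      exact ⟨n, hn, mul_mem (nm hn) ⟨hx.1.2, hx.2.2.1⟩, h, mul_mem (hN hn) (hT hx.1)⟩
  have h5 : Nat.card P1 * Nat.card P2 ≤ Nat.card ↥(N0 ⊓ Q) := by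
    rw [← Nat.card_prod]
    refine Nat.card_le_card_of_injective (fun p => ⟨p.1 * p.2, mul_mem (p1 p.1.2) (p2 p.2.2),
      h2 (mul_mem_sup p.1.2 p.2.2)⟩) fun p q e => ?_
    have e1 : (p.1 : G) * p.2 = q.1 * q.2 := congrArg Subtype.val e
    have e3 := mul_mem (inv_mem q.1.2) p.1.2
    have e4 := inv_mul_eq_one.1 (eq_one_of_is2 (is2_of_mem a1.isPGroup e3) (k.inf _ (a1.le e3).1 (by
      rw [eq_mul_inv_of_mul_eq e1, mul_assoc, inv_mul_cancel_left]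
      exact (b1.le (mul_mem q.2.2 (inv_mem p.2.2))).1)))
    rw [e4] at e1
    exact Prod.ext (Subtype.ext e4.symm) (Subtype.ext (mul_left_cancel e1))
  refine ⟨Q, hQ.le.trans inf_le_right, hQ.isPGroup, ?_⟩
  rw [card_eq_card_mul_relIndex (inf_le_right : N0 ⊓ Q ≤ Q), inf_relIndex_right, pow_add, ← a3, ← b3]
  refine Nat.mul_le_mul h5 (le_trans ?_ h3)
  rw [← inf_relIndex_right N0]
  exact relIndex_le_of_le_left (fun x hx => k.TG x hx.2.1.1 hx.1.1 hx.1.2) index_ne_zero_of_finite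

theorem fix2 (hm : m ∈ T ⊓ N[L]) :
    m ∈ FS (cj t L) j ↔ FixC L (t * j * t⁻¹) (t * m * t⁻¹) :=
  ⟨fun h => fix_conj (back c k) h.2, fun h => ⟨N2 c k hm, by
    simpa only [tt' c k] using fix_conj (g := t) rfl h⟩⟩

/-- The counting argument. -/
theorem ne2 (wx : WX L U W) (hj : j ∈ T ⊓ N[L]) (j2 : j * j = 1)
    (n : j * (t * j * t⁻¹) ∉ L ⊔ C[L])
    (h : 2 ^ (cc L j + cc (cj t L) j) * (U ⊔ cj t U).relIndex (TJ L T t j) =
      2 ^ (2 * cc L e) * (U ⊔ cj t U).relIndex (T ⊓ N[L])) :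
    ¬ Ne2 L (T ⊓ N[L]) e j (t * j * t⁻¹) := fun hn => by
  have pT : IsPGroup 2 ↥(T ⊓ N[L]) := c.syl.isPGroup.to_inf_left
  have hj' := ct c k hj
  have j2' : t * j * t⁻¹ * (t * j * t⁻¹) = 1 := by rw [conj_mul, j2]; simp
  rw [← relIndex_mul_relIndex (U ⊔ cj t U) (TJ L T t j) (T ⊓ N[L]) (le_inf (u0 c k) (le_inf
    ((u1 c k).trans (I_le_FS hj.2)) ((u2 c k).trans (I_le_FS (N2 c k hj))))) inf_le_left,
    mul_comm (relIndex _ _) (relIndex _ _), ← mul_assoc, ← cc_conj (back c k)] at h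
  replace h := Nat.eq_of_mul_eq_mul_right (Nat.pos_of_ne_zero index_ne_zero_of_finite) h
  by_cases hle : T ⊓ N[L] ≤ TJ L T t j
  · rw [relIndex_eq_one.2 hle, mul_one] at h
    exact hn.1 (Nat.pow_right_injective le_rfl h)
  obtain ⟨a, ha, ha'⟩ := SetLike.not_le_iff_exists.1 hle
  have h2 : (TJ L T t j).relIndex (T ⊓ N[L]) = 2 := by
    refine index_eq_two_iff_exists_notMem_and.2 ⟨⟨a, ha⟩, ha', fun b => ?_⟩
    have hb := b.2
    have hba := mul_mem hb ha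
    by_cases i : j ∈ L ⊔ C[L]
    · have k1 : ∀ m ∈ T ⊓ N[L], FixC L j m → m ∈ TJ L T t j := fun m hm h =>
        ⟨hm, ⟨hm.2, h⟩, (fix2 c k hm).2 (wx.clsO _ inf_le_right pT _ hj' (j2' ▸ one_mem _)
          (fun h => n (mul_mem i h)) _ (ct c k hm))⟩
      rcases wx.half _ inf_le_right pT j hj (j2 ▸ one_mem _) _ hb _ ha with h | h | h
      exacts [.inr (k1 _ hb h), absurd (k1 _ ha h) ha', .inl (k1 _ hba h)]
    · have k1 : ∀ m ∈ T ⊓ N[L], FixC L (t * j * t⁻¹) (t * m * t⁻¹) → m ∈ TJ L T t j := fun m hm h =>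
        ⟨hm, ⟨hm.2, wx.clsO _ inf_le_right pT j hj (j2 ▸ one_mem _) i m hm⟩, (fix2 c k hm).2 h⟩
      rcases wx.half _ inf_le_right pT _ hj' (j2' ▸ one_mem _) _ (ct c k hb) _ (ct c k ha)
        with h | h | h
      exacts [.inr (k1 _ hb h), absurd (k1 _ ha h) ha', .inl (k1 _ hba (by rwa [conj_mul] at h))]
  rw [h2, ← pow_succ] at h
  refine hn.2 ?_ (Nat.pow_right_injective le_rfl h)
  by_cases h1 : FixC L j a
  · exact ⟨_, ct c k ha, .inr fun h3 => ha' ⟨ha, ⟨ha.2, h1⟩, (fix2 c k ha).2 h3⟩⟩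
  · exact ⟨a, ha, .inl h1⟩

theorem core (wx : WX L U W) (hT : IsSylowIn 2 T ⊤) (f1 : Fix1 N[L ⊔ cj t L] {t}) [hX : X.Normal]
    (pf : ⁅X, X⁆ = X) (gen : X ⊔ zpowers t = ⊤) (TX : T ⊓ X = T ⊓ N[L]) (he : e ∈ T ⊓ N[L])
    (e2 : e * e = 1) (et : Commute t e) (n1 : e ∉ L ⊔ C[L]) (KT : K ≤ T ⊓ N[L])
    (IK : ∀ x ∈ T ⊓ N[L], x ∈ L ⊔ C[L] → x ∈ K)
    (hne : ∀ j ∈ T ⊓ N[L], j * j = 1 → j * (t * j * t⁻¹) ∉ K → Ne2 L (T ⊓ N[L]) e j (t * j * t⁻¹))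
    (hfix : ∀ g ∈ N[L], g⁻¹ * e * g ∈ T ⊓ N[L] → e * (g⁻¹ * e * g) ∈ K) : e ∈ K := by
  have pT : IsPGroup 2 ↥(T ⊓ N[L]) := c.syl.isPGroup.to_inf_left
  have T0X : T ⊓ N[L] ≤ X := TX ▸ inf_le_right
  have tM := c.syl.le c.tT
  have i2 : X.index = 2 := index_eq_two_iff_exists_notMem_and.2
    ⟨t, fun h => k.tn (TX.le ⟨c.tT, h⟩).2, fun b => by
      obtain ⟨x, hx, y, hy, rfl⟩ := mem_sup_of_normal_left.1 (gen ▸ mem_top b : b ∈ X ⊔ zpowers t)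
      rcases (H49.mem_zpowers_invol c.t2).1 hy with rfl | rfl
      exacts [.inr (by simpa using hx), .inl (by rwa [mul_assoc, c.t2, mul_one])]⟩
  have L1 : L ≤ X := le_of_odd i2 (le_sup_left.trans ((u0 c k).trans T0X)) c.wl.syl.not_dvd
  have L2 : cj t L ≤ X := le_of_odd i2 (le_sup_right.trans ((u0 c k).trans T0X))
    k.swap.wl.syl.not_dvd
  have L3 : C[L ⊔ cj t L] ≤ X := le_of_odd i2 bot_le (by
    rw [relIndex_bot_left]; exact c.odd.not_two_dvd_nat)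
  have hN : (L ⊔ C[L]) ⊓ (cj t L ⊔ C[cj t L]) ≤ X := fun x hx => by
    obtain ⟨a, ha, b, hb, rfl⟩ := dec le_rfl hx.1
    obtain ⟨a', ha', b', hb', rfl⟩ := dec le_rfl
      ((mul_mem_cancel_left (mem_sup_right (com' c k ha))).1 hx.2)
    exact mul_mem (L1 ha) (mul_mem (L2 ha') (L3 ((H83.centralizer_sup _ _).ge
      ⟨(mul_mem_cancel_left (com c k ha')).1 hb, hb'⟩)))
  obtain ⟨S, hS, h1⟩ := exists_isSylowIn_ge (p := 2) (c.syl.isPGroup.to_inf_left (K := C1[e]))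
    inf_le_right
  have tS : t ∈ S := h1 ⟨c.tT, mem_C1.2 et⟩
  have eS : e ∈ S := h1 ⟨he.1, mem_C1.2 (.refl e)⟩
  have SM := Fix1.le f1 c.t2 tM hS.isPGroup tS
  have hS0 := hS.inf_of_le_normalizer (N := X) le_normalizer_of_normal
  have val : ∀ g : G, g⁻¹ * e * g ∈ T ⊓ N[L] → (∀ s ∈ S, s ∈ X → g⁻¹ * s * g ∈ T ⊓ N[L]) →
      2 ^ (cc L (g⁻¹ * e * g) + cc (cj t L) (g⁻¹ * e * g)) *
        (U ⊔ cj t U).relIndex (TJ L T t (g⁻¹ * e * g)) = Nat.card ↥(S ⊓ X) := fun g h2 h3 => by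
    refine le_antisymm ?_ (le_trans ?_ (upper c k h2))
    · obtain ⟨Q, q1, q2, q3⟩ := lower c k hN T0X h2 (by
        rw [show g⁻¹ * e * g * (g⁻¹ * e * g) = g⁻¹ * (e * e) * g by group, e2]; simp)
      refine q3.trans (card_conj_smul Q g ▸ hS0.card_le (isPGroup_conj_smul q2 _) fun x hx => ?_)
      have := q1 (mem_conj_smul.1 hx)
      exact ⟨mem_C1.2 (by simpa [mul_assoc] using (mem_C1.1 this.1).conj g),
        by simpa [mul_assoc] using hX.conj_mem _ this.2 g⟩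
    · rw [← card_conj_smul (S ⊓ X) g⁻¹]
      refine card_le_of_le ?_
      rintro _ ⟨s, hs, rfl⟩
      exact ⟨by simpa using h3 s hs.1 hs.2,
        mem_C1.2 (by simpa using (mem_C1.1 (hS.le hs.1)).conj g⁻¹)⟩
  have full : ∀ j ∈ T ⊓ N[L], j * j = 1 → j ∉ L ⊔ C[L] → j ∉ cj t L ⊔ C[cj t L] →
      TJ L T t j = T ⊓ N[L] := fun j hj j2 a b => inf_eq_left.2 fun m hm =>
    ⟨⟨hm.2, wx.clsO _ inf_le_right pT j hj (j2 ▸ one_mem _) a m hm⟩, (fix2 c k hm).2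
      (wx.clsO _ inf_le_right pT _ (ct c k hj) (by rw [conj_mul, j2]; simp)
        (mt (cjI (back c k)).1 b) _ (ct c k hm))⟩
  have te : t * e * t⁻¹ = e := et.mul_inv_cancel
  have n2 : e ∉ cj t L ⊔ C[cj t L] := fun h => n1 (te ▸ (cjI (back c k)).2 h)
  have sval : Nat.card ↥(S ⊓ X) = 2 ^ (2 * cc L e) * (U ⊔ cj t U).relIndex (T ⊓ N[L]) := by
    obtain ⟨m, hm, hm', h⟩ : ∃ m ∈ N[L ⊔ cj t L], m ∈ N[L] ∧ ∀ x ∈ S, m * x * m⁻¹ ∈ T := by
      obtain ⟨m, hm, h⟩ := c.syl.exists_conj_le hS.isPGroup SM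
      rcases k.perm _ (inv_mem hm) with h1 | h1
      · exact ⟨m, hm, inv_mem_iff.1 h1, fun x hx => h (conj_mem_conj_smul.2 hx)⟩
      · refine ⟨t⁻¹ * m, mul_mem (inv_mem tM) hm, by simpa using inv_mem h1, fun x hx => ?_⟩
        simpa [mul_assoc] using
          mul_mem (mul_mem (inv_mem c.tT) (h (conj_mem_conj_smul.2 hx))) c.tT
    have m1 := cj_eq hm'
    have m2 := cj_eq (k.nn ⟨hm, hm'⟩)
    have e1 : m * e * m⁻¹ ∈ T ⊓ N[L] := ⟨h e eS, (cjN m1).2 he.2⟩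
    have := val m⁻¹ (by rwa [inv_inv]) fun s hs hx => by
      rw [inv_inv]; exact TX.le ⟨h s hs, hX.conj_mem _ hx m⟩
    rw [inv_inv, full _ e1 (by rw [conj_mul, e2]; simp) (mt (cjI m1).1 n1) (mt (cjI m2).1 n2),
      cc_conj m1, cc_conj m2, ← cc_conj (back c k), te, ← two_mul] at this
    exact this.symm
  refine tt (X := X) (T := T ⊓ N[L]) (S := S) (k.der.trans fun x hx => IK x (u0 c k hx) (u1 c k hx))
    KT ?_ (pf.ge (T0X he)) he e2 c.t2 (mem_N_of_conj fun x => ct c k) et hS.isPGroup hS.le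
    (le_normalizer tS) eS (fun g _ h2 h3 => by_contra fun h4 => ?_) fun g hg h2 => hfix g ?_
  · have := (hT.inf_of_le_normalizer (N := X) le_normalizer_of_normal).not_dvd
    rwa [top_inf_eq, TX] at this
  · have j2 : g⁻¹ * e * g * (g⁻¹ * e * g) = 1 := by
      rw [show g⁻¹ * e * g * (g⁻¹ * e * g) = g⁻¹ * (e * e) * g by group, e2]; simp
    exact ne2 c k wx h2 j2 (fun h => h4 (IK _ (mul_mem h2 (ct c k h2)) h))
      ((val g h2 h3).trans sval) (hne _ h2 j2 h4)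
  · have gM : g ∈ N[L ⊔ cj t L] := inv_mem_iff.1 (Fix1.mem f1 (by
      simpa [mul_assoc] using mul_mem (c.syl.le h2.1) tM))
    by_contra gn
    have h3 := (c.syl.inf_of_le_normalizer (N := X) le_normalizer_of_normal).not_dvd
    refine h3 (dvd_trans (dvd_of_eq (Eq.symm ?_)) (relIndex_dvd_of_le_left _ (TX.le.trans inf_le_right)))
    refine index_eq_two_iff_exists_notMem_and.2 ⟨⟨g, gM, hg⟩, gn, fun b => ?_⟩
    refine (k.perm b b.2.1).symm.imp_left fun h => ?_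
    have h5 := (k.perm _ (inv_mem gM)).resolve_left (mt inv_mem_iff.1 gn)
    show (b : G) * g ∈ N[L]
    simpa [mul_assoc] using mul_mem h (inv_mem h5)

omit c k

/-- **P1** -/
theorem p1 (hK : WKStmt.{u}) : P1Stmt.{u} := by
  intro G _ _ L U T t w c W X wx hT f1 hX pf gen TX
  have k := hK L U T t w c
  refine le_antisymm (fun x hx => by_contra fun hx' => ?_) (u0 c k)
  have pT : IsPGroup 2 ↥(T ⊓ N[L]) := c.syl.isPGroup.to_inf_left
  have bk := back c k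
  have cm : ∀ {a b}, a ∈ T ⊓ N[L] → b ∈ T ⊓ N[L] → a * b * a⁻¹ * b⁻¹ ∈ U ⊔ cj t U := fun ha hb =>
    k.der (commutator_mem_commutator ha hb)
  have dg : ∀ {y}, y ∈ T ⊓ N[L] → y * y ∈ U ⊔ cj t U → y * (t * y * t⁻¹) * (y * (t * y * t⁻¹)) ∈
      U ⊔ cj t U ∧ t * (y * (t * y * t⁻¹)) * t⁻¹ * (y * (t * y * t⁻¹))⁻¹ ∈ U ⊔ cj t U :=
    fun {y} hy y2 => by
      have h1 : t * y * t⁻¹ * (t * y * t⁻¹) ∈ U ⊔ cj t U := by
        obtain ⟨a, ha, b, hb, e⟩ := udec c k y2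
        rw [conj_mul, ← e, ← conj_mul, sup_comm]
        exact mul_mem_sup ⟨a, ha, rfl⟩ ((k.Tsw t c.tT k.tn).2.1 ▸ ⟨b, hb, rfl⟩)
      constructor
      · convert mul_mem (mul_mem y2 (cm (inv_mem hy) (ct c k hy))) h1 using 1
        group
      · rw [← conj_mul, tt' c k]
        convert cm (ct c k hy) hy using 1
        group
  have exd : ∃ x ∈ T ⊓ N[L], x ∉ U ⊔ cj t U ∧ x * x ∈ U ⊔ cj t U ∧
      t * x * t⁻¹ * x⁻¹ ∈ U ⊔ cj t U := by
    obtain ⟨n, hn⟩ := is2_of_mem pT hx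
    obtain ⟨m, h1, h2⟩ := exists_sq hx' (hn ▸ one_mem _)
    have h3 := pow_mem hx m
    generalize x ^ m = y at *
    by_cases h4 : t * y * t⁻¹ * y⁻¹ ∈ U ⊔ cj t U
    · exact ⟨y, h3, h1, h2, h4⟩
    · refine ⟨_, mul_mem h3 (ct c k h3), fun h => h4 ?_, dg h3 h2⟩
      convert mul_mem (mul_mem (cm (ct c k h3) (inv_mem h3)) (inv_mem h2)) h using 1
      group
  have mk : ∀ x ∈ T ⊓ N[L], x ∉ U ⊔ cj t U → t * x * t⁻¹ * x⁻¹ ∈ U ⊔ cj t U → x ∉ L ⊔ C[L] ∧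
      ∀ u ∈ U, u * x * (u * x) ∈ C[L] → ∃ e ∈ T ⊓ N[L], e * e = 1 ∧ Commute t e ∧
        e * x⁻¹ ∈ L ⊔ C[L] ∧ cc L e = cc L (u * x) := fun x hx n1 n2 => by
    refine ⟨fun h => n1 (k.TG x hx.1 h ?_), fun a ha a2 => ?_⟩
    · simpa [mul_assoc] using mul_mem (inv_mem (u2 c k n2)) ((cjI (g := t) rfl).2 h)
    have y1 := mul_mem (u0 c k (mem_sup_left ha)) hx
    have y3 : t * (a * x) * t⁻¹ * (t * (a * x) * t⁻¹) ∈ C[cj t L] := by rwa [conj_mul, cjC rfl]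
    obtain ⟨d, hd, b, hb, e⟩ := udec c k (show t * (a * x) * t⁻¹ * x⁻¹ ∈ _ by
      convert mul_mem (mem_sup_right (show t * a * t⁻¹ ∈ cj t U from ⟨a, ha, rfl⟩)) n2 using 1
      group)
    have bL := k.swap.wl.syl.le hb
    have bC := com c k bL
    have eS := mul_mem (u0 c k (mem_sup_right hb)) y1
    obtain ⟨f, hf, e'⟩ : ∃ f ∈ C[cj t L], b * (a * x) = f * (t * (a * x) * t⁻¹) :=
      ⟨_, com' c k (c.wl.syl.le (mul_mem ha (inv_mem hd))), by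
        rw [eq_mul_of_mul_inv_eq e.symm, ← mul_assoc b, ← k.idp.2.2.1 a ha b hb]; group⟩
    have f1 : b * (a * x) * (b * (a * x)) = 1 := k.TC _ (mul_mem eS eS).1
      (by simpa [mul_assoc] using mul_mem (mul_mem bC ((cjC (cj_eq y1.2)).2 bC)) a2) (by
        rw [e']
        have := mul_mem (mul_mem hf ((cjC (cj_eq (N2 c k (ct c k y1)))).2 hf)) y3
        generalize t * (a * x) * t⁻¹ = y at this ⊢
        simpa [mul_assoc] using this)
    have f2 : t * (b * (a * x)) * t⁻¹ * (b * (a * x))⁻¹ = 1 := k.TC _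
      (mul_mem (ct c k eS) (inv_mem eS)).1 (by
        have := mul_mem ((cjC bk).2 hf) (inv_mem bC)
        nth_rewrite 1 [e']
        convert this using 1
        rw [← conj_mul, tt' c k]
        group) (by
        have := mul_mem ((cjC rfl).2 bC : t * b * t⁻¹ ∈ _) (inv_mem hf)
        nth_rewrite 2 [e']
        convert this using 1
        group)
    exact ⟨_, eS, f1, mul_inv_eq_iff_eq_mul.1 (mul_inv_eq_one.1 f2), by
      simpa [mul_assoc] using mul_mem (mem_sup_right bC) (mem_sup_left (c.wl.syl.le ha)), cc_mul bC⟩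
  have cw : ∀ {e g}, e ∈ N[L] → g ∈ N[L] → e⁻¹ * (g⁻¹ * e * g) ∈ W := fun he hg => by
    simpa [commutatorElement_def, mul_assoc] using
      wx.Wc (commutator_mem_commutator (inv_mem he) (inv_mem hg))
  have UT : U ≤ T ⊓ N[L] := le_sup_left.trans (u0 c k)
  by_cases hF : ∃ x ∈ T ⊓ N[L], x * x ∈ U ⊔ cj t U ∧ t * x * t⁻¹ * x⁻¹ ∈ U ⊔ cj t U ∧ x ∉ W
  · obtain ⟨x, hx, x2, x3, x4⟩ := hF
    obtain ⟨u, hu, q1, q2⟩ := wx.neF _ inf_le_right pT UT x hx (u1 c k x2) x4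
    obtain ⟨e, he, e2, et, e3, e4⟩ := (mk x hx (fun h => x4 (wx.WI (u1 c k h))) x3).2 u hu q1
    have n : e ∉ W := fun h => x4 (by simpa using mul_mem (inv_mem (wx.WI e3)) h)
    refine n (core c k (K := T ⊓ N[L] ⊓ W) wx hT f1 pf gen TX he e2 et (fun h => n (wx.WI h))
      inf_le_left (fun x hx h => ⟨hx, wx.WI h⟩) (fun j hj j2 h => ?_) fun g hg h =>
        ⟨mul_mem he h, ?_⟩).2
    · have := q2 j hj _ (ct c k hj) (j2 ▸ one_mem _) (by rw [conj_mul, j2]; simp)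
        fun h' => h ⟨mul_mem hj (ct c k hj), h'⟩
      rwa [Ne2, ← e4] at this
    · have := cw he.2 hg
      rwa [inv_eq_of_mul_eq_one_right e2] at this
  · obtain ⟨x, hx, x1, x2, x3⟩ := exd
    have hG : ∀ x ∈ T ⊓ N[L], x * x ∈ U ⊔ cj t U → t * x * t⁻¹ * x⁻¹ ∈ U ⊔ cj t U → x ∈ W :=
      fun x a b d => by_contra fun h => hF ⟨x, a, b, d, h⟩
    obtain ⟨x4, x5⟩ := mk x hx x1 x3
    obtain ⟨u, hu, q1, q2⟩ := wx.neG _ inf_le_right pT UT x hx (hG x hx x2 x3) x4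
    obtain ⟨e, he, e2, et, e3, e4⟩ := x5 u hu q1
    have n : e ∉ L ⊔ C[L] := fun h => x4 (by simpa using mul_mem (inv_mem e3) h)
    have eW : e ∈ W := by simpa using mul_mem (wx.WI e3) (hG x hx x2 x3)
    refine n (core c k (K := T ⊓ N[L] ⊓ (L ⊔ C[L])) wx hT f1 pf gen TX he e2 et n
      inf_le_left (fun x hx h => ⟨hx, h⟩) (fun j hj j2 h => ?_) fun g hg h =>
        ⟨mul_mem he h, ?_⟩).2
    · have j3 := dg hj (j2 ▸ one_mem _)
      have := q2 j hj _ (ct c k hj) (j2 ▸ one_mem _) (by rw [conj_mul, j2]; simp)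
        (hG _ (mul_mem hj (ct c k hj)) j3.1 j3.2) fun h' => h ⟨mul_mem hj (ct c k hj), h'⟩
      rwa [Ne2, ← e4] at this
    · refine wx.one (T ⊓ N[L] ⊓ W) inf_le_right pT.to_inf_left _ ⟨he, eW⟩ _
        ⟨h, by simpa using mul_mem eW (cw he.2 hg)⟩ n fun h' => n ?_
      simpa [mul_assoc] using (cjI (cj_eq hg)).2 h'

end Cfsg.Agent.H57.SlP
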