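import Mathlib

/-! Automorphisms and subdirect subgroups of `T ^ m`, `T` non-abelian simple (Scott's lemma). -/

set_option autoImplicit false

namespace Cfsg.Agent.H57

open Subgroup

section
variable {T : Type*} [Group T] {ι : Type*}

theorem center_eq_bot_of_simple [IsSimpleGroup T] (hT : ¬ IsMulCommutative T) :
    center T = ⊥ := by
  rcases (inferInstance : (center T).Normal).eq_bot_or_eq_top with h | h
  · exact h
  · exact absurd ⟨⟨fun a b => (mem_center_iff.1 (h ▸ mem_top b) a)⟩⟩ hT

theorem commutator_top_eq_of_simple [IsSimpleGroup T] (hT : ¬ IsMulCommutative T) :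
    ⁅(⊤ : Subgroup T), (⊤ : Subgroup T)⁆ = ⊤ := by
  rcases (inferInstance : (⁅(⊤ : Subgroup T), (⊤ : Subgroup T)⁆).Normal).eq_bot_or_eq_top with h | h
  · exfalso
    apply hT
    refine ⟨⟨fun a b => ?_⟩⟩
    have := commutator_mem_commutator (mem_top a) (mem_top b)
    rw [h, mem_bot, commutatorElement_eq_one_iff_mul_comm] at this
    exact this
  · exact h

/-- `ψ` moves coordinate `i` to coordinate `j`. -/
def CoordRel (ψ : MulAut (ι → T)) (i j : ι) : Prop := ∃ φ : T ≃* T, ∀ f, ψ f j = φ (f i)

theorem CoordRel.comp {ψ ψ' : MulAut (ι → T)} {i j k : ι} (h : CoordRel ψ i j)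
    (h' : CoordRel ψ' j k) : CoordRel (ψ' * ψ) i k := by
  obtain ⟨φ, h⟩ := h
  obtain ⟨φ', h'⟩ := h'
  exact ⟨φ.trans φ', fun f => by simp [h', h]⟩

theorem coordRel_one (i : ι) : CoordRel (1 : MulAut (ι → T)) i i := ⟨MulEquiv.refl T, fun _ => rfl⟩

theorem CoordRel.unique [Nontrivial T] {ψ : MulAut (ι → T)} {i j j' : ι} (h : CoordRel ψ i j)
    (h' : CoordRel ψ i j') : j = j' := by
  classical
  by_contra hne
  obtain ⟨φ, h⟩ := h
  obtain ⟨φ', h'⟩ := h'
  obtain ⟨t, ht⟩ := exists_ne (1 : T)
  have h1 := h (ψ.symm (Pi.mulSingle j t))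
  have h2 := h' (ψ.symm (Pi.mulSingle j t))
  rw [MulEquiv.apply_symm_apply] at h1 h2
  rw [Pi.mulSingle_eq_of_ne (Ne.symm hne)] at h2
  rw [Pi.mulSingle_eq_same] at h1
  have h3 := (MulEquiv.map_eq_one_iff φ').1 h2.symm
  rw [h3, map_one] at h1
  exact ht h1

/-- a normal subgroup with a non-trivial `j`-th coordinate contains the `j`-th factor. -/
theorem mulSingle_mem_of_normal [IsSimpleGroup T] [DecidableEq ι] (hT : ¬ IsMulCommutative T)
    (M : Subgroup (ι → T)) [hM : M.Normal] {f : ι → T} (hf : f ∈ M) {j : ι} (hj : f j ≠ 1) (t : T) :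
    (Pi.mulSingle j t : ι → T) ∈ M := by
  let A : Subgroup T := M.comap (MonoidHom.mulSingle (fun _ : ι => T) j)
  have hA : A.Normal := hM.comap _
  rcases hA.eq_bot_or_eq_top with h | h
  · exfalso
    apply hj
    have : f j ∈ center T := by
      rw [mem_center_iff]
      intro s
      have h1 : (Pi.mulSingle j s : ι → T) * f * (Pi.mulSingle j s : ι → T)⁻¹ * f⁻¹ ∈ M :=
        M.mul_mem (hM.conj_mem f hf _) (M.inv_mem hf)
      have h2 : (Pi.mulSingle j s : ι → T) * f * (Pi.mulSingle j s : ι → T)⁻¹ * f⁻¹ =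
          Pi.mulSingle j (s * f j * s⁻¹ * (f j)⁻¹) := by
        funext k
        by_cases hk : k = j
        · subst hk; simp
        · simp [Pi.mulSingle_eq_of_ne hk]
      rw [h2] at h1
      have h3 : s * f j * s⁻¹ * (f j)⁻¹ ∈ A := h1
      rw [h, mem_bot] at h3
      calc s * f j = (s * f j * s⁻¹ * (f j)⁻¹) * (f j * s) := by group
        _ = f j * s := by rw [h3, one_mul]
    rwa [center_eq_bot_of_simple hT, mem_bot] at this
  · have : t ∈ A := h ▸ mem_top t
    exact this

theorem exists_coordRel [IsSimpleGroup T] [Finite T] (hT : ¬ IsMulCommutative T)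
    (ψ : MulAut (ι → T)) (i : ι) : ∃ j, CoordRel ψ i j := by
  classical
  obtain ⟨t₀, ht₀⟩ := exists_ne (1 : T)
  let s : T →* (ι → T) := MonoidHom.mulSingle (fun _ : ι => T) i
  have hsn : s.range.Normal := by
    refine ⟨?_⟩
    rintro _ ⟨t, rfl⟩ g
    refine ⟨g i * t * (g i)⁻¹, ?_⟩
    funext k
    by_cases hk : k = i
    · subst hk; simp [s]
    · simp [s, Pi.mulSingle_eq_of_ne hk]
  let M : Subgroup (ι → T) := s.range.map ψ.toMonoidHom
  have hM : M.Normal := hsn.map _ ψ.surjective
  have h0 : ψ (s t₀) ≠ 1 := by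
    intro h
    have h1 := congrFun ((MulEquiv.map_eq_one_iff ψ).1 h) i
    simp [s] at h1
    exact ht₀ h1
  obtain ⟨j, hj⟩ : ∃ j, ψ (s t₀) j ≠ 1 := by
    by_contra hc
    push Not at hc
    exact h0 (funext hc)
  have hmem : ∀ t, (Pi.mulSingle j t : ι → T) ∈ M :=
    mulSingle_mem_of_normal hT M (f := ψ (s t₀)) ⟨s t₀, ⟨t₀, rfl⟩, rfl⟩ hj
  let φ₀ : T →* T := (Pi.evalMonoidHom (fun _ : ι => T) j).comp (ψ.toMonoidHom.comp s)
  have hsurj : Function.Surjective φ₀ := by
    intro t
    obtain ⟨_, ⟨u, rfl⟩, hu⟩ := hmem t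
    refine ⟨u, ?_⟩
    have := congrFun hu j
    simpa [φ₀] using this
  have hbij : Function.Bijective φ₀ := ⟨Finite.injective_iff_surjective.2 hsurj, hsurj⟩
  refine ⟨j, MulEquiv.ofBijective φ₀ hbij, fun f => ?_⟩
  set f' : ι → T := (s (f i))⁻¹ * f with hf'
  have hf'i : f' i = 1 := by simp [hf', s]
  have hc : ψ f' j ∈ center T := by
    rw [mem_center_iff]
    intro t
    obtain ⟨u, rfl⟩ := hsurj t
    have h1 : s u * f' = f' * s u := by
      funext k
      by_cases hk : k = i
      · subst hk; simp [s, hf'i]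
      · simp [s, Pi.mulSingle_eq_of_ne hk]
    have h2 := congrFun (congrArg ψ h1) j
    rw [map_mul ψ (s u) f', map_mul ψ f' (s u)] at h2
    exact h2
  rw [center_eq_bot_of_simple hT, mem_bot] at hc
  have : f = s (f i) * f' := by rw [hf']; group
  have h3 : ψ f j = ψ (s (f i)) j := by
    conv_lhs => rw [this, map_mul, Pi.mul_apply, hc, mul_one]
  exact h3

theorem exists_perm_coordRel [IsSimpleGroup T] [Finite T] [Finite ι] (hT : ¬ IsMulCommutative T)
    (ψ : MulAut (ι → T)) : ∃ σ : Equiv.Perm ι, ∀ i, CoordRel ψ i (σ i) := by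
  choose σ hσ using exists_coordRel hT ψ
  choose τ hτ using exists_coordRel hT ψ⁻¹
  have h1 : ∀ i, τ (σ i) = i := fun i => by
    have := (hσ i).comp (hτ (σ i))
    rw [inv_mul_cancel] at this
    exact this.unique (coordRel_one i)
  have hinj : Function.Injective σ := Function.LeftInverse.injective h1
  exact ⟨Equiv.ofBijective σ ⟨hinj, Finite.injective_iff_surjective.1 hinj⟩, hσ⟩

/-- coordinates `i`, `j` are linked on `L`. -/
def Linked (L : Subgroup (ι → T)) (i j : ι) : Prop := ∀ f ∈ L, f i = 1 ↔ f j = 1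

theorem linked_equivalence (L : Subgroup (ι → T)) : Equivalence (Linked L) :=
  ⟨fun _ _ _ => Iff.rfl, fun h f hf => (h f hf).symm, fun h h' f hf => (h f hf).trans (h' f hf)⟩

/-- the projection of `L` to a coordinate. -/
def prj (L : Subgroup (ι → T)) (i : ι) : L →* T := (Pi.evalMonoidHom (fun _ : ι => T) i).comp L.subtype

theorem prj_apply (L : Subgroup (ι → T)) (i : ι) (f : L) : prj L i f = (f : ι → T) i := rfl

theorem exists_aut_of_linked [Finite T] {L : Subgroup (ι → T)}
    (hL : ∀ i, Function.Surjective (prj L i)) {i j : ι} (h : Linked L i j) :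
    ∃ φ : T ≃* T, ∀ f ∈ L, f j = φ (f i) := by
  have hk : (prj L i).ker = (prj L j).ker := by
    ext f; simp only [MonoidHom.mem_ker, prj_apply]; exact h f f.2
  refine ⟨(QuotientGroup.quotientKerEquivOfSurjective _ (hL i)).symm.trans
    ((QuotientGroup.quotientMulEquivOfEq hk).trans
      (QuotientGroup.quotientKerEquivOfSurjective _ (hL j))), fun f hf => ?_⟩
  have h1 : (QuotientGroup.quotientKerEquivOfSurjective _ (hL i)).symm (f i) =
      QuotientGroup.mk ⟨f, hf⟩ := by
    rw [MulEquiv.symm_apply_eq]; rfl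
  simp only [MulEquiv.trans_apply, h1]
  rfl

theorem exists_mem_of_not_linked [IsSimpleGroup T] [Finite T] [Finite ι] (hT : ¬ IsMulCommutative T)
    {L : Subgroup (ι → T)} (hL : ∀ i, Function.Surjective (prj L i)) (j : ι) (S : Finset ι)
    (hS : ∀ i ∈ S, ¬ Linked L i j) (t : T) : ∃ d ∈ L, d j = t ∧ ∀ i ∈ S, d i = 1 := by
  classical
  have key : ∀ S : Finset ι, (∀ i ∈ S, ¬ Linked L i j) →
      (⨅ i ∈ S, (prj L i).ker).map (prj L j) = ⊤ := by
    intro S
    induction S using Finset.induction_on with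
    | empty =>
      intro _
      simp only [Finset.notMem_empty, iInf_false, iInf_top]
      rw [← MonoidHom.range_eq_map, MonoidHom.range_eq_top]
      exact hL j
    | insert i S hi ih =>
      intro h
      have h1 := ih fun k hk => h k (Finset.mem_insert_of_mem hk)
      have h2 : (prj L i).ker.map (prj L j) = ⊤ := by
        rcases ((prj L i).normal_ker.map _ (hL j)).eq_bot_or_eq_top with h2 | h2
        · exfalso
          apply h i (Finset.mem_insert_self _ _)
          have hle : (prj L i).ker ≤ (prj L j).ker := (Subgroup.map_eq_bot_iff _).1 h2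
          have hidx : (prj L i).ker.index = (prj L j).ker.index := by
            rw [index_ker, index_ker, MonoidHom.range_eq_top.2 (hL i),
              MonoidHom.range_eq_top.2 (hL j)]
          have heq : (prj L i).ker = (prj L j).ker := by
            apply eq_of_le_of_card_ge hle
            have a1 := (prj L i).ker.card_mul_index
            have a2 := (prj L j).ker.card_mul_index
            rw [hidx, ← a2] at a1
            exact (Nat.eq_of_mul_eq_mul_right
              (Nat.pos_of_ne_zero index_ne_zero_of_finite) a1).ge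
          intro f hf
          have := SetLike.ext_iff.1 heq ⟨f, hf⟩
          simpa only [MonoidHom.mem_ker, prj_apply] using this
        · exact h2
      rw [Finset.iInf_insert]
      haveI : (⨅ k ∈ S, (prj L k).ker).Normal := by
        refine ⟨fun n hn g => ?_⟩
        simp only [mem_iInf] at hn ⊢
        exact fun k hk => (prj L k).normal_ker.conj_mem n (hn k hk) g
      rw [eq_top_iff, ← commutator_top_eq_of_simple hT]
      conv_lhs => rw [← h2]
      conv_lhs => enter [2]; rw [h2, ← h1]
      rw [← map_commutator]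
      exact map_mono (commutator_le_inf _ _)
  have := key S hS
  obtain ⟨d, hd, hdt⟩ : t ∈ (⨅ i ∈ S, (prj L i).ker).map (prj L j) := this ▸ mem_top t
  simp only [SetLike.mem_coe, mem_iInf] at hd
  exact ⟨d, d.2, hdt, fun i hi => hd i hi⟩

/-- Scott's lemma: a subdirect subgroup of `T ^ ι` is a product of full diagonal subgroups. -/
theorem scott_lemma [IsSimpleGroup T] [Finite T] [Finite ι] (hT : ¬ IsMulCommutative T)
    {L : Subgroup (ι → T)} (hL : ∀ i, Function.Surjective (prj L i)) :
    ∃ (c : ι → ι) (φ : ι → T ≃* T), (∀ i j, c i = c j ↔ Linked L i j) ∧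
      ∀ f, f ∈ L ↔ ∀ i j, c i = c j → φ i (f i) = φ j (f j) := by
  classical
  let r : Setoid ι := ⟨Linked L, linked_equivalence L⟩
  let c : ι → ι := fun i => (Quotient.mk r i).out
  have hc : ∀ i, Linked L i (c i) := fun i => (linked_equivalence L).symm (Quotient.mk_out (s := r) i)
  have hcc : ∀ i j, c i = c j ↔ Linked L i j := by
    intro i j
    constructor
    · intro h
      exact (linked_equivalence L).trans (h ▸ hc i) ((linked_equivalence L).symm (hc j))
    · intro h
      have : Quotient.mk r i = Quotient.mk r j := Quotient.sound h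
      simp only [c, this]
  choose φ hφ using fun i => exists_aut_of_linked hL (hc i)
  have hfw : ∀ f ∈ L, ∀ i j, c i = c j → φ i (f i) = φ j (f j) := fun f hf i j h => by
    rw [← hφ i f hf, ← hφ j f hf, h]
  refine ⟨c, φ, hcc, fun f => ⟨hfw f, fun hf => ?_⟩⟩
  have key : ∀ S : Finset ι, ∃ g ∈ L, ∀ i ∈ S, g i = f i := by
    intro S
    induction S using Finset.induction_on with
    | empty => exact ⟨1, L.one_mem, by simp⟩
    | insert j S hj ih =>
      obtain ⟨g, hg, hgS⟩ := ih
      by_cases h : ∃ i ∈ S, Linked L i j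
      · obtain ⟨i, hi, hij⟩ := h
        refine ⟨g, hg, fun k hk => ?_⟩
        rcases Finset.mem_insert.1 hk with rfl | hk
        · apply (φ k).injective
          rw [← hfw g hg i k ((hcc _ _).2 hij), hgS i hi, hf i k ((hcc _ _).2 hij)]
        · exact hgS k hk
      · push Not at h
        obtain ⟨d, hd, hdj, hdS⟩ := exists_mem_of_not_linked hT hL j S h ((g j)⁻¹ * f j)
        refine ⟨g * d, L.mul_mem hg hd, fun k hk => ?_⟩
        rcases Finset.mem_insert.1 hk with rfl | hk
        · simp [hdj]
        · simp [hdS k hk, hgS k hk]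
  haveI := Fintype.ofFinite ι
  obtain ⟨g, hg, hgf⟩ := key Finset.univ
  have : g = f := funext fun i => hgf i (Finset.mem_univ i)
  exact this ▸ hg

end

end Cfsg.Agent.H57
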