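import Cfsg.Agent.H97.BcDefs

/-! `NormStmt`: a normal essential subgroup forces a cyclic derived group. -/

set_option autoImplicit false

namespace Cfsg.Agent.H57.BcN

open Cfsg Cfsg.Agent.H97 Cfsg.Agent.H97.Bc Cfsg.Agent.H5 Subgroup
open scoped commutatorElement

universe u

variable {G : Type*} [Group G]

theorem comm_le {N : Subgroup G} [N.Normal] {g h : G} (e : closure {g, h} = ⊤) (hc : ⁅g, h⁆ ∈ N) :
    _root_.commutator G ≤ N := by
  have c0 : Commute (QuotientGroup.mk' N g) (QuotientGroup.mk' N h) := by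
    rw [← commutatorElement_eq_one_iff_commute, ← map_commutatorElement]
    exact (QuotientGroup.eq_one_iff _).2 hc
  have key : ∀ b : G, Commute (QuotientGroup.mk' N g) (QuotientGroup.mk' N b) →
      Commute (QuotientGroup.mk' N h) (QuotientGroup.mk' N b) →
      ∀ a, Commute (QuotientGroup.mk' N a) (QuotientGroup.mk' N b) := by
    intro b h1 h2 a
    have ha : a ∈ closure ({g, h} : Set G) := e ▸ mem_top a
    induction ha using closure_induction with
    | mem a ha => rcases ha with rfl | rfl; exacts [h1, h2]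
    | one => simp
    | mul a a' _ _ i1 i2 => rw [map_mul]; exact i1.mul_left i2
    | inv a _ i1 => rw [map_inv]; exact i1.inv_left
  refine commutator_le.2 fun a _ b _ => (QuotientGroup.eq_one_iff _).1 ?_
  show QuotientGroup.mk' N _ = 1
  rw [map_commutatorElement, commutatorElement_eq_one_iff_commute]
  exact key b (key g (Commute.refl _) c0.symm b).symm (key h c0 (Commute.refl _) b).symm a

theorem two_mul_le [Finite G] {H K : Subgroup G} (hle : H ≤ K) {c : G} (hc : c ∈ K)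
    (hn : c ∉ H) : 2 * Nat.card H ≤ Nat.card K := by
  obtain ⟨d, hd⟩ := card_dvd_of_le hle
  have hp : 0 < Nat.card K := Nat.card_pos
  have h1 : d ≠ 1 := by
    rintro rfl
    exact hn ((eq_of_le_of_card_ge hle (by omega)).ge hc)
  have h0 : d ≠ 0 := by
    rintro rfl
    omega
  rw [hd, mul_comm]
  exact Nat.mul_le_mul_left _ (by omega)

theorem phi_mono [Finite G] (hG : IsPGroup 2 G) {A B : Subgroup G} (h : A ≤ B) : Phi A ≤ Phi B :=
  (Phi_le_of (p := 2) (N := Phi B ⊓ A) inf_le_right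
    (fun _ hx _ hy => ⟨comm_mem_Phi (hG.to_subgroup B) (h hx) (h hy),
      A.mul_mem (A.mul_mem (A.mul_mem hx hy) (A.inv_mem hx)) (A.inv_mem hy)⟩)
    fun _ hx => ⟨pow_mem_Phi (hG.to_subgroup B) (h hx), A.pow_mem hx 2⟩).trans inf_le_left

theorem phi_le [Finite G] (hG : IsPGroup 2 G) (A : Subgroup G) : Phi A ≤ frattini G :=
  (Phi_le_of (p := 2) (N := frattini G ⊓ A) inf_le_right
    (fun _ hx _ hy => ⟨H3.commutator_le_frattini hG (commutator_mem_commutator (mem_top _) (mem_top _)),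
      A.mul_mem (A.mul_mem (A.mul_mem hx hy) (A.inv_mem hx)) (A.inv_mem hy)⟩)
    fun _ hx => ⟨H3.pow_mem_frattini hG _, A.pow_mem hx 2⟩).trans inf_le_left

theorem mem_zp {c g : G} (h2 : c * c = 1) (hg : g ∈ zpowers c) : g = 1 ∨ g = c := by
  obtain ⟨k, rfl⟩ := hg
  have h2' : c ^ (2 : ℤ) = 1 := by rw [zpow_two, h2]
  rcases Int.even_or_odd' k with ⟨j, rfl | rfl⟩
  · left; simp only [zpow_mul, h2', one_zpow]
  · right; simp only [zpow_add, zpow_mul, h2', one_zpow, one_mul, zpow_one]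

theorem e8 [Finite G] {P R : Subgroup G} (h : ∀ E ≤ P, (∀ e ∈ E, e * e = 1) → Nat.card E ≤ 4)
    {a b c : G} (aP : a ∈ P) (bP : b ∈ P) (cP : c ∈ P) (aR : a ∈ R) (bR : b ∈ R) (cR : c ∉ R)
    (aa : a * a = 1) (bb : b * b = 1) (cc : c * c = 1) (ab : Commute a b) (ac : Commute a c)
    (bc : Commute b c) (a1 : a ≠ 1) (b1 : b ≠ 1) (ab1 : a * b ≠ 1) : False := by
  have l1 : zpowers a ≤ closure {a, b} := zpowers_le.2 (subset_closure (by simp))
  have l2 : closure {a, b} ≤ closure {a, b, c} := closure_mono (by rintro u (rfl | rfl) <;> simp)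
  have s1 := two_mul_le (bot_le (a := zpowers a)) (mem_zpowers a) (by simpa using a1)
  have s2 := two_mul_le l1 (c := b) (subset_closure (by simp)) fun e => by
    rcases mem_zp aa e with e | e
    exacts [b1 e, ab1 (by rw [e, aa])]
  have s3 := two_mul_le l2 (c := c) (subset_closure (by simp)) fun e =>
    cR ((closure_le R).2 (by rintro u (rfl | rfl); exacts [aR, bR]) e)
  have cm : ∀ u ∈ ({a, b, c} : Set G), ∀ v ∈ ({a, b, c} : Set G), u * v = v * u := by
    rintro u (rfl | rfl | rfl) v (rfl | rfl | rfl)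
    exacts [rfl, ab, ac, ab.symm, rfl, bc, ac.symm, bc.symm, rfl]
  have cm' : ∀ u ∈ closure ({a, b, c} : Set G), ∀ v ∈ closure ({a, b, c} : Set G), Commute u v := by
    have := isMulCommutative_closure cm
    intro u hu v hv
    exact congrArg Subtype.val (this.is_comm.comm (⟨u, hu⟩ : closure ({a, b, c} : Set G)) ⟨v, hv⟩)
  have s4 := h (closure {a, b, c}) ((closure_le P).2 (by
    rintro u (rfl | rfl | rfl); exacts [aP, bP, cP])) fun e he => by
    induction he using closure_induction with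
    | mem u hu => rcases hu with rfl | rfl | rfl; exacts [aa, bb, cc]
    | one => simp
    | mul u v hu hv i1 i2 => rw [(cm' u hu v hv).symm.mul_mul_mul_comm, i1, i2, mul_one]
    | inv u _ i1 => rw [← mul_inv_rev, i1, inv_one]
  rw [card_bot] at s1
  omega

theorem norm : NormStmt.{u} := by
  intro G _ _ x hs Q R C α hD hN
  have hG := hs.pG
  have nQ : ∀ g : G, g ∈ normalizer (Q : Set G) := fun g => hN ▸ mem_top g
  have nR : ∀ g : G, g ∈ normalizer (R : Set G) := fun g => hD.nR (nQ g)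
  have Rn : R.Normal := normalizer_eq_top_iff.1 (top_le_iff.1 fun g _ => nR g)
  have Fn : (Phi R).Normal := ⟨fun r hr g => conj_mem_Phi (nR g) hr⟩
  have iQ : Q.index = 2 := by
    have := hD.idx
    rwa [hN, relIndex_top_right] at this
  obtain ⟨t, ht⟩ : ∃ t, t ∉ Q := by
    by_contra e
    push Not at e
    rw [(eq_top_iff' Q).2 e, index_top] at iQ
    omega
  have PQ : frattini G ≤ Q := by
    refine H3.frattini_le_of_elementary_quotient Nat.prime_two ?_ (sq_mem_of_index_two iQ)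
    refine commutator_le.2 fun a _ b _ => ?_
    simp only [commutatorElement_def, mul_mem_iff_of_index_two iQ, inv_mem_iff]
    tauto
  have AP := H3.commutator_le_frattini hG
  have gen : ∀ q ∈ Q, q ∉ frattini G → closure {t, q} = ⊤ := fun q hq hq' =>
    hs.gen t q (fun e => ht (PQ e)) hq' fun e => ht ((mul_mem_cancel_right hq).1 (PQ e))
  have cA : ∀ a b : G, ⁅a, b⁆ ∈ _root_.commutator G := fun a b =>
    commutator_mem_commutator (mem_top _) (mem_top _)
  have cR : ∀ g : G, ∀ r ∈ R, ⁅g, r⁆ ∈ R := fun g r hr => mul_mem (Rn.conj_mem r hr g) (inv_mem hr)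
  obtain ⟨r, hr, hr2⟩ : ∃ r ∈ R, ⁅t, r⁆ ∉ Phi R := by
    by_contra e
    push Not at e
    exact ht ((hD.act t (nQ t)).2 e)
  obtain ⟨r1, h1R, h1P⟩ : ∃ r1 ∈ R, r1 ∉ frattini G := by
    by_contra e
    push Not at e
    refine hr2 (hD.phiQ _ (cR t r hr) ?_)
    rw [← commutatorElement_inv]
    exact inv_mem (phi_mono hG PQ (hs.triv r (e r hr) t))
  have AR : _root_.commutator G ≤ R := comm_le (gen r1 (hD.RQ h1R) h1P) (cR t r1 h1R)
  set r2 := ⁅t, r⁆ with hr2e
  have h2R : r2 ∈ R := cR t r hr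
  have h2P : r2 ∈ frattini G := AP (cA t r)
  have FP : Phi R ≤ frattini G := phi_le hG R
  have small : Phi R ≤ zpowers r2 → IsCyclic (_root_.commutator G) := by
    intro hle
    have l1 : Phi R ≤ R ⊓ frattini G := le_inf (Phi_le R) FP
    have e := relIndex_mul_relIndex (Phi R) (R ⊓ frattini G) R l1 inf_le_left
    rw [hD.idxR] at e
    have n1 : (Phi R).relIndex (R ⊓ frattini G) ≠ 1 := fun e => hr2 (relIndex_eq_one.1 e ⟨h2R, h2P⟩)
    have n2 : (R ⊓ frattini G).relIndex R ≠ 1 := fun e => h1P (relIndex_eq_one.1 e h1R).2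
    have e2 : (Phi R).relIndex (R ⊓ frattini G) = 2 := by
      have : (Phi R).relIndex (R ⊓ frattini G) ≤ 4 := Nat.le_of_dvd (by norm_num) ⟨_, e.symm⟩
      generalize (Phi R).relIndex (R ⊓ frattini G) = i at *
      generalize (R ⊓ frattini G).relIndex R = j at *
      interval_cases i <;> omega
    obtain ⟨c, -, hc⟩ := relIndex_eq_two_iff.1 e2
    refine isCyclic_of_le (H' := zpowers r2) fun a ha => ?_
    by_cases haF : a ∈ Phi R
    · exact hle haF
    have a1 := ((hc a ⟨AR ha, AP ha⟩).resolve_right fun e => haF e.1).1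
    have a2 := ((hc r2 ⟨h2R, h2P⟩).resolve_right fun e => hr2 e.1).1
    have : a = a * c * (r2 * c)⁻¹ * r2 := by group
    rw [this]
    exact mul_mem (hle (mul_mem a1 (inv_mem a2))) (mem_zpowers _)
  rcases hD.typ with ⟨m, hm⟩ | ⟨z, hz⟩
  swap
  · refine small fun a ha => ?_
    rcases (hz.phi a).1 ha with rfl | rfl
    · exact one_mem _
    · rw [← hz.sq r2 h2R hr2]; exact mul_mem (mem_zpowers _) (mem_zpowers _)
  rcases hm.pos.eq_or_lt with rfl | m2
  · refine small fun a ha => ?_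
    have := hm.phi a ha
    simp only [Nat.sub_self, pow_zero, pow_one] at this
    rw [this]; exact one_mem _
  obtain ⟨n, rfl⟩ : ∃ n, m = n + 2 := ⟨m - 2, by omega⟩
  have CP : C ≤ frattini G := by
    intro h hh
    obtain ⟨hQ, hα⟩ := (hD.memC h).1 hh
    by_contra hP
    refine hr2 (comm_le (N := Phi R) (gen h hQ hP) ?_ (cA t r))
    obtain ⟨q, hq, e⟩ := mem_inn_iff.1 (hD.inv t (nQ t) ht)
    have hw : t * h * t⁻¹ ∈ Q := (mem_normalizer_iff.1 (nQ t) h).1 hQ
    have α2 : α * (α * α) = 1 := by rw [← hD.a3, pow_succ', pow_two]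
    have e1 := e _ (ext_mem (α * α) hw)
    rw [ext_mul, ← ext_mul α, α2, ext_one, ext_mul, ext_mul, ← ext_conjAut (nQ t) hQ, ext_inv_ext,
      hα, ext_conjAut (nQ t) hQ] at e1
    have hc : ⁅t, h⁆ ∈ R := AR (cA t h)
    have e2 : t * h * t⁻¹ = ⁅t, h⁆ * h := by rw [commutatorElement_def]; group
    have hs' : ext (α * α) ⁅t, h⁆ ∈ R := by rw [ext_mul]; exact hD.aR _ (hD.aR _ hc)
    have e3 : ext (α * α) h = h := by rw [ext_mul, hα, hα]
    rw [e2, (homOn_ext _).map_mul (hD.RQ hc) hQ, e3] at e1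
    have e4 : ext α (ext (α * α) ⁅t, h⁆) = ⁅t, h⁆ := by rw [← ext_mul, α2, ext_one]
    generalize ext (α * α) ⁅t, h⁆ = s at hs' e1 e4
    have e5 : s⁻¹ * ⁅t, h⁆ = s⁻¹ * q * s⁻¹⁻¹ * q⁻¹ * (q * h * q⁻¹ * h⁻¹) := by
      rw [eq_mul_inv_of_mul_eq e1]; group
    have hQ2 := hG.to_subgroup Q
    have e6 : s⁻¹ * ⁅t, h⁆ ∈ Phi R := by
      refine hD.phiQ _ (mul_mem (inv_mem hs') hc) ?_
      rw [e5, inv_inv]
      refine mul_mem ?_ (comm_mem_Phi hQ2 hq hQ)
      simpa using comm_mem_Phi hQ2 (inv_mem (hD.RQ hs')) hq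
    have e7 := hD.fpf s hs' (by rwa [e4])
    simpa using mul_mem e7 e6
  have C1 : ∀ h ∈ C, h = 1 := by
    intro h hh
    by_contra h1
    obtain ⟨h0, hh0, i1, i2⟩ : ∃ h0 ∈ C, h0 ≠ 1 ∧ h0 * h0 = 1 := by
      obtain ⟨k, hk⟩ := (IsPGroup.iff_orderOf.1 hG) h
      obtain _ | k := k
      · exact (h1 (by simpa using hk)).elim
      refine ⟨h ^ 2 ^ k, pow_mem hh _, fun e => ?_, ?_⟩
      · have := orderOf_dvd_of_pow_eq_one e
        rw [hk, Nat.pow_dvd_pow_iff_le_right (by norm_num)] at this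
        omega
      · rw [← pow_add, ← two_mul, ← pow_succ', ← hk, pow_orderOf_eq_one]
    have w1 : ∀ r ∈ R, r ∉ Phi R → r ^ 2 ^ (n + 1) ≠ 1 := fun r hr hr' e => by
      have := orderOf_dvd_of_pow_eq_one e
      rw [hm.ord r hr hr', Nat.pow_dvd_pow_iff_le_right (by norm_num)] at this
      omega
    have w2 : ∀ r ∈ R, r ∉ Phi R → r ^ 2 ^ (n + 1) * r ^ 2 ^ (n + 1) = 1 := fun r hr hr' => by
      rw [← pow_add, ← two_mul, ← pow_succ', ← hm.ord r hr hr', pow_orderOf_eq_one]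
    have w3 : ∀ r : G, r ^ 2 ^ (n + 1) ∈ frattini G := fun r => by
      rw [pow_succ, pow_mul]; exact H3.pow_mem_frattini hG _
    have w4 : ∀ r ∈ R, Commute (r ^ 2 ^ (n + 1)) h0 := fun r hr => by
      have f := (hD.act h0 (nQ h0)).1 ((hD.memC h0).1 hh0).1 r hr
      have e : h0 * r * h0⁻¹ = ⁅h0, r⁆ * r := by rw [commutatorElement_def]; group
      have e' : h0 * r ^ 2 ^ (n + 1) * h0⁻¹ = r ^ 2 ^ (n + 1) := by
        rw [← conj_pow, e, (hm.comm _ (Phi_le R f) r hr).mul_pow]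
        have := hm.phi _ f
        rw [show n + 2 - 1 = n + 1 from rfl] at this
        rw [this, one_mul]
      exact (eq_mul_of_mul_inv_eq e').symm
    have h1F : r1 ∉ Phi R := fun e => h1P (FP e)
    have h3F : r1 * r2 ∉ Phi R := fun e => h1P ((mul_mem_cancel_right h2P).1 (FP e))
    refine e8 (R := R) hs.e8 (w3 r1) (w3 r2) (CP hh0) (pow_mem h1R _) (pow_mem h2R _)
      (fun e => i1 (mem_bot.1 (hm.inf ▸ (⟨e, hh0⟩ : h0 ∈ R ⊓ C)))) (w2 r1 h1R h1F)
      (w2 r2 h2R hr2) i2 (hm.comm _ (pow_mem h1R _) _ (pow_mem h2R _)) (w4 r1 h1R) (w4 r2 h2R) (w1 r1 h1R h1F)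
      (w1 r2 h2R hr2) ?_
    rw [← (hm.comm _ h1R _ h2R).mul_pow]
    exact w1 _ (mul_mem h1R h2R) h3F
  have QR : Q ≤ R := fun q hq => by
    obtain ⟨h, hh, e⟩ := hD.cyc
    obtain ⟨r, hr, k, rfl⟩ := e q hq
    rw [C1 h hh, one_pow, mul_one]; exact hr
  have tt : t * t ∈ R := QR (by simpa [pow_two] using sq_mem_of_index_two iQ t)
  have cn : (zpowers ⁅t, r1⁆).Normal := by
    have c1 := cR t r1 h1R
    rw [← normalizer_eq_top_iff, eq_top_iff, ← gen r1 (hD.RQ h1R) h1P, closure_le]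
    have key : ∀ g : G, g * ⁅t, r1⁆ * g⁻¹ ∈ zpowers ⁅t, r1⁆ →
        g ∈ normalizer ((zpowers ⁅t, r1⁆ : Subgroup G) : Set G) := by
      intro g hg
      refine mem_normalizer_fintype fun a ha => ?_
      obtain ⟨k, rfl⟩ := ha
      simp only
      rw [← conj_zpow]; exact zpow_mem hg k
    rintro g (rfl | rfl)
    · refine key g ?_
      have e : g * ⁅g, r1⁆ * g⁻¹ = (g * g) * r1 * (g * g)⁻¹ * (g * r1 * g⁻¹)⁻¹ := by
        rw [commutatorElement_def]; group
      rw [e, (hm.comm _ tt _ h1R).eq, mul_inv_cancel_right]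
      have : r1 * (g * r1 * g⁻¹)⁻¹ = ⁅g, r1⁆⁻¹ := by rw [commutatorElement_def]; group
      rw [this]; exact inv_mem (mem_zpowers _)
    · refine key g ?_
      rw [(hm.comm _ h1R _ c1).eq, mul_inv_cancel_right]; exact mem_zpowers _
  exact isCyclic_of_le (comm_le (gen r1 (hD.RQ h1R) h1P) (mem_zpowers _))

end Cfsg.Agent.H57.BcN
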