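import Cfsg.Agent.H86.CksExt
import Cfsg.Agent.H75.LieModel
import Cfsg.Agent.H75.O8XM2
import Cfsg.Agent.H15.O8B
import Cfsg.Agent.H49.T3Mt
import Cfsg.Agent.H3.Frattini
import Cfsg.Agent.S1068
import Cfsg.Agent.S1069
import Cfsg.Agent.S1072
import Cfsg.Agent.S1073
import Cfsg.Agent.S1162
import Cfsg.Agent.S1163

/-! The systems of the Suzuki groups and of the Ree groups. -/

set_option autoImplicit false

namespace Cfsg.Agent.H57.CksMdr

open Cfsg.Lie Cfsg.Agent.H34 Cfsg.Agent.H75 Cfsg.Agent.H75.T3G Cfsg.Agent.Lead.T3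
  Cfsg.Agent.H74.Cks
open scoped commutatorElement

theorem fac {p k l r n : ℕ} (hp : p.Prime) (h : n = (p ^ k) ^ l * r) (hr : ¬ p ∣ r) :
    p ^ n.factorization p = (p ^ k) ^ l := by
  have h0 : r ≠ 0 := fun e => hr (e ▸ dvd_zero p)
  rw [h, ← pow_mul, Nat.factorization_mul (pow_ne_zero _ hp.ne_zero) h0, Finsupp.add_apply,
    Nat.factorization_eq_zero_of_not_dvd hr, hp.factorization_pow, Finsupp.single_eq_same, add_zero]

theorem nd_sub {p k : ℕ} (hp : p.Prime) : ¬ p ∣ p ^ (k + 1) - 1 := fun h =>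
  hp.one_lt.ne' (Nat.dvd_one.1 ((Nat.dvd_sub_iff_right (Nat.one_le_pow _ _ hp.pos)
    (dvd_pow_self p k.succ_ne_zero)).1 h))

theorem nd_sub' {p k l : ℕ} (hp : p.Prime) : ¬ p ∣ (p ^ (k + 1)) ^ (l + 1) - 1 := by
  rw [← pow_mul, Nat.mul_succ, ← add_assoc]; exact nd_sub hp

theorem nd_add {p k l : ℕ} (hp : p.Prime) : ¬ p ∣ (p ^ (k + 1)) ^ (l + 1) + 1 := fun h =>
  hp.one_lt.ne' (Nat.dvd_one.1 ((Nat.dvd_add_right
    ((dvd_pow_self p k.succ_ne_zero).trans (dvd_pow_self _ l.succ_ne_zero))).1 h))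

theorem has1 {Γ : Type} [Group Γ] [Finite Γ] [IsSimpleGroup Γ] {p : ℕ} [Fact p.Prime]
    (M : Model.{0, 0} p Γ) (i : M.ι) (hi : M.τ.T.orb i = Set.univ)
    (hH : ∀ a ∈ M.H, ∀ b ∈ M.H, a * b = b * a) :
    Has1 Γ p (p ^ (Nat.card Γ).factorization p) := by
  have hU : M.UJ i = M.U := by
    ext g
    change M.j g ∈ M.P.U {r | r ∈ M.S.Phi (M.τ.T.orb i) ∧ M.S.pos r} ⊓ M.τ.fix ↔
      M.j g ∈ M.P.U {r | M.S.pos r}
    rw [hi, M.P.phi_univ, Subgroup.mem_inf, and_iff_left (M.j_mem_fix g)]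
    simp only [Set.mem_univ, true_and]
  have h : MD M (n := 1) (fun _ _ => 1) (fun _ => p ^ (Nat.card Γ).factorization p) fun _ => i :=
    ⟨fun k => ⟨0, hi ▸ Set.mem_univ k⟩,
      fun _ _ => by rw [ref, M.S.wJ_mul_self, orderOf_one],
      fun _ => by rw [← card_UJ, hU, M.card_U]⟩
  obtain ⟨S, -, h2, -⟩ := H86.CksExt.ext M h (fun a b _ => Subsingleton.elim a b) hH
  exact ⟨S, h2 0⟩

section Sz

open Equiv H34.Split H80 H78 H78.Frame H26 H26.PForm Module H39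
open Matrix hiding J J_transpose

theorem rd4_comm {F : Type} [Field F] [CharP F 2] :
    ∀ a ∈ (rd4 F).H, ∀ b ∈ (rd4 F).H, a * b = b * a := fun a ha b hb => by
  refine j4_inj ((frame4 F).ext_frame (fun c => ?_) fun w hw => by
    rw [show w = 0 by simpa [frame4_V0] using hw]; simp)
  obtain ⟨s, e⟩ := ha.2.2 c
  obtain ⟨t, e'⟩ := hb.2.2 c
  replace e : j4 F a ((frame4 F).e c) = s • (frame4 F).e c := e
  replace e' : j4 F b ((frame4 F).e c) = t • (frame4 F).e c := e'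
  rw [map_mul, map_mul, LinearEquiv.mul_apply, LinearEquiv.mul_apply, e, e', map_smul, map_smul, e, e',
    smul_comm]

theorem exists_sz {F : Type} [Field F] [Fintype F] {m : ℕ} (hF : Fintype.card F = 2 ^ (2 * m + 1)) :
    ∃ (M : Model.{0, 0} 2 (Lie.Sz F (2 ^ (m + 1)))) (i : M.ι), M.τ.T.orb i = Set.univ ∧
      ∀ a ∈ M.H, ∀ b ∈ M.H, a * b = b * a := by
  have := charP_of_card hF
  let θ := RingEquiv.ofBijective (titsOf hF).θ
    (Finite.injective_iff_bijective.1 (titsOf hF).θ.injective)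
  have h1 : ∀ g : Sp4 F, σSz θ.symm g = g ↔ star4 g.1.1 = g.1.1.map fun x => x ^ 2 ^ (m + 1) :=
    fun g => by
      rw [Subtype.ext_iff, Units.ext_iff, σSz_val, ← Matrix.ext_iff, ← Matrix.ext_iff]
      exact forall₂_congr fun i j => θ.symm_apply_eq
  have h2 : Lie.Sz F (2 ^ (m + 1)) ≤ Sp4 F := (Subgroup.closure_le _).2 fun _ h => h.1
  have h3 : 2 * (√2 / 2) ^ 2 = 1 := by
    rw [div_pow, Real.sq_sqrt zero_le_two]
    norm_num
  refine ⟨(rdl4 (F := F)).model (coordBC_conn hB2 two_pos (Or.inl trivial) _ _)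
    (fun r _ => frameRD'_isPGroup _ _ _ _ _ _ _ 2 r) (frameRD'_noTors _ _ _ _ _ _ _ 2
      fun g _ h _ => (frame4 F).ext_frame h fun w hw => by
        rw [show w = 0 by simpa [frame4_V0] using hw]; simp)
    (twistSz θ.symm) (symB_compat _ h3)
    (Subgroup.inclusion h2) (Subgroup.inclusion_injective _) (fun g hg => ?_) ?_,
    (0 : Fin 2), symB_orb 0, fun a ha b hb => Subgroup.inclusion_injective h2 ?_⟩
  · have h4 : σSz θ.symm g = g := Twist.G1_le_fix _ hg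
    exact ⟨⟨g.1, Subgroup.subset_closure ⟨g.2, (h1 g).1 h4⟩⟩, rfl⟩
  · rintro _ ⟨⟨g, hg⟩, rfl⟩
    exact (h1 ⟨g, h2 hg⟩).2 ((lieSz_eq hF).le hg).2
  · rw [map_mul, map_mul]
    exact rd4_comm _ ha _ hb

end Sz

theorem mdr : MdrStmt := fun F _ _ m hm => ⟨fun hF => by
  have := S1162.result hm hF
  obtain ⟨M, i, hi, hH⟩ := exists_sz hF
  have h := has1 M i hi hH
  rwa [fac Nat.prime_two ((S1163.result hm hF).1.trans (mul_assoc ..))
    (Nat.prime_two.not_dvd_mul (nd_sub Nat.prime_two) (nd_add Nat.prime_two)), ← hF] at h, fun hF => by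
  have : Fact (Nat.Prime 3) := ⟨Nat.prime_three⟩
  have := (S1073.result hm hF).1
  obtain ⟨_, θ, h1, h2⟩ := exists_theta hF
  have h := has1 (model2G2 θ h2 h1) (0 : Fin 2) (Set.eq_univ_of_forall fun j : Fin 2 =>
      ((sG2 θ h2).mem_orb_iff twDataG2 (0 : Fin 2) j).2 (by revert j; decide +kernel))
    fun a ha b hb => (model2G2 θ h2 h1).inj (by
      rw [map_mul, map_mul]; exact Cert.H_comm (C := cG2) _ ha _ hb)
  rwa [fac Nat.prime_three ((S1069.result hF).trans (mul_assoc ..))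
    (Nat.prime_three.not_dvd_mul (nd_sub Nat.prime_three) (nd_add Nat.prime_three)), ← hF] at h⟩

section gen

open H15.O8 H39

variable {K : Type} [Field K] {T : Tits K}

theorem top_of_comm {c : K} (hc : T.θ c ≠ c) {N : Subgroup (U T)} (h1 : ∀ u v : U T, ⁅u, v⁆ ∈ N)
    (k1 : ∀ t, x1 T t ∈ N) (l8 : ∀ t, y8 T t ∈ N) (k8 : ∀ t, x8 T t ∈ N) (u : U T) : u ∈ N := by
  have := T.charP
  have k2 : ∀ t, x2 T t ∈ N := fun t => mul_one t ▸ cm14 (T := T) t 1 ▸ h1 _ _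
  have k3 : ∀ t, x3 T t ∈ N := fun t => mul_one t ▸ cm24 (T := T) t 1 ▸ h1 _ _
  have k4 : ∀ t, x4 T t ∈ N := fun t => mul_one t ▸ cm16 (T := T) t 1 ▸ h1 _ _
  have k5 : ∀ t, x5 T t ∈ N := fun t => mul_one t ▸ cm46 (T := T) t 1 ▸ h1 _ _
  have k6 : ∀ t, x6 T t ∈ N := fun t => mul_one t ▸ cm47 (T := T) t 1 ▸ h1 _ _
  have k7 : ∀ t, x7 T t ∈ N := fun t => mul_one t ▸ cm68 (T := T) t 1 ▸ h1 _ _
  have : N.Normal := ⟨fun n hn g => by
    simpa [commutatorElement_def] using mul_mem (h1 g n) hn⟩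
  let π := QuotientGroup.mk' N
  have hπ : ∀ {x}, x ∈ N → π x = 1 := fun h => (QuotientGroup.eq_one_iff _).2 h
  have key : ∀ u : U T, π u = π (y2 T u.b2) * π (y4 T u.b4) * π (y6 T u.b6) := fun u => by
    conv_lhs => rw [nf u]
    simp only [map_mul, hπ (k1 _), hπ (k2 _), hπ (k3 _), hπ (k4 _), hπ (k5 _), hπ (k6 _), hπ (k7 _),
      hπ (k8 _), hπ (l8 _), one_mul, mul_one]
  have z2 : y2 T 0 = 1 := rfl
  have z4 : y4 T 0 = 1 := rfl
  have z6 : y6 T 0 = 1 := rfl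
  have c18 : ∀ t v, π (y4 T (T.θ t * v)) * π (y6 T (t * v)) = 1 := fun t v => by
    have e2 : ⁅x1 T t, x8 T v⁆.b2 = 0 := by o8s
    have e4 : ⁅x1 T t, x8 T v⁆.b4 = T.θ t * v := by o8s
    have e6 : ⁅x1 T t, x8 T v⁆.b6 = t * v := by o8s
    have := key ⁅x1 T t, x8 T v⁆
    rwa [hπ (h1 _ _), e2, e4, e6, z2, map_one, one_mul, eq_comm] at this
  have ad : ∀ a b, π (y4 T a) * π (y4 T b) = π (y4 T (b + a)) := fun a b => by
    have e2 : (y4 T a * y4 T b).b2 = 0 := by o8s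
    have e4 : (y4 T a * y4 T b).b4 = b + a := by o8s
    have e6 : (y4 T a * y4 T b).b6 = 0 := by o8s
    rw [← map_mul, key, e2, e4, e6, z2, z6, map_one, one_mul, mul_one]
  have l4 : ∀ t, π (y4 T t) = 1 := fun t => by
    have h0 : T.θ c + c ≠ 0 := fun e => hc (CharTwo.add_eq_zero.1 e)
    obtain ⟨v, rfl⟩ : ∃ v, t = c * v + T.θ c * v :=
      ⟨(T.θ c + c)⁻¹ * t, by rw [← add_mul, add_comm c, mul_inv_cancel_left₀ h0]⟩
    have e1 := c18 1 (c * v)
    rw [map_one, one_mul] at e1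
    rw [← ad, mul_right_cancel ((c18 c v).trans e1.symm), ad, CharTwo.add_self_eq_zero, z4, map_one]
  have l6 : ∀ t, π (y6 T t) = 1 := fun t => by
    have e1 := c18 1 t
    rwa [l4, one_mul, one_mul] at e1
  have l2 : ∀ t, π (y2 T t) = 1 := fun t => by
    have e2 : ⁅x1 T 1, y8 T t⁆.b2 = t := by o8s
    have := key ⁅x1 T 1, y8 T t⁆
    rwa [hπ (h1 _ _), e2, l4, l6, mul_one, mul_one, eq_comm] at this
  exact (QuotientGroup.eq_one_iff u).1 ((key u).trans (by rw [l2, l4, l6, mul_one, mul_one]))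

theorem top_of_gen [Finite K] {c : K} (hc : T.θ c ≠ c) {N : Subgroup (U T)}
    (k1 : ∀ t, x1 T t ∈ N) (l8 : ∀ t, y8 T t ∈ N) (k8 : ∀ t, x8 T t ∈ N) : N = ⊤ := by
  have : Fact (Nat.Prime 2) := ⟨Nat.prime_two⟩
  refine (eq_top_or_exists_le_coatom N).resolve_right fun ⟨M, hM, h⟩ => hM.1 (eq_top_iff.2 fun u _ => ?_)
  exact top_of_comm hc (fun u v => frattini_le_coatom hM (H3.commutator_le_frattini isPGroup_U
    (Subgroup.commutator_mem_commutator (Subgroup.mem_top u) (Subgroup.mem_top v))))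
    (fun t => h (k1 t)) (fun t => h (l8 t)) (fun t => h (k8 t)) u

end gen

/-- The numbering of the orbits of nodes. -/
def nb : Fin 2 → Fin 4 := ![0, 1]

theorem md {K : Type} [Field K] [Fintype K] [CharP K 2] {r : ℕ}
    (θ : K →+* K) (h2 : ∀ t, θ (θ t) ^ 2 = t) (h1 : ∀ t, θ t = t ^ r) :
    MD (model2F4 θ h2 h1) (fun a b => if a = b then 1 else 8)
      (fun a => Nat.card ((tF4 θ h2).UJ (nb a))) nb where
  sur := fun i : Fin 4 => by
    obtain ⟨a, ha⟩ : ∃ a, (i : ℕ) = nb a ∨ (i : ℕ) = symF4.getD (nb a) 0 := by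
      revert i; decide +kernel
    exact ⟨a, ((sF4 θ h2).mem_orb_iff twDataF4 (nb a) i).2 (ha.imp_right .inl)⟩
  ord a b := by
    have hW := isOrbWords_F4 (isCartan_F4 cF4) _ (F4_π θ h2)
    have k : ∀ a b : Fin 2, 0 < (if a = b then 1 else 8) ∧ ∀ m ≤ (if a = b then 1 else 8), 0 < m →
        ((actE cartF4 (List.replicate m (orbwF4.getD (nb a) [] ++ orbwF4.getD (nb b) [])).flatten
          (List.replicate 4 1, 0)).1 = List.replicate 4 1 ↔ m = if a = b then 1 else 8) := by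
      decide +kernel
    exact (orderOf_eq_iff (k a b).1).2
      ⟨(H49.T3Mt.pow_iff hW (isCartan_F4 cF4) (nb a) (nb b) _).2
          (((k a b).2 _ le_rfl (k a b).1).2 rfl),
        fun m hm h0 e => hm.ne (((k a b).2 m hm.le h0).1
          ((H49.T3Mt.pow_iff hW (isCartan_F4 cF4) (nb a) (nb b) _).1 e))⟩
  card _ := rfl

theorem mdf : MdfStmt := fun F _ _ m hm hF => by
  have : Fact (Nat.Prime 2) := ⟨Nat.prime_two⟩
  have := (S1072.result hm hF).1
  obtain ⟨_, θ, h1, h2⟩ := exists_theta hF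
  let M := model2F4 θ h2 h1
  obtain ⟨S, hm', -, hX, hU⟩ := H86.CksExt.ext M (md θ h2 h1)
    (fun a b h => by by_contra e; simp [e] at h)
    fun a ha b hb => M.inj (by rw [map_mul, map_mul]; exact Cert.H_comm (C := cF4) _ ha _ hb)
  refine ⟨S, hm' 0 1, fun _ => ?_⟩
  have p2 := Nat.prime_two
  have hc : Nat.card M.U = Nat.card F ^ 12 := by
    rw [M.card_U, fac p2 ((S1068.result hF).trans (by rw [mul_assoc, mul_assoc, mul_assoc]))
      (p2.not_dvd_mul (nd_sub p2) (p2.not_dvd_mul (nd_add p2) (p2.not_dvd_mul (nd_sub' p2)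
        (nd_add p2)))), ← hF, Nat.card_eq_fintype_card]
  obtain ⟨c, hc'⟩ : ∃ c : F, (H80.TF4.tits h2).θ c ≠ c := by
    by_contra! h
    have : 2 ^ 3 ≤ 2 ^ (2 * m + 1) := Nat.pow_le_pow_right two_pos (by omega)
    obtain ⟨a, ha⟩ := H15.O8.CF.exists_unit_ne (K := F) (by rw [Nat.card_eq_fintype_card]; omega)
    have := (H80.TF4.tits h2).θθ a
    rw [h, h, sq, eq_comm, mul_eq_left₀ a.ne_zero] at this
    exact ha (Units.ext this)
  have hl : ∀ a, ∀ g ∈ (tF4 θ h2).UJ (nb a), g ∈ (⨆ a, S.X a).map M.j := fun a g hg => by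
    obtain ⟨x, rfl⟩ := M.exists_of_G1 (M.τ.UJ_le_G1 (nb a) hg)
    exact ⟨x, Subgroup.mem_iSup_of_mem a (hX a ▸ hg), rfl⟩
  have ht : ((⨆ a, S.X a).map M.j).comap (O8.φ (H80.TF4.tits h2)) = ⊤ := by
    have hb : ∀ t v, O8.gw (H80.TF4.tits h2) 10 t * O8.gw (H80.TF4.tits h2) 11 v ∈
        (⨆ a, S.X a).map M.j := fun t v => by
      have := hl 1 _ ((F4_UJb θ h2 orbF4_1).2 ⟨θ t ^ 2, v, rfl⟩)
      rwa [O8.wb h2, O8.θ_σ h2] at this
    refine top_of_gen hc' (fun t => ?_) (fun t => ?_) fun t => ?_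
    · have := hl 0 _ ((F4_UJa θ h2 orbF4_0).2 ⟨θ t ^ 2, rfl⟩)
      rwa [O8.wa h2, O8.θ_σ h2, ← O8.φ0] at this
    · have := hb t 0
      rwa [O8.gw_zero, mul_one, ← O8.φ10] at this
    · have := hb 0 t
      rwa [O8.gw_zero, one_mul, ← O8.φ11] at this
  refine Subgroup.eq_of_le_of_card_ge (hU ▸ iSup_le fun a => hX a ▸ M.UJ_le_U _) ?_
  have : Finite M.G := inferInstanceAs (Finite (chevF4.group F))
  rw [hU, hc, ← H15.O8.card_U (T := H80.TF4.tits h2),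
    ← Subgroup.card_map_of_injective (K := ⨆ a, S.X a) M.inj]
  exact Nat.card_le_card_of_injective
    (fun u => ⟨O8.φ (H80.TF4.tits h2) u, ht.ge (Subgroup.mem_top u)⟩)
    fun u v e => O8.φ_inj _ (congrArg Subtype.val e)

end Cfsg.Agent.H57.CksMdr
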