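import Cfsg.Agent.H96.D4Defs

/-! The subgroup `J'` of the Sylow subgroup of `³D₄(q)` is not essential. -/

set_option autoImplicit false

namespace Cfsg.Agent.H57.D4JP

open Cfsg.Agent.H97 Cfsg.Agent.H96.VB Cfsg.Agent.H96.CP Cfsg.Agent.H96.DF Subgroup
open scoped commutatorElement

universe u

theorem dvd_ncard {G : Type*} [Group G] [Finite G] {p : ℕ} [Fact p.Prime] (hG : IsPGroup p G)
    {P R : Subgroup G} (h : P < R) {S : Set G} (hS : ∀ c ∈ S, ∀ r ∈ R, c * r ∈ S) :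
    p * Nat.card P ∣ S.ncard := by
  have e : S = QuotientGroup.mk ⁻¹' ((QuotientGroup.mk : G → G ⧸ R) '' S) := by
    ext x
    refine ⟨fun hx => ⟨x, hx, rfl⟩, fun ⟨c, hc, k⟩ => ?_⟩
    simpa using hS c hc _ (QuotientGroup.eq.1 k)
  have h1 : Nat.card R ∣ S.ncard := by
    rw [e, ← Nat.card_coe_set_eq, QuotientGroup.card_preimage_mk]
    exact dvd_mul_right _ _
  refine Dvd.dvd.trans ?_ h1
  obtain ⟨k, hk⟩ := (hG.to_subgroup R).index (P.subgroupOf R)
  have k0 : k ≠ 0 := fun e => by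
    rw [e, pow_zero, index_eq_one, subgroupOf_eq_top] at hk
    exact h.not_ge hk
  rw [← (P.subgroupOf R).index_mul_card, hk, Nat.card_congr (subgroupOfEquivOfLe h.le).toEquiv]
  exact Nat.mul_dvd_mul_right (dvd_pow_self p k0) _

variable {F K : Type u} [Field F] [Field K] [Algebra F K] {C : Tri F K}

theorem W_le : W C ≤ J' C := fun _ h => ⟨h.2.1, h.2.2.1⟩

theorem W_le_Y : W C ≤ Y C := fun _ h => ⟨h.1, h.2.1, h.2.2.1⟩

theorem comm_EW {g w : U C} (hg : g ∈ E C) (hw : w ∈ W C) : ⁅g, w⁆ = 1 := by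
  obtain ⟨h1, h2, h3, h4⟩ := hw
  have h0 : g.u = 0 := hg
  ext <;> simp [comm_y, comm_x, comm_a, comm_z_E h0 h2, *]

theorem conj_W {g w : U C} (hg : g ∈ E C) (hw : w ∈ W C) : g * w * g⁻¹ = w := by
  rw [commutatorElement_eq_one_iff_mul_comm.1 (comm_EW hg hw), mul_inv_cancel_right]

theorem comm_EJ {g k : U C} (hg : g ∈ E C) (hk : k ∈ J' C) : ⁅g, k⁆ ∈ Y C := by
  have h0 : g.u = 0 := hg
  simp [mem_Y, comm_y, h0, hk.1]

theorem E_le_nor : E C ≤ normalizer (J' C : Set (U C)) := fun g hg => by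
  have k : ∀ g ∈ E C, ∀ x ∈ J' C, g * x * g⁻¹ ∈ J' C := fun g hg x hx => by
    simpa [commutatorElement_def] using mul_mem (comm_EJ hg hx).2 hx
  refine mem_normalizer_iff.2 fun x => ⟨k g hg x, fun hx => ?_⟩
  simpa [mul_assoc] using k _ (inv_mem hg) _ hx

theorem chW [Finite K] : Ch (J' C) (W C) := by
  have : W C = J' C ⊓ centralizer (J' C : Set (U C)) := by
    refine le_antisymm (fun w hw => ⟨W_le hw, fun x hx =>
      commutatorElement_eq_one_iff_mul_comm.1 (comm_EW hx.1 hw)⟩) fun g hg => ?_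
    have h1 : ∀ x, C.T (g.t * x) = 0 := fun x => by
      simpa [xx, hg.1.1, hg.1.2] using congrArg U.a (hg.2 (xx C x) ⟨rfl, rfl⟩)
    have h2 := C.T_nd h1
    have h3 : ∀ t, C.T (g.x * t) = 0 := fun t => by
      simpa [xt, hg.1.1, hg.1.2, h2, mul_comm] using congrArg U.a (hg.2 (xt C t) ⟨rfl, rfl⟩)
    exact ⟨h2, hg.1.1, hg.1.2, C.T_nd h3⟩
  exact this ▸ Ch.self.cent

theorem ext_W [Finite K] (α : MulAut (J' C)) {w : U C} (hw : w ∈ W C) : ext α w ∈ W C :=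
  chW.2 α w (W_le hw) hw

theorem np [Finite K] (R : Subgroup (U C)) (h : J' C < R) : ∃ g ∈ R, NP g := by
  have h1 : ∃ r ∈ R, r.u = 0 ∧ r.y ≠ 0 := by
    obtain ⟨r, hr, hn⟩ := SetLike.exists_of_lt h
    by_cases hu : r.u = 0
    · exact ⟨r, hr, hu, fun e => hn ⟨hu, e⟩⟩
    · have h1 : xt C 1 ∈ R := h.le ⟨rfl, rfl⟩
      refine ⟨⁅r, xt C 1⁆, ?_, comm_u _ _, by simp [comm_y, xt, hu]⟩
      rw [commutatorElement_def]
      exact mul_mem (mul_mem (mul_mem hr h1) (inv_mem hr)) (inv_mem h1)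
  obtain ⟨r, hr, hu, hy⟩ := h1
  obtain ⟨f, hf⟩ := C.exists_not_fix
  refine ⟨r * xt C (f * r.y - r.t), mul_mem hr (h.le ⟨rfl, rfl⟩), by simp [xt, hu], fun c d e => ?_⟩
  have e1 : (algebraMap F K c * f + algebraMap F K d) * r.y = 0 := by
    simp only [xt, U.mul_t, U.mul_y, Algebra.smul_def, map_zero] at e
    linear_combination e
  have e2 := (mul_eq_zero.1 e1).resolve_right hy
  have e3 := congrArg C.σ e2
  simp only [map_add, map_mul, AlgEquiv.commutes, map_zero] at e3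
  have e4 : algebraMap F K c * (C.σ f - f) = 0 := by linear_combination e3 - e2
  have c0 : c = 0 := by simpa using (mul_eq_zero.1 e4).resolve_right (sub_ne_zero.2 hf)
  exact ⟨c0, by simpa [c0] using e2⟩

theorem jpt [Finite K] {p : ℕ} [Fact p.Prime] [CharP F p] : JPtStmt C p := by
  rintro rfl A B h
  have h2 : (2 : K) = 0 := by
    rw [← map_ofNat (algebraMap F K) 2, show (OfNat.ofNat 2 : F) = 0 from CharP.cast_eq_zero F 2,
      map_zero]
  have hY : Iv A (Y C) := by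
    refine h.tr _ (E C) (h.hv np).2 (fun _ hx => hx.1) E_le_nor fun α _ _ v hv => ?_
    let R : Subgroup (U C) :=
      { carrier := {c | c.u = 0 ∧ C.cr v.t c.y = 0}
        one_mem' := by simp
        mul_mem' := fun {a b} ⟨_, _⟩ ⟨_, _⟩ => by simp [C.cr_add, *]
        inv_mem' := fun {a} ⟨_, _⟩ => by simp [*] }
    refine dvd_ncard (U.isPGroup 2) (P := J' C) (R := R) (lt_of_le_of_ne
      (fun x hx => ⟨hx.1, by simp [hx.2]⟩) fun e => ?_) ?_
    · by_cases t0 : v.t = 0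
      · have : xy C 1 ∈ J' C := e ▸ ⟨rfl, by simp [t0]⟩
        exact one_ne_zero this.2
      · have : xy C v.t ∈ J' C := e ▸ ⟨rfl, by simp [xy, C.cr_self, h2]⟩
        exact t0 this.2
    · rintro c ⟨hc, k⟩ r ⟨r1, r2⟩
      refine ⟨mul_mem hc r1, ?_⟩
      have hw : ⁅r, v⁆ ∈ W C := by simp [mem_W, comm_y, comm_x, r1, r2, hv.1, hv.2]
      have e : c * r * v * (c * r)⁻¹ = ⁅r, v⁆ * (c * v * c⁻¹) := by
        rw [← conj_W hc hw, commutatorElement_def]; group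
      rw [e, ext_map_mul α (W_le hw) ((mem_normalizer_iff.1 (E_le_nor hc) v).1 hv)]
      exact mul_mem (W_le_Y (ext_W α hw)) k
  have := h.chain [Y C, W C] (by
    simp only [List.mem_cons, List.not_mem_nil, or_false, forall_eq_or_imp, forall_eq]
    exact ⟨⟨inf_le_right, hY⟩, Iv.of_ch chW⟩) (xy C 1)
    ⟨fun x hx => comm_EJ rfl hx, fun x hx => by
      simp [mem_W, comm_y, comm_x, xy, (mem_Y.1 hx).1, (mem_Y.1 hx).2.1],
      fun x hx => comm_EW rfl hx⟩
  exact one_ne_zero this.2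

/-- the class modulo `W` -/
def pr (g : U C) : K × K := (g.t, g.x)

variable (C) in
/-- a representative -/
def lf (m : K × K) : U C := ⟨m.1, 0, 0, m.2, 0, 0⟩

theorem lf_mem (m : K × K) : lf C m ∈ J' C := ⟨rfl, rfl⟩

theorem pr_mul {g : U C} {h : U C} (hh : h ∈ J' C) : pr (g * h) = pr g + pr h := by
  simp [pr, hh.1, hh.2]

theorem pr_inv {g : U C} (hg : g ∈ J' C) : pr g⁻¹ = -pr g := by
  simp [pr, hg.1, hg.2]

theorem pr_eq_zero {g : U C} (hg : g ∈ J' C) : pr g = 0 ↔ g ∈ W C := by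
  simp [pr, mem_W, hg.1, hg.2]

theorem z_mul {g h : U C} (hh : h ∈ J' C) : (g * h).z = g.z + h.z := by
  simp [hh.1, hh.2]

theorem z_conj {s g : U C} (hs : s ∈ J' C) (hg : g ∈ J' C) : (s * g * s⁻¹).z = g.z := by
  rw [z_mul (inv_mem hs), z_mul hg]
  simp [hs.1, hs.2]

variable [Finite K]

theorem pr_congr (α : MulAut (J' C)) {g h : U C} (hg : g ∈ J' C) (hh : h ∈ J' C)
    (e : pr g = pr h) : pr (ext α g) = pr (ext α h) := by
  have hw : h⁻¹ * g ∈ W C := (pr_eq_zero (mul_mem (inv_mem hh) hg)).1 (by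
    rw [pr_mul hg, pr_inv hh, e, neg_add_cancel])
  have := ext_map_mul α hh (W_le hw)
  rw [mul_inv_cancel_left] at this
  rw [this, pr_mul (ext_mem α (W_le hw)), (pr_eq_zero (ext_mem α (W_le hw))).2 (ext_W α hw), add_zero]

/-- the action on `J' / W` -/
noncomputable def bar (α : MulAut (J' C)) : K × K →+ K × K :=
  AddMonoidHom.mk' (fun m => pr (ext α (lf C m))) fun m n => by
    rw [← pr_mul (ext_mem α (lf_mem n)), ← ext_map_mul α (lf_mem m) (lf_mem n)]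
    exact pr_congr α (lf_mem _) (mul_mem (lf_mem m) (lf_mem n)) 
      (pr_mul (g := lf C m) (lf_mem n)).symm

theorem bar_pr (α : MulAut (J' C)) {g : U C} (hg : g ∈ J' C) : bar α (pr g) = pr (ext α g) :=
  pr_congr α (lf_mem _) hg rfl

theorem bar_mul (α β : MulAut (J' C)) (m : K × K) : bar (α * β) m = bar α (bar β m) := by
  change pr (ext (α * β) (lf C m)) = bar α (pr (ext β (lf C m)))
  rw [bar_pr α (ext_mem β (lf_mem m)), ext_mul]

theorem bar_one (m : K × K) : bar (1 : MulAut (J' C)) m = m := by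
  change pr (ext 1 (lf C m)) = m
  rw [ext_one]; rfl

theorem bar_cj {α : MulAut (J' C)} {y : K} (h : Cj α (xy C y)) (m : K × K) :
    bar α m = m + (0, -C.cr m.1 y) := by
  change pr (ext α (lf C m)) = _
  rw [h _ (lf_mem m)]
  simp [pr, lf, xy, Prod.ext_iff]

theorem bar_cj' {α : MulAut (J' C)} {y : K} (h : Cj α (xy C y)) (m : K × K) :
    bar α⁻¹ m = m - (0, -C.cr m.1 y) := by
  have e : (xy C y)⁻¹ = xy C (-y) := by ext <;> simp [xy]
  rw [bar_cj (e ▸ h.inv)]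
  simp [Prod.ext_iff]

omit [Finite K] in
theorem cj_W {α : MulAut (J' C)} {y : K} (h : Cj α (xy C y)) {w : U C} (hw : w ∈ W C) :
    ext α w = w := by
  rw [h _ (W_le hw), conj_W rfl hw]

omit [Finite K] in
theorem fix_inv {α : MulAut (J' C)} {w : U C} (h : ext α w = w) : ext α⁻¹ w = w := by
  conv_lhs => rw [← h, ext_inv_ext]

theorem no_iota {p : ℕ} {A B : Subgroup (MulAut (J' C))} (h : Cd p (J' C) A B) (h2 : (2 : F) ≠ 0)
    {ι : MulAut (J' C)} (hι : ι ∈ A) (i1 : ∀ m, bar ι m = -m) (i2 : ∀ w ∈ W C, ext ι w = w) :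
    False := by
  obtain ⟨γ, hγ⟩ := exists_cj (E_le_nor (C := C) (show xy C 1 ∈ E C from rfl))
  have i3 : ∀ m, bar ι⁻¹ m = -m := fun m => by
    rw [← neg_eq_iff_eq_neg, ← i1, ← bar_mul, mul_inv_cancel, bar_one]
  obtain ⟨s, hs, k⟩ := h.inn [W C] (by simpa using Iv.of_ch chW) (γ * ι * γ⁻¹ * ι⁻¹)
    (mul_mem (mul_mem (mul_mem (h.le (h.cj _ _ hγ)) hι) (inv_mem (h.le (h.cj _ _ hγ)))) (inv_mem hι))
    ⟨fun x hx => (pr_eq_zero (mul_mem (inv_mem hx) (ext_mem _ hx))).1 (by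
      rw [pr_mul (ext_mem _ hx), pr_inv hx, ← bar_pr _ hx, bar_mul, bar_mul, bar_mul, i1, i3, map_neg,
        ← bar_mul, mul_inv_cancel, bar_one, neg_neg, neg_add_cancel]),
    fun w hw => by
      rw [ext_mul, ext_mul, ext_mul, fix_inv (i2 w hw), fix_inv (cj_W hγ hw), i2 w hw, cj_W hγ hw]⟩
  obtain ⟨x, hx⟩ := C.exists_T_one
  have hn : xx C x ∈ J' C := ⟨rfl, rfl⟩
  have hw : xz C 1 ∈ W C := ⟨rfl, rfl, rfl, rfl⟩
  have e1 : ext γ (xx C x) = xx C x * xz C 1 := by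
    rw [hγ _ hn]
    ext <;> simp [xx, xy, xz, hx]
  have e2 : (ext γ (ext ι (xx C x))).z = (ext ι (ext γ (xx C x))).z := by
    rw [← z_conj hs (ext_mem ι (ext_mem γ hn)), ← k _ (ext_mem ι (ext_mem γ hn)), ← ext_mul,
      ← ext_mul, ← ext_mul]
    simp [mul_assoc]
  have e3 : xx C x * ext ι (xx C x) ∈ W C := (pr_eq_zero (mul_mem hn (ext_mem ι hn))).1 (by
    rw [pr_mul (ext_mem ι hn), ← bar_pr ι hn, i1, add_neg_cancel])
  have e4 := congrArg U.z (cj_W hγ e3)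
  rw [ext_map_mul γ hn (ext_mem ι hn), z_mul (ext_mem γ (ext_mem ι hn)), e2, e1,
    ext_map_mul ι hn (W_le hw), i2 _ hw, z_mul (W_le hw), z_mul (W_le hw), z_mul (ext_mem ι hn)] at e4
  exact h2 (by simp only [xz] at e4; linear_combination e4)

theorem jpb {p : ℕ} [Fact p.Prime] [CharP F p] : JPbStmt C p := by
  intro hp A B h j0
  have h2 : (2 : F) ≠ 0 := fun e => hp ((Nat.prime_dvd_prime_iff_eq Fact.out Nat.prime_two).1
    ((CharP.cast_eq_zero_iff F p 2).1 e))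
  have hY := (h.hv np).2
  have j1 : ∀ α ∈ A, α ∉ B → ∀ x, (bar α (0, x)).1 = 0 → x = 0 := fun α hα hn x e =>
    (j0 α hα hn (lf C (0, x)) ⟨rfl, rfl, rfl⟩ ⟨e, ext_mem α (lf_mem _)⟩).2.2.2
  have j2 : ∀ α ∈ B, ∀ x, (bar α (0, x)).1 = 0 := fun α hα x =>
    (hY α hα (lf C (0, x)) (lf_mem _) ⟨rfl, rfl, rfl⟩).1
  obtain ⟨g, hg, gB⟩ := SetLike.not_le_iff_exists.1 h.lt
  have gi : ∀ m, bar g⁻¹ (bar g m) = m := fun m => by rw [← bar_mul, inv_mul_cancel, bar_one]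
  have ig : ∀ m, bar g (bar g⁻¹ m) = m := fun m => by rw [← bar_mul, mul_inv_cancel, bar_one]
  obtain ⟨c, hc⟩ := exists_cj (E_le_nor (C := C) (show xy C 1 ∈ E C from rfl))
  have hb : g * c * g⁻¹ ∈ A := mul_mem (mul_mem hg (h.le (h.cj _ _ hc))) (inv_mem hg)
  obtain ⟨β, hβ⟩ : ∃ β : K × K → K × K, ∀ m, β m = bar g (0, -C.cr (bar g⁻¹ m).1 1) := ⟨_, fun _ => rfl⟩
  have b1 : ∀ m, bar (g * c * g⁻¹) m = m + β m := fun m => by
    rw [bar_mul, bar_mul, bar_cj hc, map_add, ig, hβ]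
  have b2 : ∀ m, bar (g * c * g⁻¹)⁻¹ m = m - β m := fun m => by
    rw [show (g * c * g⁻¹)⁻¹ = g * c⁻¹ * g⁻¹ by group, bar_mul, bar_mul, bar_cj' hc, map_sub, ig, hβ]
  have badd : ∀ m n, β (m + n) = β m + β n := fun m n => by
    rw [hβ, hβ, hβ, ← map_add, map_add (bar g⁻¹), Prod.fst_add, C.add_cr, Prod.mk_add_mk, add_zero,
      neg_add]
  have bb : ∀ m, β (β m) = 0 := fun m => by
    rw [hβ, hβ, gi, C.zero_cr, neg_zero]
    exact map_zero _
  have t0 : ∀ x, (β (0, x)).1 = 0 → x = 0 := fun x e => by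
    rw [hβ] at e
    have := j1 g hg gB _ e
    rw [neg_eq_zero, C.cr_comm] at this
    exact j1 _ (inv_mem hg) (fun k => gB (by simpa using inv_mem k)) x
      (C.cr_eq_zero_odd h2 one_ne_zero this)
  have sur : Function.Surjective fun x => (β (0, x)).1 :=
    Finite.surjective_of_injective fun x x' e => by
      refine sub_eq_zero.1 (t0 _ ?_)
      have := congrArg Prod.fst (badd (0, x - x') (0, x'))
      simp only [Prod.mk_add_mk, add_zero, sub_add_cancel, Prod.fst_add] at this e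
      linear_combination e - this
  have t1 : (β (0, 1)).1 ≠ 0 := fun e => one_ne_zero (t0 1 e)
  obtain ⟨y, hy⟩ := Finite.surjective_of_injective (f := fun y => -C.cr (β (0, 1)).1 y)
    (fun y y' e => by
      refine sub_eq_zero.1 (C.cr_eq_zero_odd h2 t1 ?_)
      simp only [neg_inj] at e
      rw [sub_eq_add_neg, C.cr_add, C.cr_neg, e, add_neg_cancel]) 1
  simp only at hy
  obtain ⟨a, ha⟩ := exists_cj (E_le_nor (C := C) (show xy C y ∈ E C from rfl))
  have haA := h.le (h.cj _ _ ha)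
  have k1 : ∀ x, bar (g⁻¹ * a⁻¹ * (g * c * g⁻¹)) (0, x) =
      bar g⁻¹ (0, x + C.cr (β (0, x)).1 y) + bar g⁻¹ (β (0, x)) := fun x => by
    rw [bar_mul, bar_mul, b1, bar_cj' ha, ← map_add]
    congr 1
    simp [Prod.ext_iff]
    ring
  have k2 : ∀ x, (bar g⁻¹ (β (0, x))).1 = 0 := fun x => by rw [hβ, gi]
  have hB : g⁻¹ * a⁻¹ * (g * c * g⁻¹) ∈ B := by
    by_contra hn
    refine one_ne_zero (j1 _ (mul_mem (mul_mem (inv_mem hg) (inv_mem haA)) hb) hn 1 ?_)
    rw [k1, Prod.fst_add, k2, show 1 + C.cr (β (0, 1)).1 y = 0 by linear_combination -hy,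
      add_zero]
    exact congrArg Prod.fst (map_zero (bar g⁻¹))
  have k3 : ∀ x, -C.cr (β (0, x)).1 y = x := fun x => by
    have := j2 _ hB x
    rw [k1, Prod.fst_add, k2, add_zero] at this
    have := j1 _ (inv_mem hg) (fun k => gB (by simpa using inv_mem k)) _ this
    linear_combination -this
  have a0 : ∀ x, bar a (0, x) = (0, x) := fun x => by rw [bar_cj ha]; simp
  have a1 : ∀ x, bar a (β (0, x)) = β (0, x) + (0, x) := fun x => by rw [bar_cj ha, k3]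
  have n1 : ∀ x, bar (a * (g * c * g⁻¹)⁻¹ * a) (0, x) = -β (0, x) := fun x => by
    rw [bar_mul, bar_mul, a0, b2, map_sub, a0, a1]; abel
  have n2 : ∀ x, bar (a * (g * c * g⁻¹)⁻¹ * a) (β (0, x)) = (0, x) := fun x => by
    rw [bar_mul, bar_mul, a1, b2, badd, bb, zero_add, add_sub_cancel_left, a0]
  have hn : a * (g * c * g⁻¹)⁻¹ * a ∈ A := mul_mem (mul_mem haA (inv_mem hb)) haA
  have nW : ∀ w ∈ W C, ext (a * (g * c * g⁻¹)⁻¹ * a) w = w := fun w hw => by
    rw [ext_mul, ext_mul, cj_W ha hw, fix_inv, cj_W ha hw]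
    rw [ext_mul, ext_mul, cj_W hc (ext_W _ hw), ext_ext_inv]
  refine no_iota h h2 (mul_mem hn hn) (fun m => ?_) fun w hw => by rw [ext_mul, nW w hw, nW w hw]
  obtain ⟨x, hx⟩ := sur m.1
  have e : m = (0, m.2 - (β (0, x)).2) + β (0, x) := by
    simp only at hx
    simp [Prod.ext_iff, hx]
  rw [e, bar_mul, map_add, n1, n2, map_add, map_neg, n2, n1, neg_add]

end Cfsg.Agent.H57.D4JP
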