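import Cfsg.Agent.H50.DerDefs

/-! The character part for a concrete configuration, by reduction to a minimal overgroup. -/

set_option autoImplicit false

namespace Cfsg.Agent.H57.DerC

open MulAction Cfsg.Agent.H50.Der

universe u v

theorem mem_nor {G : Type u} [Group G] [Finite G] {Q : Subgroup G} {g : G}
    (h : ∀ z ∈ Q, g * z * g⁻¹ ∈ Q) : g ∈ Subgroup.normalizer (Q : Set G) :=
  Subgroup.mem_normalizer_fintype h

theorem mem_of_pel {G : Type u} {Ω : Type v} [Group G] [Finite G] [MulAction G Ω]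
    {X Q : Subgroup G} {ω : Ω} {q : ℕ} (hq : q.Prime) (hQ : IsPGroup q Q) (hQX : Q ≤ X)
    (hR : Reg Ω Q) (hc : ¬ q ∣ Nat.card ↥(X ⊓ stabilizer G ω)) {w : G} (hw : w ∈ X)
    (hn : w ∈ Subgroup.normalizer (Q : Set G)) (hp : IsPGroup q (Subgroup.zpowers w)) : w ∈ Q := by
  obtain ⟨z, hz, e⟩ := hR.1 ω (w • ω)
  have h1 : IsPGroup q ↥(Q ⊔ Subgroup.zpowers w) :=
    IsPGroup.to_sup_of_normal_left' hQ hp (Subgroup.zpowers_le.2 hn)
  have m1 : z⁻¹ * w ∈ Q ⊔ Subgroup.zpowers w :=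
    mul_mem (Subgroup.mem_sup_left (inv_mem hz)) (Subgroup.mem_sup_right (Subgroup.mem_zpowers w))
  have m2 : z⁻¹ * w ∈ X ⊓ stabilizer G ω :=
    ⟨X.mul_mem (X.inv_mem (hQX hz)) hw, by
      change (z⁻¹ * w) • ω = ω
      rw [mul_smul, ← e, inv_smul_smul]⟩
  obtain ⟨k, hk⟩ := h1 ⟨_, m1⟩
  have a1 : orderOf (z⁻¹ * w) ∣ q ^ k := orderOf_dvd_of_pow_eq_one (congrArg Subtype.val hk)
  have a2 := Subgroup.orderOf_dvd_natCard _ m2
  have a3 : orderOf (z⁻¹ * w) = 1 :=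
    Nat.eq_one_of_dvd_coprimes (Nat.Coprime.pow_left k ((Nat.Prime.coprime_iff_not_dvd hq).2 hc)) a1 a2
  rw [orderOf_eq_one_iff, inv_mul_eq_one] at a3
  exact a3 ▸ hz

theorem char (c : Ch0Stmt.{u,v}) : CharStmt.{u,v} := by
  intro G Ω _ _ _ _ _ X Q ω q hq hQ hQX hR hC hc hs hn hr h hh
  obtain ⟨Y, ⟨hQY, hYX, hY⟩, hmin⟩ := exists_minimal_of_wellFoundedLT
    (fun Y : Subgroup G => Q ≤ Y ∧ Y ≤ X ∧ ¬ Y ≤ Subgroup.normalizer (Q : Set G)) ⟨X, hQX, le_rfl, hn⟩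
  let _ : CommGroup Q := { (inferInstance : Group Q) with
    mul_comm := fun a b => Subtype.ext (hC a a.2 b b.2) }
  let ι : Q →* Y := Subgroup.inclusion hQY
  let E : Subgroup Y := (Subgroup.normalizer (Q : Set G) ⊓ stabilizer G ω).subgroupOf Y
  let j : E →* Subgroup.normalizer (Q : Set G) :=
    (Y.subtype.comp E.subtype).codRestrict _ fun g => g.2.1
  let act : E →* MulAut Q := (Subgroup.normalizerMonoidHom Q).comp j
  have nor : ∀ g : Y, (∀ z : Q, ∃ z' : Q, g * ι z * g⁻¹ = ι z') →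
      (g : G) ∈ Subgroup.normalizer (Q : Set G) := fun g e => mem_nor fun z hz => by
    obtain ⟨z', e'⟩ := e ⟨z, hz⟩
    have : (g : G) * z * (g : G)⁻¹ = z' := congrArg Subtype.val e'
    exact this ▸ z'.2
  have cc : CC q ι ω E act :=
    { faith := fun g e => Subtype.ext (eq_of_smul_eq_smul (α := Ω) fun a => (e a).trans (one_smul G a).symm)
      tr := fun a => by
        obtain ⟨z, hz, e⟩ := hR.1 ω a
        exact ⟨⟨z, hz⟩, e⟩
      free := fun z e => Subtype.ext (hR.2 z z.2 ω e)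
      memE := fun g => ⟨fun hg => ⟨hg.2, fun z =>
        ⟨⟨_, (Subgroup.mem_normalizer_iff.1 hg.1 z).1 z.2⟩, rfl⟩⟩, fun hg => ⟨nor g hg.2, hg.1⟩⟩
      act_eq := fun g z => rfl
      semi := fun g z h1 e => Subtype.ext (Subtype.ext (hs g.1.1 (hYX g.1.2) g.2.2 g.2.1 z z.2
        (fun a => h1 (Subtype.ext a)) (mul_inv_eq_iff_eq_mul.1 (congrArg Subtype.val e))))
      pr := hq
      pg := hQ
      cop := fun e => hc (e.trans (Subgroup.card_dvd_of_injective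
        ((Y.subtype.comp (stabilizer Y ω).subtype).codRestrict (X ⊓ stabilizer G ω)
          fun g => ⟨hYX g.1.2, g.2⟩)
        fun a b e => Subtype.ext (Subtype.ext (congrArg Subtype.val e :)))) }
  refine c Y Ω Q q ι ω E act cc (fun K hK hι => ?_) (fun e => hY fun g hg => nor ⟨g, hg⟩ (e _)) ?_ h ?_
  · by_contra hne
    have k1 : Q ≤ K.map Y.subtype := fun z hz => ⟨ι ⟨z, hz⟩, hι _, rfl⟩
    have k2 : K.map Y.subtype ≤ Y := Subgroup.map_subtype_le K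
    have k3 : K.map Y.subtype ≤ Subgroup.normalizer (Q : Set G) := by
      by_contra a
      have := hmin ⟨k1, k2.trans hYX, a⟩ k2
      refine hne (eq_top_iff.2 fun g _ => ?_)
      obtain ⟨y, hy, e⟩ := this g.2
      exact (Subtype.ext e : y = g) ▸ hy
    refine hY fun g hg => mem_nor fun z hz => ?_
    have m : g * z * g⁻¹ ∈ K.map Y.subtype := ⟨_, hK.conj_mem _ (hι ⟨z, hz⟩) ⟨g, hg⟩, rfl⟩
    refine mem_of_pel hq hQ hQX hR hc (hYX (k2 m)) (k3 m) ?_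
    obtain ⟨k, hk⟩ := hQ ⟨z, hz⟩
    have hk : z ^ q ^ k = 1 := congrArg Subtype.val hk
    rintro ⟨_, i, rfl⟩
    refine ⟨k, Subtype.ext ?_⟩
    change ((g * z * g⁻¹) ^ i) ^ q ^ k = 1
    rw [← zpow_natCast, ← zpow_mul, mul_comm, zpow_mul, zpow_natCast, conj_pow, hk]
    simp
  · obtain ⟨a, b, ha, hb, e⟩ := hr
    exact ⟨a, b, ha, hb, fun g hg => e g (hYX g.2) hg⟩
  · refine le_trans (Nat.succ_le_succ (Nat.mul_le_mul_left h ?_)) hh
    exact Nat.card_le_card_of_injective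
      (fun g : E => (⟨g.1.1, hYX g.1.2, g.2⟩ : ↥(X ⊓ (Subgroup.normalizer (Q : Set G) ⊓ stabilizer G ω))))
      fun a b e => Subtype.ext (Subtype.ext (congrArg Subtype.val e :))

end Cfsg.Agent.H57.DerC
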