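import Cfsg.Agent.H57.EE6b

/-! `EE6Stmt`: the configuration `E5` does not occur. -/

set_option autoImplicit false
set_option linter.unusedSimpArgs false
set_option linter.unusedSectionVars false
set_option maxHeartbeats 1600000

namespace Cfsg.Agent.H57.EE6

open Subgroup Cfsg.Agent.H85 Cfsg.Agent.H93.LT

universe u

section Main

variable {G : Type u} [Group G] [Finite G] (h : E5 G)

theorem S2 : IsPGroup 2 (S h) := h.sylS.isPGroup

theorem U2 : IsPGroup 2 h.U := (S2 h).to_le (gS h).1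

theorem bigK {g : G} (hg : ∀ v ∈ h.K1, cn v g ∈ S h) : ∀ v ∈ h.K1, cn v g ∈ h.U := fun _ hv =>
  h.bigS (cj g⁻¹ h.K1) (cj_inv_le hg) (ea_cj (eaK h) _) (card_cj _ _).ge (mem_cj_inv hv)

theorem nU {g : G} (hg : ∀ u ∈ h.U, cn u g ∈ S h) : g ∈ normalizer (h.U : Set G) := by
  have k1 := bigK h fun v hv => hg v (K1U h hv)
  have k2 := bigK h (g := h.e * g) fun v hv => by
    rw [cn_cn]; exact hg _ (cn_mem (eU h) (K1U h hv))
  obtain ⟨a1, a2, a3, a4, a5, a6⟩ := gK h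
  refine norm_of_forall (cn_closure ?_)
  rintro u (rfl | rfl | rfl | rfl | rfl | rfl | rfl | rfl)
  exacts [k1 _ a1, k1 _ a2, k1 _ a3, k1 _ a4, k1 _ a5, by simpa only [cn_cn, (he' h).1] using k2 _ a5,
    k1 _ a6, by simpa only [cn_cn, (xe h).2] using k2 _ a6]

theorem nZ {g c : G} (hg : g ∈ normalizer (h.U : Set G)) (hc : c ∈ h.ZU) : cn c g ∈ h.ZU := by
  have hU := cn_mem hg (ZU_le h hc)
  have key : ∀ v ∈ h.U, Commute (cn c g) v := fun v hv => by
    have := cZ h hc (cn_mem (inv_mem hg) hv)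
    rw [← cn_inv_cn v g]
    show cn c g * _ = _ * cn c g
    rw [← cn_mul, ← cn_mul, this.eq]
  exact cen_mem h (QZ h) le_rfl (U_le h hU) (key _ (gU h).2.2.2.2.1) (key _ (gU h).2.2.2.2.2.1)

theorem nQ {g : G} (hg : g ∈ normalizer (h.U : Set G)) : g ∈ normalizer (Q h : Set G) := by
  obtain ⟨-, -, -, -, a, b, m, n⟩ := gU h
  refine norm_of_forall (cn_sup_zp ?_ ?_)
  · rw [zpowers_eq_closure]
    refine cn_closure ?_
    rintro u rfl
    rw [zab, cn_cm]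
    exact cmU h _ (cn_mem hg a) _ (cn_mem hg b)
  · rw [xbm, cn_cm]
    exact cmU h _ (cn_mem hg b) _ (cn_mem hg m)

theorem case_y1 (K : Kit h.toHyp) (hy : h.y = 1) : False := by
  have q : Q h ≤ UU h (Q h) := le_UU h _
  have cN : h.e * u1 h ∈ N1 h := mul_mem (gN h).2.1 ((gN h).1 (u1U h))
  have l : UU h (Q h) ⊔ zpowers (h.e * u1 h) ≤ N1 h :=
    sup_le ((UU_le h (QU h)).trans (gN h).1) (zpowers_le.2 cN)
  have key := K.trG (S h) _ h.U h.f h.sylS (l.trans (N1S h)) (abS h le_rfl (QU h) (Or.inl hy))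
    h.fX h.ff ((gS h).1 (gU h).2.1) (gU h).2.1 (U2 h)
    (fun u hu => mem_cen1.2 (cZ0 h hu).2.2.1) ?_
  · obtain ⟨u, hu, e | e⟩ := ex_sup_zp (nrm_of_ab le_rfl ((UU_le h (QU h)).trans (gN h).1)
      (abN h le_rfl (QU h) (Or.inl hy)) cN) (cc0 h le_rfl (QU h) (Or.inl hy)) key
    · exact fQ h (cen_mem h le_rfl (QZ h) (e ▸ hu) h.fa h.fb)
    · refine eU0 h ?_
      have := mul_mem (mul_mem (gU h).2.1 (inv_mem (UU_le h (QU h) hu))) (inv_mem (u1U h))
      rwa [e, mul_inv_cancel_right, mul_inv_cancel_right] at this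
  · intro g hg
    have hN := nU h hg
    obtain ⟨w, hw, e⟩ := memZ h (nZ h hN (gZ h).2.1)
    rw [hy, one_mul, or_self] at e
    obtain ⟨c, hc, e' | e'⟩ := memW h hw
    · exact (fQ h (mem_of_cn_mem (nQ h hN) (by rw [e, e']; exact hc))).elim
    · rw [e, e', inv_mul_cancel_left]; exact zpL (q hc)

theorem sqT {u : G} (hu : u ∈ h.T) (h4 : u * u * (u * u) = 1) : u * u = 1 ∨ u * u = h.z := by
  have n1 : h.a * h.b ∈ normalizer ((zpowers h.z : Subgroup G) : Set G) :=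
    norm_of_comm (comm_zp (h.za.symm.mul_left h.zb.symm))
  have n2 : h.a * h.b * (h.a * h.b) ∈ zpowers h.z := by simp only [R h, mem_zpowers]
  have a1 : h.z ∈ zpowers h.z ⊔ zpowers (h.a * h.b) := zpL (mem_zpowers _)
  have a2 : h.a * h.b ∈ zpowers h.z ⊔ zpowers (h.a * h.b) := zpR
  have key : u * u ∈ zpowers h.z ⊔ zpowers (h.a * h.b) := by
    rw [h.hT] at hu
    refine sq_closure (comm_closure ?_ ?_) ?_ u hu
    · intro s hs
      refine norm_of_forall (cn_sup_zp ?_ ?_)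
      · intro v hv
        rcases mem_zp_inv h.zz hv with rfl | rfl
        · simp [cn]
        rcases hs with rfl | rfl | rfl | rfl | rfl <;> simp only [R h, a1]
      · rcases hs with rfl | rfl | rfl | rfl | rfl <;> simp only [R h, a1, a2, mul_mem]
    · rintro u (rfl | rfl | rfl | rfl | rfl) v (rfl | rfl | rfl | rfl | rfl) <;>
        simp only [R h, a1, a2, mul_mem, one_mem]
    · rintro u (rfl | rfl | rfl | rfl | rfl) <;> simp only [R h, one_mem]
  obtain ⟨v, hv, e | e⟩ := ex_sup_zp n1 n2 key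
  · rw [e]; exact mem_zp_inv h.zz hv
  · rw [e] at h4
    rcases mem_zp_inv h.zz hv with rfl | rfl <;> simp only [R h, h.z1] at h4

theorem cn_sq {u g : G} : cn u g * cn u g = cn (u * u) g := (cn_mul _ _ _).symm

theorem eD (K : Kit h.toHyp) (hy : h.y ≠ 1) {u : G} (hu : u ∈ h.U) : ¬ IsConj h.t (h.e * u) := by
  intro hc
  have fix : ∀ w ∈ h.U, w⁻¹ * cn w h.e ∈ Q h → ∃ w' ∈ h.U ⊓ centralizer {h.e * u},
      w' * w' = w * w := by
    intro w hw e
    have e1 : w⁻¹ * cn w (h.e * u) ∈ Q h := by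
      rw [cn_cn, act_eq w h.e, cn_mul, uZ h (QZ h e) hu, ← mul_assoc]
      exact mul_mem (cmU' h hw hu) e
    have e2 := act_eq w (h.e * u)
    have a1 : cn h.f (h.e * u) = h.z * h.f := by
      simp only [R h, rU h hu, rU h (inv_mem hu)]
    have a2 : cn h.y (h.e * u) = h.x * h.y := by
      simp only [R h, rY h hy, rU h hu, rU h (inv_mem hu)]
    obtain ⟨-, b1, -, b2, -⟩ := gU h
    rcases memQ h e1 with e3 | e3 | e3 | e3 <;> rw [e3] at e2
    · exact ⟨w, ⟨hw, mem_cen1.2 (comm_of_cn (by rw [e2, mul_one])).symm⟩, rfl⟩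
    · refine ⟨w * h.f, ⟨mul_mem hw b1, mem_cen1.2 (comm_of_cn ?_).symm⟩, ?_⟩
      · rw [cn_mul, e2, a1]; simp only [R h, rU h hw]
      · simp only [R h, rU h hw]
    · refine ⟨w * h.y, ⟨mul_mem hw b2, mem_cen1.2 (comm_of_cn ?_).symm⟩, ?_⟩
      · rw [cn_mul, e2, a2]; simp only [R h, rU h hw]
      · simp only [R h, rU h hw]
    · refine ⟨w * (h.f * h.y), ⟨mul_mem hw (mul_mem b1 b2), mem_cen1.2 (comm_of_cn ?_).symm⟩, ?_⟩
      · rw [cn_mul, cn_mul, e2, a1, a2]; simp only [R h, rU h hw]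
      · simp only [R h, rU h hw]
  obtain ⟨-, -, -, -, a, b, m, n⟩ := gU h
  obtain ⟨w1, h1, e1⟩ := fix _ (mul_mem a b) (by simp only [R h, zQ h])
  obtain ⟨w2, h2, e2⟩ := fix _ (mul_mem m n) (by simp only [R h, xQ h])
  simp only [R h] at e1 e2
  obtain ⟨g, -, hg⟩ := K.into _ (h.U ⊓ centralizer {h.e * u}) hc (U2 h).to_inf_left inf_le_right
  have key : ∀ w ∈ h.U ⊓ centralizer {h.e * u}, w * w ≠ 1 → w * w * (w * w) = 1 →
      cn (w * w) g = h.z := by
    intro w hw n1 n2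
    have := sqT h (hg w hw) (by rw [cn_sq, cn_sq, n2]; simp [cn])
    rw [cn_sq] at this
    refine this.resolve_left fun e => n1 (cn_inj (g := g) ?_)
    rw [e]; simp [cn]
  have k1 := key w1 h1 (by rw [e1]; exact h.z1) (by rw [e1, h.zz])
  have k2 := key w2 h2 (by rw [e2]; exact x1 h) (by rw [e2, h.xx])
  rw [e1] at k1
  rw [e2, ← k1] at k2
  exact zx1 h (by rw [cn_inj k2, h.zz])

theorem e16 (K : Kit h.toHyp) {E : Subgroup G} (hE : EA E) (hc : 16 ≤ Nat.card E) {v : G}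
    (hv : v ∈ E) (ht : IsConj h.t v) : IsSyl 2 E (centralizer (E : Set G)) := by
  obtain ⟨g, -, hg⟩ := K.into v E ht (ea_pgroup hE) fun u hu => mem_cen1.2 (ea_comm hE hv hu)
  have h1 := K.j16 (cj g⁻¹ E) (cj_inv_le hg) (ea_cj hE _) (by rwa [card_cj])
  have h2 : IsSyl 2 (cj g⁻¹ E) (centralizer ((cj g⁻¹ E : Subgroup G) : Set G)) := by
    rcases h1 with e | e <;> rw [e]
    exacts [K.sylE1, K.sylE2]
  have := h2.cj g
  rwa [cj_centralizer, cj_cj_inv] at this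

theorem conj_sq {v : G} (hc : IsConj h.t v) : v * v = 1 := by
  obtain ⟨c, rfl⟩ := isConj_iff.1 hc
  calc c * h.t * c⁻¹ * (c * h.t * c⁻¹) = c * (h.t * h.t) * c⁻¹ := by group
    _ = 1 := by rw [h.tt]; group

theorem kD (K : Kit h.toHyp) (hy : h.y ≠ 1) {u : G} (hu : u ∈ h.U) : ¬ IsConj h.t (h.k * u) := by
  intro hc
  have v2 := conj_sq h hc
  have vN : h.k * u ∈ N1 h := mul_mem (gN h).2.2 ((gN h).1 hu)
  obtain ⟨cx, cz⟩ := N1c h vN
  have af : cn h.f (h.k * u) = h.x * h.f := by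
    simp only [R h, rK h, rU h hu, rU h (inv_mem hu)]
  obtain ⟨y', hy', y1, y2⟩ : ∃ y' ∈ h.ZU, y' ∉ Q h ∧ Commute y' (h.k * u) := by
    rcases rKy h with e | e
    · refine ⟨h.y, (gZ h).2.2.2, fun e' => yW0 h hy (QW h e'), comm_of_cn ?_⟩
      simp only [R h, e, rU h hu, rU h (inv_mem hu)]
    · refine ⟨h.f * h.y, mul_mem (gZ h).2.1 (gZ h).2.2.2, fun e' => yW0 h hy ?_, comm_of_cn ?_⟩
      · have : h.f ∈ W h := zpR
        simpa only [R h] using mul_mem this (QW h e')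
      · simp only [R h, rK h, e, rU h hu, rU h (inv_mem hu)]
  have l1 : Q h ⊔ zpowers y' ≤ h.ZU := sup_le (QZ h) (zpowers_le.2 hy')
  have c1 : ∀ c ∈ Q h ⊔ zpowers y', Commute (h.k * u) c :=
    comm_sup_zp (comm_sup_zp (comm_zp cz.symm) cx.symm) y2.symm
  have hE : EA ((Q h ⊔ zpowers y') ⊔ zpowers (h.k * u)) :=
    ea_sup_zp (fun c hc => eaZ h c (l1 hc)) v2 fun c hc => (c1 c hc).symm
  have hcard : 16 ≤ Nat.card ((Q h ⊔ zpowers y') ⊔ zpowers (h.k * u) : Subgroup G) := by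
    have s1 := two_mul_card_le (bot_le (a := zpowers h.z)) (mem_zpowers h.z) (by simpa using h.z1)
    have s2 := two_mul_card_le (H := zpowers h.z) (K := Q h) le_sup_left (xQ h) fun e => by
      rcases mem_zp_inv h.zz e with e | e
      exacts [x1 h e, zx1 h (by rw [e, h.zz])]
    have s3 := two_mul_card_le (H := Q h) (K := Q h ⊔ zpowers y') le_sup_left zpR y1
    have s4 := two_mul_card_le (H := Q h ⊔ zpowers y')
      (K := (Q h ⊔ zpowers y') ⊔ zpowers (h.k * u)) le_sup_left zpR fun e => by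
        rw [uZ h (gZ h).2.1 (ZU_le h (l1 e))] at af
        exact x1 h (by simpa using af)
    rw [card_bot] at s1
    omega
  have hS := e16 h K hE hcard zpR hc
  obtain ⟨-, f, -, -, -, -, m, n⟩ := gU h
  have μU : h.m * h.n * h.f ∈ h.U := mul_mem (mul_mem m n) f
  have μv : cn (h.m * h.n * h.f) (h.k * u) = h.m * h.n * h.f := by
    have e1 : h.n⁻¹ * cn h.m (h.k * u) ∈ Q h := by
      have e := (kp h).2.2.1
      rw [cn_cn, ← mul_inv_cancel_left h.n (cn h.m h.k), cn_mul, uZ h (QZ h e) hu, ← mul_assoc]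
      exact mul_mem (cmU' h n hu) e
    obtain ⟨q, hq, e2⟩ : ∃ q ∈ Q h, cn h.m (h.k * u) = h.n * q :=
      ⟨_, e1, (mul_inv_cancel_left _ _).symm⟩
    have e3 : cn h.n (h.k * u) = h.m * q⁻¹ := by
      have : cn (h.n * q) (h.k * u) = h.m := by rw [← e2, ← cn_cn, v2, cn_one]
      rw [cn_mul, actQ h cz.symm cx.symm hq] at this
      rw [← this, mul_inv_cancel_right]
    rw [cn_mul, cn_mul, e2, e3, af]
    have e4 : h.n * q * (h.m * q⁻¹) = h.n * h.m := by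
      rw [mul_assoc, ← mul_assoc q, ← (cZ h (QZ h hq) m).eq, mul_inv_cancel_right]
    rw [e4]; simp only [R h]
  have hle : (Q h ⊔ zpowers y') ⊔ zpowers (h.k * u) ≤ S h :=
    sup_le ((l1.trans (ZU_le h)).trans (gS h).1) (zpowers_le.2 (N1S h vN))
  have := hS.eq_of_le (Q := S h ⊓ centralizer _) (S2 h).to_inf_left (le_inf hle hS.le) inf_le_right
  have μE : h.m * h.n * h.f ∈ (Q h ⊔ zpowers y') ⊔ zpowers (h.k * u) := by
    rw [← this]
    refine ⟨(gS h).1 μU, mem_centralizer_iff.2 fun c hc => ?_⟩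
    exact (comm_sup_zp (fun c hc => cZ h (l1 hc) μU) (comm_of_cn μv) c hc).symm
  have := hE _ μE
  simp only [R h] at this
  exact x1 h this

theorem noD (K : Kit h.toHyp) (eu : EUStmt.{u}) (hy : h.y ≠ 1) {v : G} (hv : v ∈ N1 h) :
    ¬ IsConj h.t v := by
  obtain ⟨u, hu, rfl | rfl | rfl | rfl⟩ := cosN h hv
  · exact (eu G h.toEE).1 _ hu
  · exact eD h K hy hu
  · exact kD h K hy hu
  · intro hc
    refine kD h K hy (mul_mem (inv_mem (u1U h)) (cn_mem (tU h) hu)) ?_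
    have e : h.k * ((u1 h)⁻¹ * cn u h.t) = cn (h.k * (h.e * u)) h.t := by
      rw [cn_mul, kt']; simp only [R h]
    rw [e]; exact hc.trans (isConj_cn _ _)

theorem DS (K : Kit h.toHyp) (eu : EUStmt.{u}) (hy : h.y ≠ 1) {v : G} (hv : v ∈ S h)
    (hc : IsConj h.t v) : ∃ s ∈ S h, cn v s = h.t := by
  have key : ∀ u ∈ h.U, IsConj h.t (h.t * u) → ∃ s ∈ S h, cn (h.t * u) s = h.t := by
    intro u hu hc
    obtain ⟨w, hw, e | ⟨e, -⟩⟩ := (eu G h.toEE).2.1 u hu (conj_sq h hc)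
    · exact ⟨w⁻¹, inv_mem ((gS h).1 hw), by rw [← e, cn_cn_inv]⟩
    · exact (hy e).elim
  obtain ⟨w, hw, rfl | rfl⟩ := cosS h hv
  · exact (noD h K eu hy hw hc).elim
  obtain ⟨u, hu, rfl | rfl | rfl | rfl⟩ := cosN h hw
  · exact key _ hu hc
  · have e : cn (h.t * (h.e * u)) h.k⁻¹ = h.t * cn ((u1 h)⁻¹ * u) h.k⁻¹ := by
      have : h.t * (h.e * u) = cn h.t h.k * ((u1 h)⁻¹ * u) := by rw [tk']; simp only [R h]
      rw [this, cn_mul, cn_cn_inv]
    obtain ⟨s, hs, e'⟩ := key _ (cn_mem (inv_mem h.kU) (mul_mem (inv_mem (u1U h)) hu))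
      (e ▸ hc.trans (isConj_cn _ _))
    exact ⟨h.k⁻¹ * s, mul_mem (inv_mem (gS h).2.2.1) hs, by rw [cn_cn, e, e']⟩
  · exact ((noinv h hu).1 (conj_sq h hc)).elim
  · exact ((noinv h hu).2 (conj_sq h hc)).elim

theorem TS : h.T ≤ S h := by
  rw [h.hT]
  refine (closure_le _).2 ?_
  obtain ⟨-, f, -, -, a, b, -⟩ := gU h
  obtain ⟨l, e, -, t⟩ := gS h
  rintro u (rfl | rfl | rfl | rfl | rfl)
  exacts [t, l f, l a, l b, e]

theorem eT : h.e ∈ h.T := by rw [h.hT]; exact subset_closure (by simp)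

theorem SCT {s : G} (hs : s ∈ S h) (hc : Commute h.t s) : s ∈ h.T := by
  rw [← h.syl.eq_of_le (Q := S h ⊓ centralizer {h.t}) (S2 h).to_inf_left (le_inf (TS h) h.syl.le)
    inf_le_right]
  exact ⟨hs, mem_cen1.2 hc⟩

theorem comm_cn {u v : G} (e : Commute u v) (g : G) : Commute (cn u g) (cn v g) := by
  show _ * _ = _ * _
  rw [← cn_mul, ← cn_mul, e.eq]

theorem noU (K : Kit h.toHyp) (eu : EUStmt.{u}) (hy : h.y ≠ 1) (g : G) : cn h.e g ∉ h.U := by
  intro hg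
  obtain ⟨σ, hσ, s1, s2⟩ := invK h hg (by rw [cn_sq, (ee' h).1]; simp [cn])
  have hu : cn h.e (g * σ⁻¹) ∈ h.U := by rw [cn_cn]; exact cn_mem (inv_mem hσ) hg
  have c1 : ∀ v ∈ h.K1, Commute (cn h.e (g * σ⁻¹)) v := by
    have a1 := comm_cn s1 σ⁻¹
    have a2 := comm_cn s2 σ⁻¹
    rw [cn_cn_inv, ← cn_cn] at a1 a2
    have a3 := a1.mul_left a2
    rw [mul_assoc, h.mm, mul_one] at a3
    obtain ⟨b1, b2, b3, b4⟩ := cZ0 h hu
    refine comm_closure' ?_
    rintro u (rfl | rfl | rfl | rfl | rfl | rfl)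
    exacts [b1.symm, b3.symm, b2.symm, b4.symm, a3.symm, a2.symm]
  have c2 : cj (g * σ⁻¹) h.K1 ≤ centralizer {h.e} := by
    intro v hv
    have := comm_cn (c1 _ (mem_cj.1 hv)) (g * σ⁻¹)⁻¹
    rw [cn_cn_inv] at this
    refine mem_cen1.2 ?_
    convert this using 1
    unfold cn; group
  have p0 : EA (zpowers h.e ⊔ zpowers h.t) := by
    refine ea_sup_zp (fun u hu => ?_) h.tt fun u hu => (comm_zp h.te u hu).symm
    rcases mem_zp_inv (ee' h).1 hu with rfl | rfl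
    exacts [mul_one _, (ee' h).1]
  obtain ⟨P, hP, hle⟩ := exists_isSyl_ge (H := centralizer {h.e}) (ea_pgroup p0)
    (sup_le (zpowers_le.2 (mem_cen1.2 (Commute.refl _))) (zpowers_le.2 (mem_cen1.2 h.te.symm)))
  obtain ⟨c, -, hc⟩ := hP.exists_cj_le (ea_pgroup (ea_cj (eaK h) _)) c2
  obtain ⟨d, -, hd⟩ := h.sylS.exists_cj_le hP.isPGroup le_top
  have hd' : ∀ r ∈ P, cn r d⁻¹ ∈ S h := fun r hr => by
    have := hd (conj_mem_cj hr)
    simpa [cn] using this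
  obtain ⟨s, hs, e⟩ := DS h K eu hy (hd' _ (hle zpR)) (isConj_cn _ _)
  rw [← cn_cn] at e
  have hd2 : ∀ r ∈ P, cn r (d⁻¹ * s) ∈ S h := fun r hr => by
    rw [cn_cn]; exact cn_mem' hs (hd' r hr)
  generalize d⁻¹ * s = d1 at e hd2
  have eP : h.e ∈ P := hle (zpL (mem_zpowers _))
  have e1 : h.e⁻¹ * cn h.e d1 ∈ h.U := by
    have := K.pi d1 (mem_cen1.2 (comm_of_cn e)) h.e (eT h)
      (SCT h (hd2 _ eP) (by have := comm_cn h.te d1; rwa [e] at this))
    refine (closure_le h.U).2 ?_ this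
    rintro u (rfl | rfl)
    exacts [(gU h).2.2.2.2.1, (gU h).2.2.2.2.2.1]
  obtain ⟨u, hu', e2⟩ : ∃ u ∈ h.U, cn h.e d1 = h.e * u := ⟨_, e1, act_eq _ _⟩
  set A := cj d1⁻¹ (cj c (cj (g * σ⁻¹) h.K1)) with hA
  have eA : EA A := ea_cj (ea_cj (ea_cj (eaK h) _) _) _
  have cA : Nat.card A = Nat.card h.K1 := by rw [hA, card_cj, card_cj, card_cj]
  have AU : A ≤ h.U := h.bigS A (cj_inv_le fun r hr => hd2 r (hc hr)) eA cA.ge
  have Ac : ∀ v ∈ A, cn v (h.e * u) = v := by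
    intro v hv
    have := comm_cn (mem_cen1.1 (hP.le (hc (mem_cj.1 hv)))) d1
    rw [e2] at this
    refine cn_of_comm (Commute.symm ?_)
    convert this using 1
    unfold cn; group
  obtain ⟨-, f, -, y, a, b, -⟩ := gU h
  have nf : h.f ∉ A := fun hf => by
    have := cm_one (comm_of_cn (Ac _ hf))
    simp only [R h, rU h hu', rU h (inv_mem hu'), h.z1] at this
  have fA : ∀ v ∈ A, Commute v h.f := fun v hv => (cZ0 h (AU hv)).2.2.1.symm
  have ny : h.y ∉ A ⊔ zpowers h.f := fun hf => by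
    obtain ⟨v, hv, e | e⟩ := ex_sup_zp (norm_of_comm fun v hv => (fA v hv).symm)
      (by rw [h.ff]; exact one_mem _) hf
    · have := cm_one (comm_of_cn (Ac _ (e ▸ hv)))
      simp only [R h, rY h hy, rU h hu', rU h (inv_mem hu'), x1 h] at this
    · have e' : v = h.f * h.y := by rw [e]; simp only [R h]
      have := cm_one (comm_of_cn (Ac _ (e' ▸ hv)))
      simp only [R h, rY h hy, rU h hu', rU h (inv_mem hu'), zx1 h] at this
  have l1 : A ⊔ zpowers h.f ≤ h.U := sup_le AU (zpowers_le.2 f)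
  have l2 : (A ⊔ zpowers h.f) ⊔ zpowers h.y ≤ h.U := sup_le l1 (zpowers_le.2 y)
  have s1 := two_mul_card_le (H := A) (K := A ⊔ zpowers h.f) le_sup_left zpR nf
  have s2 := two_mul_card_le (H := A ⊔ zpowers h.f) (K := (A ⊔ zpowers h.f) ⊔ zpowers h.y)
    le_sup_left zpR ny
  obtain ⟨-, k1, k2⟩ := (eu G h.toEE).2.2.1.resolve_left fun e => hy e.1
  have e3 := eq_of_le_of_card_ge l2 (by
    have k1' : Nat.card h.K1 = 64 := k1
    have k2' : Nat.card h.U = 256 := k2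
    omega)
  have e4 : EA h.U := e3 ▸ ea_sup_zp (ea_sup_zp eA h.ff fA) h.yy
    fun v hv => (cZ0 h (l1 hv)).2.2.2.symm
  have := e4 _ (mul_mem a b)
  simp only [R h, h.z1] at this

/-- the stabiliser of the chain `1 ≤ Q ≤ Z(U)` in `N(U)` -/
def M : Subgroup G where
  carrier := {s | s ∈ normalizer (h.U : Set G) ∧ (∀ q ∈ Q h, cn q s = q) ∧
    ∀ c ∈ h.ZU, c⁻¹ * cn c s ∈ Q h}
  one_mem' := ⟨one_mem _, fun q _ => cn_one q, fun c _ => by simp [cn]⟩
  mul_mem' := by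
    rintro s s' ⟨a1, a2, a3⟩ ⟨b1, b2, b3⟩
    refine ⟨mul_mem a1 b1, fun q hq => by rw [cn_cn, a2 q hq, b2 q hq], fun c hc => ?_⟩
    rw [cn_cn, act_eq c s, cn_mul, b2 _ (a3 c hc), ← mul_assoc]
    exact mul_mem (b3 c hc) (a3 c hc)
  inv_mem' := by
    rintro s ⟨a1, a2, a3⟩
    refine ⟨inv_mem a1, fun q hq => ?_, fun c hc => ?_⟩
    · conv_lhs => rw [← a2 q hq]
      exact cn_cn_inv _ _
    · have := inv_mem (a3 _ (nZ h (inv_mem a1) hc))
      rwa [cn_inv_cn, mul_inv_rev, inv_inv] at this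

theorem M_n {g s : G} (hg : g ∈ normalizer (h.U : Set G)) (hs : s ∈ M h) : cn s g ∈ M h := by
  obtain ⟨a1, a2, a3⟩ := hs
  have e : ∀ v, cn v (cn s g) = cn (cn (cn v g⁻¹) s) g := fun v => by unfold cn; group
  refine ⟨cn_mem' hg a1, fun q hq => ?_, fun c hc => ?_⟩
  · rw [e, a2 _ (cn_mem (nQ h (inv_mem hg)) hq), cn_inv_cn]
  · rw [e, act_eq (cn c g⁻¹) s, cn_mul, cn_inv_cn, inv_mul_cancel_left]
    exact cn_mem (nQ h hg) (a3 _ (nZ h (inv_mem hg) hc))

theorem M_fix {s c v : G} (hs : s ∈ M h) (hc : c ∈ M h) (hv : v ∈ h.ZU) (e : cn v s = v) :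
    cn v (cn s c) = v := by
  have e1 : cn v (cn s c) = cn (cn (cn v c⁻¹) s) c := by unfold cn; group
  have e2 : cn (cn v c⁻¹) s = cn v c⁻¹ := by
    rw [act_eq v c⁻¹, cn_mul, e, hs.2.1 _ ((inv_mem hc).2.2 v hv)]
  rw [e1, e2, cn_inv_cn]

theorem N1M : N1 h ≤ M h := by
  have key : ∀ s ∈ N1 h, h.f⁻¹ * cn h.f s ∈ Q h → h.y⁻¹ * cn h.y s ∈ Q h → s ∈ M h := by
    intro s hs a1 a2
    obtain ⟨b1, b2⟩ := N1c h hs
    refine ⟨SU h (N1S h hs), fun q hq => actQ h b2.symm b1.symm hq, act_closure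
      (fun u hu => nrm h le_rfl (QU h) (ZU_le h (subset_closure hu))) ?_⟩
    rintro u (rfl | rfl | rfl | rfl)
    exacts [by rw [cn_of_comm b2]; simp, a1, by rw [cn_of_comm b1]; simp, a2]
  refine sup_le (sup_le (fun u hu => key u ((gN h).1 hu) (cmU' h (gU h).2.1 hu)
    (cmU' h (gU h).2.2.2.1 hu)) (zpowers_le.2 (key _ (gN h).2.1 ?_ ?_)))
    (zpowers_le.2 (key _ (gN h).2.2 ?_ ?_))
  · simp only [R h, zQ h]
  · by_cases hy : h.y = 1
    · simp only [hy, R h, one_mem]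
    · simp only [R h, rY h hy, xQ h]
  · simp only [R h, rK h, xQ h]
  · rcases rKy h with e | e <;> simp only [R h, e, xQ h, one_mem]

theorem yW (hy : h.y ≠ 1) {g : G} (hg : g ∈ normalizer (h.U : Set G)) : cn h.y g ∉ W h := by
  intro hw
  obtain ⟨κ, hκ, k1, k2⟩ : ∃ κ ∈ N1 h, cn h.y κ = h.y ∧ cn h.f κ ≠ h.f := by
    rcases rKy h with e | e
    · refine ⟨h.k, (gN h).2.2, by simp only [R h, e], fun e' => ?_⟩
      have := cm_one (comm_of_cn e')
      simp only [R h, rK h, x1 h] at this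
    · refine ⟨h.k * h.e, mul_mem (gN h).2.2 (gN h).2.1, by simp only [R h, rY h hy, e], fun e' => ?_⟩
      have := cm_one (comm_of_cn e')
      simp only [R h, rK h, zx1 h] at this
  have hS : IsSyl 2 (S h ⊓ M h) (M h) :=
    (h.sylS.of_le (SU h) le_top).inf_of_le_normalizer (fun s hs => hs.1)
      fun g hg => norm_of_forall fun s hs => M_n h hg hs
  obtain ⟨c, hc, hle⟩ := hS.exists_cj_le (isPGroup_cj g⁻¹ hS.isPGroup)
    (cj_inv_le fun s hs => M_n h hg hs.2)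
  have κM : cn κ g ∈ M h := M_n h hg (N1M h hκ)
  have s0 : cn (cn κ g) c⁻¹ ∈ S h ⊓ M h := by
    have := hle (conj_mem_cj (mem_cj_inv (g := g) ⟨N1S h hκ, N1M h hκ⟩))
    simpa [cn] using this
  have e : ∀ v, cn (cn v g) (cn κ g) = cn (cn v κ) g := fun v => by unfold cn; group
  have f1 : cn h.f (cn κ g) = h.f := by
    obtain ⟨q, hq, e' | e'⟩ := memW h hw
    · exact (yW0 h hy (QW h (mem_of_cn_mem (nQ h hg) (e' ▸ hq)))).elim
    · have := e h.y
      rw [k1, e', cn_mul, κM.2.1 q hq] at this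
      exact mul_right_cancel this
  have s1 := fN1 h (SN1 h s0.1 (comm_of_cn (s0.2.2.1 _ (xQ h))))
    (M_fix h κM (inv_mem hc) (gZ h).2.1 f1)
  have f2 := M_fix h s0.2 hc (nZ h hg (gZ h).2.1) (uZ h (nZ h hg (gZ h).2.1) s1)
  rw [cn_inv_cn, e] at f2
  exact k2 (cn_inj f2)

theorem case_y (K : Kit h.toHyp) (eu : EUStmt.{u}) (hy : h.y ≠ 1) : False := by
  obtain ⟨tX, h2⟩ := K.trT (S h) (N1 h) h.sylS (N1S h) (relN h)
    fun g _ hg => noD h K eu hy hg (isConj_cn _ _)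
  have := h.Xn
  have yX : h.y ∈ h.X := h2 h.y h.K1 h.yy (gK h).2.2.2.1 (ea_pgroup (eaK h))
    (fun u hu => mem_cen1.2 (ea_comm (eaK h) (gK h).2.2.2.1 hu))
    fun g hg => (gN h).1 (bigK h hg _ (gK h).2.2.2.1)
  have nX : ∀ u ∈ h.X, ∀ g, cn u g ∈ h.X := fun u hu g => by
    simpa using h.Xn.conj_mem u hu g⁻¹
  have xX : h.x ∈ h.X := by rw [xbm]; exact K.cmX _ _
  have mX : h.m ∈ h.X := h.xr ▸ nX _ xX _
  have UX : h.U ≤ h.X := by
    refine (closure_le _).2 ?_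
    rintro u (rfl | rfl | rfl | rfl | rfl | rfl | rfl | rfl)
    exacts [K.aX.2.2, h.fX, xX, yX, K.aX.1, K.aX.2.1, mX, (xe h).2 ▸ nX _ mX _]
  have eX : h.e ∈ h.X := by
    have := mul_mem (K.cmX h.t h.k) (inv_mem (UX (u1U h)))
    have e : h.t⁻¹ * h.k⁻¹ * h.t * h.k = h.t⁻¹ * cn h.t h.k := by unfold cn; group
    rw [e, tk'] at this
    simpa only [R h] using this
  have hS := K.sylX _ h.sylS
  have notX : ∀ {c u : G}, c ∉ h.X → u ∈ h.X → c * u ∉ h.X := fun hc hu e =>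
    hc (by simpa using mul_mem e (inv_mem hu))
  have US : h.U ≤ S h ⊓ h.X := le_inf (gS h).1 UX
  by_cases kX : h.k ∈ h.X
  · have l : S h ⊓ h.X ≤ N1 h := by
      rintro s ⟨h1, h2⟩
      obtain ⟨u, hu, rfl | rfl⟩ := cosS h h1
      · exact hu
      · exact (notX tX ((sup_le (sup_le UX (zpowers_le.2 eX)) (zpowers_le.2 kX) :
          N1 h ≤ h.X) hu) h2).elim
    have WU := (WZ h).trans (ZU_le h)
    have key := K.trX _ (UU h (W h)) h.U h.y hS ((UU_le h WU).trans US)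
      (fun u hu v hv => abN h (QW h) WU (Or.inr zpR) u (l hu) v (l hv)) h.yy
      (US (gU h).2.2.2.1) (gU h).2.2.2.1 UX (U2 h) (fun u hu => mem_cen1.2 (cZ0 h hu).2.2.2) ?_
    · exact yW0 h hy (cen_mem h (QW h) (WZ h) key h.ya h.yb)
    · intro g _ hg
      have hN := nU h fun u hu => (hg u hu).1
      obtain ⟨w, hw, e | e⟩ := memZ h (nZ h hN (gZ h).2.2.2)
      · exact (yW h hy hN (e ▸ hw)).elim
      · rw [e, inv_mul_cancel_left]; exact le_UU h _ hw
  · have τN : h.t * h.k ∈ normalizer (h.U : Set G) := mul_mem (tU h) h.kU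
    have eτ : h.e ∈ h.U ⊔ zpowers (h.t * h.k) := by
      have e : h.e = (cn (h.k * h.k) h.t)⁻¹ * (h.t * h.k * (h.t * h.k)) * (u1 h)⁻¹ := by
        have : h.t * h.k * (h.t * h.k) = h.t * (h.k * h.k) * cn h.t h.k := by unfold cn; group
        rw [this, tk']; simp only [R h]
      rw [e]
      exact mul_mem (mul_mem (zpL (inv_mem (cn_mem (tU h) h.kk))) (mul_mem zpR zpR))
        (zpL (inv_mem (u1U h)))
    have cos : ∀ s ∈ S h ⊓ h.X, ∃ u ∈ h.U, s = u ∨ s = h.e * u ∨ s = h.t * (h.k * u) ∨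
        s = h.t * (h.k * (h.e * u)) := by
      rintro s ⟨h1, h2⟩
      obtain ⟨w, hw, e⟩ := cosS h h1
      obtain ⟨u, hu, e'⟩ := cosN h hw
      refine ⟨u, hu, ?_⟩
      have a1 := UX hu
      have a2 := mul_mem eX a1
      rcases e with rfl | rfl <;> rcases e' with rfl | rfl | rfl | rfl
      exacts [Or.inl rfl, Or.inr (Or.inl rfl), (notX kX a1 h2).elim, (notX kX a2 h2).elim,
        (notX tX a1 h2).elim, (notX tX a2 h2).elim, Or.inr (Or.inr (Or.inl rfl)),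
        Or.inr (Or.inr (Or.inr rfl))]
    have l : S h ⊓ h.X ≤ h.U ⊔ zpowers (h.t * h.k) := by
      intro s hs
      obtain ⟨u, hu, rfl | rfl | rfl | rfl⟩ := cos s hs
      · exact zpL hu
      · exact mul_mem eτ (zpL hu)
      · rw [← mul_assoc]; exact mul_mem zpR (zpL hu)
      · rw [← mul_assoc]; exact mul_mem zpR (mul_mem eτ (zpL hu))
    have ab := ab_sup_zp (N := h.U) le_normalizer τN (fun u hu v hv => QU h (cmU h u hu v hv))
      fun u hu => mul_mem (inv_mem hu) (cn_mem τN hu)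
    have eS : h.e ∈ S h ⊓ h.X := ⟨(gS h).2.1, eX⟩
    refine eU0 h (K.trX _ h.U (zpowers h.e) h.e hS US (fun u hu v hv => ab u (l hu) v (l hv))
      (ee' h).1 eS (mem_zpowers _) (zpowers_le.2 eX) (hS.isPGroup.to_le (zpowers_le.2 eS))
      (zpowers_le.2 (mem_cen1.2 (Commute.refl _))) ?_)
    intro g _ hg
    have v2 : cn h.e g * cn h.e g = 1 := by rw [cn_sq, (ee' h).1]; simp [cn]
    obtain ⟨u, hu, e | e | e | e⟩ := cos _ (hg _ (mem_zpowers _))
    · exact (noU h K eu hy g (e ▸ hu)).elim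
    · rw [e, inv_mul_cancel_left]; exact hu
    · rw [e] at v2; exact ((noinv h hu).1 v2).elim
    · rw [e] at v2; exact ((noinv h hu).2 v2).elim

end Main

theorem ee6 (hk : KitStmt.{u}) (eu : EUStmt.{u}) : EE6Stmt.{u} := by
  intro G _ _ h
  by_cases hy : h.y = 1
  · exact case_y1 h (hk G _) hy
  · exact case_y h (hk G _) eu hy

end Cfsg.Agent.H57.EE6
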