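import Cfsg.Agent.H93.LT2Defs

/-! Generic lemmas and the relations of `E5` for `EE6Stmt`. -/

set_option autoImplicit false
set_option linter.unusedSimpArgs false

namespace Cfsg.Agent.H57.EE6

open Subgroup Cfsg.Agent.H85 Cfsg.Agent.H93.LT

section Gen

variable {G : Type*} [Group G]

theorem cn_mul (u v g : G) : cn (u * v) g = cn u g * cn v g := by unfold cn; group
theorem cn_cn (u g g' : G) : cn u (g * g') = cn (cn u g) g' := by unfold cn; group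
theorem cn_inv (u g : G) : cn u⁻¹ g = (cn u g)⁻¹ := by unfold cn; group
theorem cn_one (u : G) : cn u 1 = u := by unfold cn; group
theorem cn_cn_inv (u g : G) : cn (cn u g) g⁻¹ = u := by unfold cn; group
theorem cn_inv_cn (u g : G) : cn (cn u g⁻¹) g = u := by unfold cn; group

theorem cn_of_comm {u g : G} (h : Commute u g) : cn u g = u := by
  unfold cn; rw [mul_assoc, h.eq]; group

theorem comm_of_cn {u g : G} (h : cn u g = u) : Commute u g := by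
  have : u * g = g * cn u g := by unfold cn; group
  rw [h] at this; exact this

theorem cn_inj {u v g : G} (h : cn u g = cn v g) : u = v := by
  rw [← cn_cn_inv u g, h, cn_cn_inv]

theorem isConj_cn (u g : G) : IsConj u (cn u g) := isConj_iff.2 ⟨g⁻¹, by unfold cn; group⟩

theorem cn_mem {H : Subgroup G} {g u : G} (hg : g ∈ normalizer (H : Set G)) (hu : u ∈ H) :
    cn u g ∈ H := by
  have := (mem_normalizer_iff.1 (inv_mem hg) u).1 hu
  rwa [inv_inv] at this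

theorem cn_mem' {H : Subgroup G} {g u : G} (hg : g ∈ H) (hu : u ∈ H) : cn u g ∈ H :=
  H.mul_mem (H.mul_mem (H.inv_mem hg) hu) hg

theorem mem_of_cn_mem {H : Subgroup G} {g u : G} (hg : g ∈ normalizer (H : Set G))
    (hu : cn u g ∈ H) : u ∈ H := by
  have := cn_mem (inv_mem hg) hu
  rwa [cn_cn_inv] at this

theorem norm_of_forall [Finite G] {H : Subgroup G} {g : G} (h : ∀ u ∈ H, cn u g ∈ H) :
    g ∈ normalizer (H : Set G) := by
  have : g⁻¹ ∈ normalizer (H : Set G) := by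
    refine mem_normalizer_of_cj_le ?_
    rintro _ ⟨u, hu, rfl⟩
    have := h u hu
    simpa [cn] using this
  simpa using inv_mem this

theorem cn_closure {s : Set G} {H : Subgroup G} {g : G} (h : ∀ u ∈ s, cn u g ∈ H) :
    ∀ u ∈ closure s, cn u g ∈ H := by
  intro u hu
  induction hu using closure_induction with
  | mem u hu => exact h u hu
  | one => simp [cn]
  | mul u v _ _ h1 h2 => rw [cn_mul]; exact H.mul_mem h1 h2
  | inv u _ h1 => rw [cn_inv]; exact H.inv_mem h1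

theorem cn_sup {A B H : Subgroup G} {g : G} (h1 : ∀ u ∈ A, cn u g ∈ H) (h2 : ∀ u ∈ B, cn u g ∈ H) :
    ∀ u ∈ A ⊔ B, cn u g ∈ H := by
  rw [← closure_eq A, ← closure_eq B, ← Subgroup.closure_union]
  refine cn_closure ?_
  rintro u (hu | hu)
  exacts [h1 u hu, h2 u hu]

theorem cn_sup_zp {A H : Subgroup G} {g c : G} (h1 : ∀ u ∈ A, cn u g ∈ H) (h2 : cn c g ∈ H) :
    ∀ u ∈ A ⊔ zpowers c, cn u g ∈ H := by
  refine cn_sup h1 ?_
  rw [zpowers_eq_closure]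
  refine cn_closure ?_
  rintro u rfl
  exact h2

theorem mem_sup_zp {H : Subgroup G} {c g : G} (hc : c ∈ normalizer (H : Set G)) (h2 : c * c ∈ H) :
    g ∈ H ⊔ zpowers c ↔ g ∈ H ∨ c⁻¹ * g ∈ H := by
  constructor
  · intro hg
    let K : Subgroup G :=
      { carrier := {g | g ∈ H ∨ c⁻¹ * g ∈ H}
        one_mem' := Or.inl H.one_mem
        mul_mem' := by
          rintro u v (hu | hu) (hv | hv)
          · exact Or.inl (H.mul_mem hu hv)
          · refine Or.inr ?_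
            have : c⁻¹ * (u * v) = cn u c * (c⁻¹ * v) := by unfold cn; group
            rw [this]; exact H.mul_mem (cn_mem hc hu) hv
          · refine Or.inr ?_
            rw [← mul_assoc]; exact H.mul_mem hu hv
          · refine Or.inl ?_
            have : u * v = (c * c) * cn (c⁻¹ * u) c * (c⁻¹ * v) := by unfold cn; group
            rw [this]; exact H.mul_mem (H.mul_mem h2 (cn_mem hc hu)) hv
        inv_mem' := by
          rintro u (hu | hu)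
          · exact Or.inl (H.inv_mem hu)
          · refine Or.inr ?_
            have : c⁻¹ * u⁻¹ = cn (c⁻¹ * u)⁻¹ c * (c * c)⁻¹ := by unfold cn; group
            rw [this]; exact H.mul_mem (cn_mem hc (H.inv_mem hu)) (H.inv_mem h2) }
    have : H ⊔ zpowers c ≤ K :=
      sup_le (fun u hu => Or.inl hu) (zpowers_le.2 (Or.inr (by simp)))
    exact this hg
  · rintro (h | h)
    · exact mem_sup_left h
    · rw [← mul_inv_cancel_left c g]
      exact mul_mem (mem_sup_right (mem_zpowers c)) (mem_sup_left h)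

theorem ex_sup_zp {H : Subgroup G} {c g : G} (hc : c ∈ normalizer (H : Set G)) (h2 : c * c ∈ H)
    (hg : g ∈ H ⊔ zpowers c) : ∃ u ∈ H, g = u ∨ g = c * u := by
  rcases (mem_sup_zp hc h2).1 hg with h | h
  · exact ⟨g, h, Or.inl rfl⟩
  · exact ⟨_, h, Or.inr (mul_inv_cancel_left c g).symm⟩

theorem relIndex_sup_zp {H : Subgroup G} {c : G} (hc : c ∈ normalizer (H : Set G))
    (h2 : c * c ∈ H) (hn : c ∉ H) : H.relIndex (H ⊔ zpowers c) = 2 := by
  rw [relIndex_eq_two_iff]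
  refine ⟨c, mem_sup_right (mem_zpowers c), fun b hb => ?_⟩
  obtain ⟨u, hu, rfl | rfl⟩ := ex_sup_zp hc h2 hb
  · refine Or.inr ⟨hu, fun h => hn ?_⟩
    simpa using H.mul_mem (H.inv_mem hu) h
  · refine Or.inl ⟨?_, fun h => hn ?_⟩
    · have : c * u * c = (c * c) * cn u c := by unfold cn; group
      rw [this]; exact H.mul_mem h2 (cn_mem hc hu)
    · simpa using H.mul_mem h (H.inv_mem hu)

theorem nbot (c : G) : c ∈ normalizer ((⊥ : Subgroup G) : Set G) := by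
  rw [normalizer_eq_top]; trivial

theorem mem_zp_inv {c g : G} (h2 : c * c = 1) (hg : g ∈ zpowers c) : g = 1 ∨ g = c := by
  have h : g ∈ (⊥ : Subgroup G) ⊔ zpowers c := by simpa using hg
  obtain ⟨u, hu, h | h⟩ := ex_sup_zp (nbot c) (by simpa using h2) h
  · left; rw [h]; simpa using hu
  · right; rw [h, mem_bot.1 hu, mul_one]

theorem two_mul_card_le [Finite G] {H K : Subgroup G} (hle : H ≤ K) {c : G} (hc : c ∈ K)
    (hn : c ∉ H) : 2 * Nat.card H ≤ Nat.card K := by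
  obtain ⟨d, hd⟩ := card_dvd_of_le hle
  have hp : 0 < Nat.card K := Nat.card_pos
  have h1 : d ≠ 1 := by
    rintro rfl
    exact hn ((eq_of_le_of_card_ge hle (by omega)).ge hc)
  have h0 : d ≠ 0 := by
    rintro rfl
    omega
  rw [hd, mul_comm]
  exact Nat.mul_le_mul_left _ (by omega)

theorem comm_closure {s : Set G} {N : Subgroup G} (hn : ∀ u ∈ s, u ∈ normalizer (N : Set G))
    (hc : ∀ u ∈ s, ∀ v ∈ s, u⁻¹ * v⁻¹ * u * v ∈ N) :
    ∀ u ∈ closure s, ∀ v ∈ closure s, u⁻¹ * v⁻¹ * u * v ∈ N := by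
  have hN : closure s ≤ normalizer (N : Set G) := (closure_le _).2 hn
  have step : ∀ v : G, (∀ u ∈ s, u⁻¹ * v⁻¹ * u * v ∈ N) →
      ∀ u ∈ closure s, u⁻¹ * v⁻¹ * u * v ∈ N := by
    intro v hv u hu
    induction hu using closure_induction with
    | mem u hu => exact hv u hu
    | one => simp
    | mul u w _ hw h1 h2 =>
      have : (u * w)⁻¹ * v⁻¹ * (u * w) * v = cn (u⁻¹ * v⁻¹ * u * v) w * (w⁻¹ * v⁻¹ * w * v) := by
        unfold cn; group
      rw [this]; exact N.mul_mem (cn_mem (hN hw) h1) h2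
    | inv u hu h1 =>
      have : u⁻¹⁻¹ * v⁻¹ * u⁻¹ * v = cn (u⁻¹ * v⁻¹ * u * v)⁻¹ u⁻¹ := by unfold cn; group
      rw [this]; exact cn_mem (inv_mem (hN hu)) (N.inv_mem h1)
  intro u hu v hv
  refine step v (fun w hw => ?_) u hu
  have : w⁻¹ * v⁻¹ * w * v = (v⁻¹ * w⁻¹ * v * w)⁻¹ := by group
  rw [this]
  exact N.inv_mem (step w (fun w' hw' => hc w' hw' w hw) v hv)

theorem sq_closure {s : Set G} {N : Subgroup G}
    (hc : ∀ u ∈ closure s, ∀ v ∈ closure s, u⁻¹ * v⁻¹ * u * v ∈ N)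
    (hs : ∀ u ∈ s, u * u ∈ N) : ∀ u ∈ closure s, u * u ∈ N := by
  intro u hu
  induction hu using closure_induction with
  | mem u hu => exact hs u hu
  | one => simp
  | mul u v hu hv h1 h2 =>
    have : u * v * (u * v) = (u * u) * (u⁻¹ * v⁻¹⁻¹ * u * v⁻¹) * (v * v) := by group
    rw [this]
    exact N.mul_mem (N.mul_mem h1 (hc u hu _ (inv_mem hv))) h2
  | inv u _ h1 =>
    rw [← mul_inv_rev]; exact N.inv_mem h1

theorem ea_closure {s : Set G} (hs : ∀ u ∈ s, u * u = 1) (hc : ∀ u ∈ s, ∀ v ∈ s, u * v = v * u) :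
    EA (closure s) := by
  intro u hu
  refine mem_bot.1 (sq_closure (N := ⊥) (comm_closure (fun u _ => nbot u) ?_) (by simpa using hs) u hu)
  intro u hu v hv
  rw [mem_bot, mul_assoc, hc u hu v hv]; group

theorem ea_comm {E : Subgroup G} (h : EA E) {u v : G} (hu : u ∈ E) (hv : v ∈ E) : Commute u v := by
  have h1 : u⁻¹ = u := inv_eq_of_mul_eq_one_right (h u hu)
  have h2 : v⁻¹ = v := inv_eq_of_mul_eq_one_right (h v hv)
  have h3 : (u * v)⁻¹ = u * v := inv_eq_of_mul_eq_one_right (h _ (E.mul_mem hu hv))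
  rw [mul_inv_rev, h1, h2] at h3
  exact h3.symm

theorem ea_pgroup {E : Subgroup G} (h : EA E) : IsPGroup 2 E := fun u =>
  ⟨1, Subtype.ext (by simpa [pow_two] using h u u.2)⟩

theorem ea_cj {E : Subgroup G} (h : EA E) (g : G) : EA (cj g E) := by
  rintro _ ⟨u, hu, rfl⟩
  rw [← map_mul, h u hu, map_one]

theorem ea_sup_zp {E : Subgroup G} (h : EA E) {c : G} (hc : c * c = 1)
    (hE : ∀ u ∈ E, Commute u c) : EA (E ⊔ zpowers c) := by
  rw [← closure_eq E, zpowers_eq_closure, ← Subgroup.closure_union]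
  refine ea_closure ?_ ?_
  · rintro u (hu | rfl)
    exacts [h u hu, hc]
  · rintro u (hu | rfl) v (hv | rfl)
    exacts [ea_comm h hu hv, hE u hu, (hE v hv).symm, rfl]

theorem mem_cj_inv {H : Subgroup G} {g u : G} (hu : u ∈ H) : cn u g ∈ cj g⁻¹ H := by
  rw [mem_cj]; simpa [cn, mul_assoc] using hu

theorem cj_inv_le {H K : Subgroup G} {g : G} (h : ∀ u ∈ H, cn u g ∈ K) : cj g⁻¹ H ≤ K := by
  rintro _ ⟨u, hu, rfl⟩
  simpa [cn] using h u hu

theorem mem_cen1 {u v : G} : v ∈ centralizer ({u} : Set G) ↔ Commute u v := by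
  rw [mem_centralizer_iff]; simp [Commute, SemiconjBy]

theorem comm_closure' {s : Set G} {c : G} (h : ∀ u ∈ s, Commute c u) :
    ∀ u ∈ closure s, Commute c u := fun _ hu =>
  mem_cen1.1 ((closure_le (centralizer {c})).2 (fun u hu => mem_cen1.2 (h u hu)) hu)

theorem comm_sup_zp {H : Subgroup G} {c d : G} (h : ∀ u ∈ H, Commute c u) (hd : Commute c d) :
    ∀ u ∈ H ⊔ zpowers d, Commute c u := fun _ hu =>
  mem_cen1.1 ((sup_le (fun u hu => mem_cen1.2 (h u hu)) (zpowers_le.2 (mem_cen1.2 hd)) :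
    H ⊔ zpowers d ≤ centralizer {c}) hu)

theorem sw {u v c : G} (h : u * v = c * (v * u)) (w : G) : u * (v * w) = c * (v * (u * w)) := by
  rw [← mul_assoc, h]; group

theorem sw' {u v v' : G} (h : u * v = v' * u) (w : G) : u * (v * w) = v' * (u * w) := by
  rw [← mul_assoc, h]; group

theorem sq' {u : G} (h : u * u = 1) (w : G) : u * (u * w) = w := by
  rw [← mul_assoc, h, one_mul]

end Gen

/-! ### the relations -/

section Rel

variable {G : Type*} [Group G] (h : E5 G)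

theorem e1 : h.e ≠ 1 := h.ge ▸ h.g1

theorem he' : cn h.a h.e = h.b ∧ cn h.b h.e = h.a ∧ cn h.f h.e = h.f * h.z := by
  obtain ⟨a, b, c, -⟩ := h.he.resolve_left (e1 h)
  exact ⟨a, b, c⟩

theorem ee' : h.e * h.e = 1 ∧ (h.y ≠ 1 → cn h.y h.e = h.x * h.y) := by
  rcases h.gg' with ⟨-, a, b⟩ | ⟨-, a, -⟩
  · exact ⟨a, b⟩
  · exact (e1 h a).elim

theorem xe : cn h.x h.e = h.x ∧ cn h.m h.e = h.n := by
  obtain ⟨a, b, -⟩ := h.sw h.g1
  rw [h.ge] at a b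
  exact ⟨a.trans h.wx', b⟩

theorem ty' (hy : h.y ≠ 1) : cn h.t h.y = h.t * h.f := by
  rcases h.alt with ⟨a, -⟩ | ⟨a, -⟩ | ⟨a, -⟩
  exacts [(hy a).elim, (hy a).elim, a]

theorem zab : h.z = h.a⁻¹ * h.b⁻¹ * h.a * h.b := by
  have := h.ab
  unfold cn at this
  rw [mul_assoc, mul_assoc, ← mul_assoc h.b⁻¹, this]; group

theorem xbm : h.x = h.b⁻¹ * h.m⁻¹ * h.b * h.m := by
  have := h.bm
  unfold cn at this
  rw [mul_assoc, mul_assoc, ← mul_assoc h.m⁻¹, this]; group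

theorem z_comm {c : G} (ha : Commute c h.a) (hb : Commute c h.b) : Commute c h.z := by
  rw [zab]
  exact ((ha.inv_right.mul_right hb.inv_right).mul_right ha).mul_right hb

theorem of_cn {u v c : G} (e : cn u v = c) : u * v = v * c := by rw [← e]; unfold cn; group

/-- inverses and squares -/
theorem rI : h.z⁻¹ = h.z ∧ h.x⁻¹ = h.x ∧ h.f⁻¹ = h.f ∧ h.y⁻¹ = h.y ∧ h.a⁻¹ = h.a ∧ h.b⁻¹ = h.b ∧
    h.m⁻¹ = h.m ∧ h.n⁻¹ = h.n ∧ h.t⁻¹ = h.t ∧ h.e⁻¹ = h.e ∧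
    h.z * h.z = 1 ∧ h.x * h.x = 1 ∧ h.f * h.f = 1 ∧ h.y * h.y = 1 ∧ h.a * h.a = 1 ∧
    h.b * h.b = 1 ∧ h.m * h.m = 1 ∧ h.n * h.n = 1 ∧ h.t * h.t = 1 ∧ h.e * h.e = 1 ∧
    (∀ w, h.z * (h.z * w) = w) ∧ (∀ w, h.x * (h.x * w) = w) ∧ (∀ w, h.f * (h.f * w) = w) ∧
    (∀ w, h.y * (h.y * w) = w) ∧ (∀ w, h.a * (h.a * w) = w) ∧ (∀ w, h.b * (h.b * w) = w) ∧
    (∀ w, h.m * (h.m * w) = w) ∧ (∀ w, h.n * (h.n * w) = w) ∧ (∀ w, h.t * (h.t * w) = w) ∧
    (∀ w, h.e * (h.e * w) = w) :=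
  have i {u : G} (e : u * u = 1) : u⁻¹ = u := inv_eq_of_mul_eq_one_right e
  ⟨i h.zz, i h.xx, i h.ff, i h.yy, i h.aa, i h.bb, i h.mm, i h.nn, i h.tt, i (ee' h).1,
    h.zz, h.xx, h.ff, h.yy, h.aa, h.bb, h.mm, h.nn, h.tt, (ee' h).1,
    sq' h.zz, sq' h.xx, sq' h.ff, sq' h.yy, sq' h.aa, sq' h.bb, sq' h.mm, sq' h.nn, sq' h.tt,
    sq' (ee' h).1⟩

theorem cn_cm (u v g : G) :
    cn (u⁻¹ * v⁻¹ * u * v) g = (cn u g)⁻¹ * (cn v g)⁻¹ * cn u g * cn v g := by unfold cn; group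

theorem ze : Commute h.e h.z := by
  refine (comm_of_cn ?_).symm
  calc cn h.z h.e = cn (h.a⁻¹ * h.b⁻¹ * h.a * h.b) h.e := by rw [← zab]
    _ = (h.a⁻¹ * h.b⁻¹ * h.a * h.b)⁻¹ := by rw [cn_cm, (he' h).1, (he' h).2.1]; group
    _ = h.z := by rw [← zab]; exact (rI h).1

/-- basic commutation rules -/
theorem rC0 :
    h.x * h.z = h.z * h.x ∧ h.f * h.z = h.z * h.f ∧ h.y * h.z = h.z * h.y ∧
    h.a * h.z = h.z * h.a ∧ h.b * h.z = h.z * h.b ∧ h.m * h.z = h.z * h.m ∧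
    h.n * h.z = h.z * h.n ∧ h.t * h.z = h.z * h.t ∧ h.e * h.z = h.z * h.e ∧
    h.k * h.z = h.z * h.k ∧
    h.f * h.x = h.x * h.f ∧ h.y * h.x = h.x * h.y ∧ h.a * h.x = h.x * h.a ∧
    h.b * h.x = h.x * h.b ∧ h.m * h.x = h.x * h.m ∧ h.n * h.x = h.x * h.n ∧
    h.e * h.x = h.x * h.e ∧ h.k * h.x = h.x * h.k ∧
    h.y * h.f = h.f * h.y ∧ h.a * h.f = h.f * h.a ∧ h.b * h.f = h.f * h.b ∧
    h.m * h.f = h.f * h.m ∧ h.n * h.f = h.f * h.n ∧ h.t * h.f = h.f * h.t ∧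
    h.a * h.y = h.y * h.a ∧ h.b * h.y = h.y * h.b ∧ h.m * h.y = h.y * h.m ∧
    h.n * h.y = h.y * h.n ∧ h.m * h.a = h.a * h.m ∧ h.t * h.a = h.a * h.t ∧
    h.n * h.b = h.b * h.n ∧ h.t * h.b = h.b * h.t ∧ h.e * h.t = h.t * h.e :=
  ⟨z_comm h h.xa h.xb, z_comm h h.fa h.fb, z_comm h h.ya h.yb, h.za.symm, h.zb.symm, h.mz, h.nz,
    z_comm h h.ta h.tb, ze h, h.zk.symm, h.xf.symm, h.xy.symm, h.xa.symm, h.xb.symm, h.mx, h.nx,
    (comm_of_cn (xe h).1).symm, h.xk.symm, h.yf, h.fa.symm, h.fb.symm, h.mf, h.nf, h.tf,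
    h.ya.symm, h.yb.symm, h.my, h.ny, h.ma, h.ta, h.nb, h.tb, h.te.symm⟩

theorem rC :
    (∀ w, h.x * (h.z * w) = h.z * (h.x * w)) ∧ (∀ w, h.f * (h.z * w) = h.z * (h.f * w)) ∧
    (∀ w, h.y * (h.z * w) = h.z * (h.y * w)) ∧ (∀ w, h.a * (h.z * w) = h.z * (h.a * w)) ∧
    (∀ w, h.b * (h.z * w) = h.z * (h.b * w)) ∧ (∀ w, h.m * (h.z * w) = h.z * (h.m * w)) ∧
    (∀ w, h.n * (h.z * w) = h.z * (h.n * w)) ∧ (∀ w, h.t * (h.z * w) = h.z * (h.t * w)) ∧
    (∀ w, h.e * (h.z * w) = h.z * (h.e * w)) ∧ (∀ w, h.k * (h.z * w) = h.z * (h.k * w)) ∧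
    (∀ w, h.f * (h.x * w) = h.x * (h.f * w)) ∧ (∀ w, h.y * (h.x * w) = h.x * (h.y * w)) ∧
    (∀ w, h.a * (h.x * w) = h.x * (h.a * w)) ∧ (∀ w, h.b * (h.x * w) = h.x * (h.b * w)) ∧
    (∀ w, h.m * (h.x * w) = h.x * (h.m * w)) ∧ (∀ w, h.n * (h.x * w) = h.x * (h.n * w)) ∧
    (∀ w, h.e * (h.x * w) = h.x * (h.e * w)) ∧ (∀ w, h.k * (h.x * w) = h.x * (h.k * w)) ∧
    (∀ w, h.y * (h.f * w) = h.f * (h.y * w)) ∧ (∀ w, h.a * (h.f * w) = h.f * (h.a * w)) ∧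
    (∀ w, h.b * (h.f * w) = h.f * (h.b * w)) ∧ (∀ w, h.m * (h.f * w) = h.f * (h.m * w)) ∧
    (∀ w, h.n * (h.f * w) = h.f * (h.n * w)) ∧ (∀ w, h.t * (h.f * w) = h.f * (h.t * w)) ∧
    (∀ w, h.a * (h.y * w) = h.y * (h.a * w)) ∧ (∀ w, h.b * (h.y * w) = h.y * (h.b * w)) ∧
    (∀ w, h.m * (h.y * w) = h.y * (h.m * w)) ∧ (∀ w, h.n * (h.y * w) = h.y * (h.n * w)) ∧
    (∀ w, h.m * (h.a * w) = h.a * (h.m * w)) ∧ (∀ w, h.t * (h.a * w) = h.a * (h.t * w)) ∧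
    (∀ w, h.n * (h.b * w) = h.b * (h.n * w)) ∧ (∀ w, h.t * (h.b * w) = h.b * (h.t * w)) ∧
    (∀ w, h.e * (h.t * w) = h.t * (h.e * w)) := by
  obtain ⟨a1, a2, a3, a4, a5, a6, a7, a8, a9, a10, a11, a12, a13, a14, a15, a16, a17, a18, a19,
    a20, a21, a22, a23, a24, a25, a26, a27, a28, a29, a30, a31, a32, a33⟩ := rC0 h
  exact ⟨sw' a1, sw' a2, sw' a3, sw' a4, sw' a5, sw' a6, sw' a7, sw' a8, sw' a9, sw' a10, sw' a11,
    sw' a12, sw' a13, sw' a14, sw' a15, sw' a16, sw' a17, sw' a18, sw' a19, sw' a20, sw' a21,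
    sw' a22, sw' a23, sw' a24, sw' a25, sw' a26, sw' a27, sw' a28, sw' a29, sw' a30, sw' a31,
    sw' a32, sw' a33⟩

theorem flip {u v c : G} (hc : c * c = 1) (e : u * v = c * (v * u)) : v * u = c * (u * v) := by
  rw [e, sq' hc]

/-- the rules with a correction term -/
theorem rN0 :
    h.b * h.a = h.z * (h.a * h.b) ∧ h.n * h.a = h.x * (h.a * h.n) ∧
    h.m * h.b = h.x * (h.b * h.m) ∧ h.n * h.m = h.x * (h.m * h.n) ∧
    h.t * h.x = h.z * (h.x * h.t) ∧ h.t * h.m = h.a * (h.m * h.t) ∧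
    h.t * h.n = h.b * (h.n * h.t) ∧ h.e * h.f = h.z * (h.f * h.e) ∧
    h.e * h.a = h.b * h.e ∧ h.e * h.b = h.a * h.e ∧ h.e * h.m = h.n * h.e ∧
    h.e * h.n = h.m * h.e := by
  have hn : cn h.n h.e = h.m := by
    rw [← (xe h).2, ← cn_cn, (ee' h).1, cn_one]
  refine ⟨flip h.zz ?_, flip h.xx ?_, flip h.xx ?_, ?_, ?_, ?_, ?_, flip h.zz ?_,
    (of_cn (he' h).2.1).symm, (of_cn (he' h).1).symm, (of_cn hn).symm, (of_cn (xe h).2).symm⟩
  · rw [of_cn h.ab]; simp only [rC h, rC0 h, mul_assoc]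
  · rw [of_cn h.an, h.wx']; simp only [rC h, rC0 h, mul_assoc]
  · rw [of_cn h.bm]; simp only [rC h, rC0 h, mul_assoc]
  · have := h.hD
    calc h.n * h.m = h.n * h.m * (h.x * h.x) := by rw [h.xx, mul_one]
      _ = h.n * h.m * (h.x * (h.m * h.n * h.m * h.n)) := by rw [this]
      _ = _ := by simp only [rC h, rC0 h, rI h, mul_assoc]
  · rw [of_cn h.tx]; simp only [rC h, rC0 h, mul_assoc]
  · rw [of_cn h.tm]; simp only [rC h, rC0 h, mul_assoc]
  · rw [of_cn h.tn]; simp only [rC h, rC0 h, mul_assoc]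
  · rw [of_cn (he' h).2.2]; simp only [rC h, rC0 h, mul_assoc]

theorem rN :
    (∀ w, h.b * (h.a * w) = h.z * (h.a * (h.b * w))) ∧
    (∀ w, h.n * (h.a * w) = h.x * (h.a * (h.n * w))) ∧
    (∀ w, h.m * (h.b * w) = h.x * (h.b * (h.m * w))) ∧
    (∀ w, h.n * (h.m * w) = h.x * (h.m * (h.n * w))) ∧
    (∀ w, h.t * (h.x * w) = h.z * (h.x * (h.t * w))) ∧
    (∀ w, h.t * (h.m * w) = h.a * (h.m * (h.t * w))) ∧
    (∀ w, h.t * (h.n * w) = h.b * (h.n * (h.t * w))) ∧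
    (∀ w, h.e * (h.f * w) = h.z * (h.f * (h.e * w))) ∧
    (∀ w, h.e * (h.a * w) = h.b * (h.e * w)) ∧ (∀ w, h.e * (h.b * w) = h.a * (h.e * w)) ∧
    (∀ w, h.e * (h.m * w) = h.n * (h.e * w)) ∧ (∀ w, h.e * (h.n * w) = h.m * (h.e * w)) := by
  obtain ⟨a1, a2, a3, a4, a5, a6, a7, a8, a9, a10, a11, a12⟩ := rN0 h
  exact ⟨sw a1, sw a2, sw a3, sw a4, sw a5, sw a6, sw a7, sw a8, sw' a9, sw' a10, sw' a11, sw' a12⟩

/-- the rules for `y ≠ 1` -/
theorem rY (hy : h.y ≠ 1) :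
    h.t * h.y = h.f * (h.y * h.t) ∧ h.e * h.y = h.x * (h.y * h.e) ∧
    (∀ w, h.t * (h.y * w) = h.f * (h.y * (h.t * w))) ∧
    (∀ w, h.e * (h.y * w) = h.x * (h.y * (h.e * w))) := by
  have a1 : h.t * h.y = h.f * (h.y * h.t) := by
    rw [of_cn (ty' h hy)]; simp only [rC h, rC0 h, mul_assoc]
  have a2 : h.e * h.y = h.x * (h.y * h.e) := by
    refine flip h.xx ?_
    rw [of_cn ((ee' h).2 hy)]; simp only [rC h, rC0 h, mul_assoc]
  exact ⟨a1, a2, sw a1, sw a2⟩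

theorem x1 : h.x ≠ 1 := by
  intro e
  have := h.tx
  rw [e, cn_one] at this
  exact h.z1 (by simpa using this)

theorem zx1 : h.z * h.x ≠ 1 := by
  intro e
  have e' : h.x = h.z := by
    rw [← inv_eq_of_mul_eq_one_right e]; exact (rI h).1
  have := h.tx
  rw [e', cn_of_comm (z_comm h h.ta h.tb)] at this
  exact h.z1 (by simpa using this)

end Rel

end Cfsg.Agent.H57.EE6
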