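import Cfsg.Agent.H57.EE6a

/-! The structure of `U` and `S` in `E5`. -/

set_option autoImplicit false
set_option linter.unusedSimpArgs false
set_option maxHeartbeats 1600000

namespace Cfsg.Agent.H57.EE6

open Subgroup Cfsg.Agent.H85 Cfsg.Agent.H93.LT

section Gen

variable {G : Type*} [Group G]

theorem norm_of_comm {H : Subgroup G} {c : G} (hc : ∀ u ∈ H, Commute c u) :
    c ∈ normalizer (H : Set G) :=
  centralizer_le_normalizer _ (mem_centralizer_iff.2 fun u hu => (hc u hu).symm)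

theorem comm_zp {c d : G} (hd : Commute c d) : ∀ u ∈ zpowers d, Commute c u := fun _ hu =>
  mem_cen1.1 ((zpowers_le.2 (mem_cen1.2 hd) : zpowers d ≤ centralizer {c}) hu)

theorem act_closure {s : Set G} {N : Subgroup G} {g : G}
    (hn : ∀ u ∈ s, u ∈ normalizer (N : Set G)) (hc : ∀ u ∈ s, u⁻¹ * cn u g ∈ N) :
    ∀ u ∈ closure s, u⁻¹ * cn u g ∈ N := by
  have hN : closure s ≤ normalizer (N : Set G) := (closure_le _).2 hn
  intro u hu
  induction hu using closure_induction with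
  | mem u hu => exact hc u hu
  | one => simp [cn]
  | mul u w _ hw h1 h2 =>
    have : (u * w)⁻¹ * cn (u * w) g = cn (u⁻¹ * cn u g) w * (w⁻¹ * cn w g) := by
      unfold cn; group
    rw [this]; exact N.mul_mem (cn_mem (hN hw) h1) h2
  | inv u hu h1 =>
    have : u⁻¹⁻¹ * cn u⁻¹ g = cn (u⁻¹ * cn u g)⁻¹ u⁻¹ := by unfold cn; group
    rw [this]; exact cn_mem (inv_mem (hN hu)) (N.inv_mem h1)

theorem sup_zp_eq (H : Subgroup G) (c : G) : H ⊔ zpowers c = closure ((H : Set G) ∪ {c}) := by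
  rw [Subgroup.closure_union, closure_eq, zpowers_eq_closure]

theorem act_sup_zp {N H : Subgroup G} {c g : G} (hH : H ≤ normalizer (N : Set G))
    (hc : c ∈ normalizer (N : Set G)) (h1 : ∀ u ∈ H, u⁻¹ * cn u g ∈ N) (h2 : c⁻¹ * cn c g ∈ N) :
    ∀ u ∈ H ⊔ zpowers c, u⁻¹ * cn u g ∈ N := by
  rw [sup_zp_eq]
  refine act_closure ?_ ?_
  · rintro u (hu | rfl)
    exacts [hH hu, hc]
  · rintro u (hu | rfl)
    exacts [h1 u hu, h2]

theorem ab_sup_zp {N H : Subgroup G} {c : G} (hH : H ≤ normalizer (N : Set G))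
    (hc : c ∈ normalizer (N : Set G)) (h1 : ∀ u ∈ H, ∀ v ∈ H, u⁻¹ * v⁻¹ * u * v ∈ N)
    (h2 : ∀ u ∈ H, u⁻¹ * cn u c ∈ N) :
    ∀ u ∈ H ⊔ zpowers c, ∀ v ∈ H ⊔ zpowers c, u⁻¹ * v⁻¹ * u * v ∈ N := by
  rw [sup_zp_eq]
  refine comm_closure ?_ ?_
  · rintro u (hu | rfl)
    exacts [hH hu, hc]
  · rintro u (hu | rfl) v (hv | rfl)
    · exact h1 u hu v hv
    · simpa [mul_assoc] using h2 u hu
    · simpa [mul_assoc] using N.inv_mem (h2 v hv)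
    · simp

theorem nrm_of_ab {N0 N H : Subgroup G} (h0 : N0 ≤ N) (h1 : N ≤ H)
    (hc : ∀ u ∈ H, ∀ v ∈ H, u⁻¹ * v⁻¹ * u * v ∈ N0) : H ≤ normalizer (N : Set G) := by
  have key : ∀ g ∈ H, ∀ v ∈ N, g * v * g⁻¹ ∈ N := by
    intro g hg v hv
    have : g * v * g⁻¹ = v * (v⁻¹ * g⁻¹⁻¹ * v * g⁻¹) := by group
    rw [this]
    exact N.mul_mem hv (h0 (hc v (h1 hv) _ (H.inv_mem hg)))
  intro g hg
  refine mem_normalizer_iff.2 fun v => ⟨key g hg v, fun hv => ?_⟩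
  have := key _ (H.inv_mem hg) _ hv
  simpa [mul_assoc] using this

theorem ex2 {H : Subgroup G} {c d u : G} (hc : c ∈ normalizer (H : Set G)) (c2 : c * c ∈ H)
    (hd : d ∈ normalizer ((H ⊔ zpowers c : Subgroup G) : Set G)) (d2 : d * d ∈ H ⊔ zpowers c)
    (hu : u ∈ (H ⊔ zpowers c) ⊔ zpowers d) :
    ∃ v ∈ H, ∃ α, (α = 1 ∨ α = c ∨ α = d ∨ α = d * c) ∧ u = α * v := by
  obtain ⟨w, hw, e⟩ := ex_sup_zp hd d2 hu
  obtain ⟨v, hv, e'⟩ := ex_sup_zp hc c2 hw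
  refine ⟨v, hv, ?_⟩
  rcases e with rfl | rfl <;> rcases e' with rfl | rfl
  · exact ⟨1, by simp, by simp⟩
  · exact ⟨c, by simp, rfl⟩
  · exact ⟨d, by simp, rfl⟩
  · exact ⟨d * c, by simp, by rw [mul_assoc]⟩

theorem zpL {H : Subgroup G} {c u : G} (hu : u ∈ H) : u ∈ H ⊔ zpowers c := mem_sup_left hu
theorem zpR {H : Subgroup G} {c : G} : c ∈ H ⊔ zpowers c := mem_sup_right (mem_zpowers c)

theorem cm_one {u v : G} (h : Commute u v) : u⁻¹ * v⁻¹ * u * v = 1 := by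
  rw [mul_assoc, h.eq]; group

theorem act_eq (u g : G) : cn u g = u * (u⁻¹ * cn u g) := (mul_inv_cancel_left _ _).symm

end Gen

section Rel

variable {G : Type*} [Group G] (h : E5 G)

/-- all rewriting rules -/
theorem R : (type_of% (rI h)) ∧ (type_of% (rC h)) ∧ (type_of% (rC0 h)) ∧ (type_of% (rN h)) ∧
    (type_of% (rN0 h)) ∧ (∀ a b c : G, a * b * c = a * (b * c)) ∧
    (∀ a b : G, (a * b)⁻¹ = b⁻¹ * a⁻¹) ∧ (∀ a : G, a * 1 = a) ∧ (∀ a : G, 1 * a = a) ∧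
    (1 : G)⁻¹ = 1 ∧ (∀ a : G, a⁻¹⁻¹ = a) ∧ (∀ a b : G, a⁻¹ * (a * b) = b) ∧
    (∀ a b : G, a * (a⁻¹ * b) = b) ∧ (∀ a : G, a⁻¹ * a = 1) ∧ (∀ a : G, a * a⁻¹ = 1) ∧
    (∀ a b : G, cn a b = b⁻¹ * (a * b)) :=
  ⟨rI h, rC h, rC0 h, rN h, rN0 h, mul_assoc, mul_inv_rev, mul_one, one_mul, inv_one, inv_inv,
    inv_mul_cancel_left, mul_inv_cancel_left, inv_mul_cancel, mul_inv_cancel,
    fun _ _ => mul_assoc _ _ _⟩

/-- rules for `k⁻¹` -/
theorem rK : (∀ w, h.k⁻¹ * (h.z * w) = h.z * (h.k⁻¹ * w)) ∧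
    (∀ w, h.k⁻¹ * (h.x * w) = h.x * (h.k⁻¹ * w)) ∧
    (∀ w, h.k⁻¹ * (h.f * w) = h.x * (h.f * (h.k⁻¹ * w))) := by
  refine ⟨sw' h.zk.inv_right.symm, sw' h.xk.inv_right.symm, sw ?_⟩
  calc h.k⁻¹ * h.f = cn h.f h.k * h.k⁻¹ := by unfold cn; group
    _ = _ := by rw [h.fk]; simp only [R h]

theorem rKy : (∀ w, h.k⁻¹ * (h.y * w) = h.y * (h.k⁻¹ * w)) ∨
    (∀ w, h.k⁻¹ * (h.y * w) = h.x * (h.y * (h.k⁻¹ * w))) := by
  have e : h.k⁻¹ * h.y = cn h.y h.k * h.k⁻¹ := by unfold cn; group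
  rcases h.yk with e' | e' <;> rw [e'] at e
  · exact Or.inl (sw' e)
  · refine Or.inr (sw ?_)
    rw [e]; simp only [R h]

def Q : Subgroup G := zpowers h.z ⊔ zpowers h.x
def W : Subgroup G := Q h ⊔ zpowers h.f
def UU (H : Subgroup G) : Subgroup G :=
  (((H ⊔ zpowers (h.a * h.m)) ⊔ zpowers (h.b * h.n)) ⊔ zpowers h.m) ⊔ zpowers h.n
def N1 : Subgroup G := (h.U ⊔ zpowers h.e) ⊔ zpowers h.k
abbrev S : Subgroup G := h.T3 ⊔ zpowers h.k

theorem zQ : h.z ∈ Q h := zpL (mem_zpowers _)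
theorem xQ : h.x ∈ Q h := zpR
theorem zxQ : h.z * h.x ∈ Q h := mul_mem (zQ h) (xQ h)

theorem memQ {u : G} (hu : u ∈ Q h) : u = 1 ∨ u = h.z ∨ u = h.x ∨ u = h.z * h.x := by
  obtain ⟨v, hv, e⟩ := ex_sup_zp (norm_of_comm (comm_zp (rC0 h).1))
    (by rw [h.xx]; exact one_mem _) hu
  rcases mem_zp_inv h.zz hv with rfl | rfl <;> rcases e with rfl | rfl <;> simp [R h]

theorem gU : h.z ∈ h.U ∧ h.f ∈ h.U ∧ h.x ∈ h.U ∧ h.y ∈ h.U ∧ h.a ∈ h.U ∧ h.b ∈ h.U ∧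
    h.m ∈ h.U ∧ h.n ∈ h.U := by
  refine ⟨?_, ?_, ?_, ?_, ?_, ?_, ?_, ?_⟩ <;> exact subset_closure (by simp)

theorem gZ : h.z ∈ h.ZU ∧ h.f ∈ h.ZU ∧ h.x ∈ h.ZU ∧ h.y ∈ h.ZU := by
  refine ⟨?_, ?_, ?_, ?_⟩ <;> exact subset_closure (by simp)

theorem gK : h.z ∈ h.K1 ∧ h.f ∈ h.K1 ∧ h.x ∈ h.K1 ∧ h.y ∈ h.K1 ∧ h.a ∈ h.K1 ∧ h.m ∈ h.K1 := by
  refine ⟨?_, ?_, ?_, ?_, ?_, ?_⟩ <;> exact subset_closure (by simp)

theorem QZ : Q h ≤ h.ZU := sup_le (zpowers_le.2 (gZ h).1) (zpowers_le.2 (gZ h).2.2.1)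
theorem QW : Q h ≤ W h := le_sup_left
theorem WZ : W h ≤ h.ZU := sup_le (QZ h) (zpowers_le.2 (gZ h).2.1)

theorem ZU_le : h.ZU ≤ h.U := by
  refine (closure_le _).2 ?_
  rintro u (rfl | rfl | rfl | rfl) <;> simp [gU h]

theorem K1U : h.K1 ≤ h.U := by
  refine (closure_le _).2 ?_
  rintro u (rfl | rfl | rfl | rfl | rfl | rfl) <;> simp [gU h]

theorem QU : Q h ≤ h.U := (QZ h).trans (ZU_le h)

theorem cZ0 {u : G} (hu : u ∈ h.U) :
    Commute h.z u ∧ Commute h.x u ∧ Commute h.f u ∧ Commute h.y u := by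
  refine ⟨?_, ?_, ?_, ?_⟩ <;> refine comm_closure' ?_ u hu <;>
    rintro u (rfl | rfl | rfl | rfl | rfl | rfl | rfl | rfl) <;>
    simp only [Commute, SemiconjBy, R h]

theorem cZ {c u : G} (hc : c ∈ h.ZU) (hu : u ∈ h.U) : Commute u c := by
  refine comm_closure' ?_ c hc
  obtain ⟨a1, a2, a3, a4⟩ := cZ0 h hu
  rintro u (rfl | rfl | rfl | rfl)
  exacts [a1.symm, a3.symm, a2.symm, a4.symm]

/-- rules for an element of `U` -/
theorem rU {u : G} (hu : u ∈ h.U) :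
    (∀ w, u * (h.z * w) = h.z * (u * w)) ∧ (∀ w, u * (h.x * w) = h.x * (u * w)) ∧
    (∀ w, u * (h.f * w) = h.f * (u * w)) ∧ (∀ w, u * (h.y * w) = h.y * (u * w)) ∧
    u * h.z = h.z * u ∧ u * h.x = h.x * u ∧ u * h.f = h.f * u ∧ u * h.y = h.y * u := by
  obtain ⟨a1, a2, a3, a4⟩ := cZ0 h hu
  exact ⟨sw' a1.symm, sw' a2.symm, sw' a3.symm, sw' a4.symm, a1.symm, a2.symm, a3.symm, a4.symm⟩

theorem eaK : EA h.K1 := by
  refine ea_closure ?_ ?_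
  · rintro u (rfl | rfl | rfl | rfl | rfl | rfl) <;> simp only [R h]
  · rintro u (rfl | rfl | rfl | rfl | rfl | rfl) v (rfl | rfl | rfl | rfl | rfl | rfl) <;>
      simp only [R h]

theorem cmU : ∀ u ∈ h.U, ∀ v ∈ h.U, u⁻¹ * v⁻¹ * u * v ∈ Q h := by
  refine comm_closure (fun u hu => norm_of_comm fun q hq => cZ h (QZ h hq) (subset_closure hu)) ?_
  rintro u (rfl | rfl | rfl | rfl | rfl | rfl | rfl | rfl) v
    (rfl | rfl | rfl | rfl | rfl | rfl | rfl | rfl) <;>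
    simp only [R h, one_mem, zQ h, xQ h]

theorem cmU' {u v : G} (hu : u ∈ h.U) (hv : v ∈ h.U) : u⁻¹ * cn u v ∈ Q h := by
  simpa [mul_assoc] using cmU h u hu v hv

theorem sqU : ∀ u ∈ h.U, u * u ∈ Q h := by
  refine sq_closure (cmU h) ?_
  rintro u (rfl | rfl | rfl | rfl | rfl | rfl | rfl | rfl) <;> simp only [R h, one_mem]

theorem nrm {H : Subgroup G} (h1 : Q h ≤ H) (h2 : H ≤ h.U) : h.U ≤ normalizer (H : Set G) :=
  nrm_of_ab h1 h2 (cmU h)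

theorem memW {u : G} (hu : u ∈ W h) : ∃ q ∈ Q h, u = q ∨ u = h.f * q :=
  ex_sup_zp (nrm h le_rfl (QU h) (gU h).2.1) (sqU h _ (gU h).2.1) hu

theorem memZ {u : G} (hu : u ∈ h.ZU) : ∃ q ∈ W h, u = q ∨ u = h.y * q := by
  refine ex_sup_zp (nrm h (QW h) ((WZ h).trans (ZU_le h)) (gU h).2.2.2.1)
    (QW h (sqU h _ (gU h).2.2.2.1)) ((closure_le (W h ⊔ zpowers h.y)).2 ?_ hu)
  rintro u (rfl | rfl | rfl | rfl)
  exacts [zpL (QW h (zQ h)), zpL zpR, zpL (QW h (xQ h)), zpR]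

theorem le_UU (H : Subgroup G) : H ≤ UU h H := fun _ hu => zpL (zpL (zpL (zpL hu)))

theorem gUU (H : Subgroup G) : h.a * h.m ∈ UU h H ∧ h.b * h.n ∈ UU h H ∧ h.m ∈ UU h H ∧
    h.n ∈ UU h H ∧ h.a ∈ UU h H ∧ h.b ∈ UU h H := by
  have a1 : h.a * h.m ∈ UU h H := zpL (zpL (zpL zpR))
  have a2 : h.b * h.n ∈ UU h H := zpL (zpL zpR)
  have a3 : h.m ∈ UU h H := zpL zpR
  have a4 : h.n ∈ UU h H := zpR
  refine ⟨a1, a2, a3, a4, ?_, ?_⟩
  · simpa only [R h] using mul_mem a1 a3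
  · simpa only [R h] using mul_mem a2 a4

theorem UU_le {H : Subgroup G} (h2 : H ≤ h.U) : UU h H ≤ h.U := by
  obtain ⟨-, -, -, -, a, b, m, n⟩ := gU h
  exact sup_le (sup_le (sup_le (sup_le h2 (zpowers_le.2 (mul_mem a m)))
    (zpowers_le.2 (mul_mem b n))) (zpowers_le.2 m)) (zpowers_le.2 n)

theorem U_le : h.U ≤ UU h h.ZU := by
  refine (closure_le _).2 ?_
  obtain ⟨a1, a2, a3, a4⟩ := gZ h
  obtain ⟨-, -, b1, b2, b3, b4⟩ := gUU h h.ZU
  rintro u (rfl | rfl | rfl | rfl | rfl | rfl | rfl | rfl)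
  exacts [le_UU h _ a1, le_UU h _ a2, le_UU h _ a3, le_UU h _ a4, b3, b4, b1, b2]

theorem dec {H : Subgroup G} (h1 : Q h ≤ H) (h2 : H ≤ h.U) {u : G} (hu : u ∈ UU h H) :
    ∃ c ∈ H, ∃ α β : G, (α = 1 ∨ α = h.a * h.m ∨ α = h.b * h.n ∨ α = h.b * h.n * (h.a * h.m)) ∧
      (β = 1 ∨ β = h.m ∨ β = h.n ∨ β = h.n * h.m) ∧ u = β * (α * c) := by
  obtain ⟨-, -, -, -, a, b, m, n⟩ := gU h
  have am := mul_mem a m
  have bn := mul_mem b n
  have l1 : H ⊔ zpowers (h.a * h.m) ≤ h.U := sup_le h2 (zpowers_le.2 am)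
  have l2 : (H ⊔ zpowers (h.a * h.m)) ⊔ zpowers (h.b * h.n) ≤ h.U := sup_le l1 (zpowers_le.2 bn)
  have l3 : ((H ⊔ zpowers (h.a * h.m)) ⊔ zpowers (h.b * h.n)) ⊔ zpowers h.m ≤ h.U :=
    sup_le l2 (zpowers_le.2 m)
  have q1 : Q h ≤ H ⊔ zpowers (h.a * h.m) := h1.trans le_sup_left
  have q2 := q1.trans (le_sup_left (b := zpowers (h.b * h.n)))
  have q3 := q2.trans (le_sup_left (b := zpowers h.m))
  obtain ⟨v, hv, β, hβ, rfl⟩ := ex2 (nrm h q2 l2 m) (q2 (sqU h _ m)) (nrm h q3 l3 n)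
    (q3 (sqU h _ n)) hu
  obtain ⟨c, hc, α, hα, rfl⟩ := ex2 (nrm h h1 h2 am) (h1 (sqU h _ am)) (nrm h q1 l1 bn)
    (q1 (sqU h _ bn)) hv
  exact ⟨c, hc, α, β, hα, hβ, rfl⟩

theorem cen_mem0 {α β : G}
    (hα : α = 1 ∨ α = h.a * h.m ∨ α = h.b * h.n ∨ α = h.b * h.n * (h.a * h.m))
    (hβ : β = 1 ∨ β = h.m ∨ β = h.n ∨ β = h.n * h.m)
    (k1 : (β * α)⁻¹ * h.a⁻¹ * (β * α) * h.a = 1) (k2 : (β * α)⁻¹ * h.b⁻¹ * (β * α) * h.b = 1) :
    α = 1 ∧ β = 1 := by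
  have z1 := h.z1
  have x1 := x1 h
  have zx1 := zx1 h
  rcases hα with rfl | rfl | rfl | rfl <;> rcases hβ with rfl | rfl | rfl | rfl <;>
    simp only [R h, z1, x1, zx1] at k1 k2
  exact ⟨rfl, rfl⟩

theorem cen_mem {H : Subgroup G} (h1 : Q h ≤ H) (h2 : H ≤ h.ZU) {u : G} (hu : u ∈ UU h H)
    (ha : Commute u h.a) (hb : Commute u h.b) : u ∈ H := by
  obtain ⟨c, hc, α, β, hα, hβ, e⟩ := dec h h1 (h2.trans (ZU_le h)) hu
  have key : ∀ v ∈ h.U, Commute u v → (β * α)⁻¹ * v⁻¹ * (β * α) * v = 1 := by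
    intro v hv e'
    refine cm_one ?_
    have := e'.mul_left (cZ h (h2 hc) hv).symm.inv_left
    rwa [e, ← mul_assoc, mul_inv_cancel_right] at this
  obtain ⟨rfl, rfl⟩ := cen_mem0 h hα hβ (key _ (gU h).2.2.2.2.1 ha) (key _ (gU h).2.2.2.2.2.1 hb)
  rw [e, one_mul, one_mul]; exact hc

theorem fQ : h.f ∉ Q h := by
  intro hf
  have : Commute h.e h.f :=
    comm_sup_zp (comm_zp (ze h)) (comm_of_cn (xe h).1).symm _ hf
  have := cm_one this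
  simp only [R h] at this
  exact h.z1 this

theorem yW0 (hy : h.y ≠ 1) : h.y ∉ W h := by
  intro hf
  obtain ⟨q, hq, e⟩ := memW h hf
  have e1 : cn q h.e = q :=
    cn_of_comm (comm_sup_zp (comm_zp (ze h)) (comm_of_cn (xe h).1).symm _ hq).symm
  have e2 := (ee' h).2 hy
  rcases e with e | e
  · rw [e, e1] at e2
    exact x1 h (by simpa using e2)
  · rw [e, cn_mul, e1, (he' h).2.2, ← mul_assoc] at e2
    have e3 : h.f * h.z * (h.x * h.f) = h.x * h.f * (h.x * h.f) := by rw [mul_right_cancel e2]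
    simp only [R h] at e3
    exact zx1 h e3

theorem actQ {g : G} (hz : Commute g h.z) (hx : Commute g h.x) {q : G} (hq : q ∈ Q h) :
    cn q g = q := cn_of_comm (comm_sup_zp (comm_zp hz) hx _ hq).symm

theorem eQ {q : G} (hq : q ∈ Q h) : cn q h.e = q :=
  actQ h (ze h) (comm_of_cn (xe h).1).symm hq

theorem kQ {q : G} (hq : q ∈ Q h) : cn q h.k = q := actQ h h.zk.symm h.xk.symm hq

theorem uZ {c u : G} (hc : c ∈ h.ZU) (hu : u ∈ h.U) : cn c u = c := cn_of_comm (cZ h hc hu).symm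

theorem kp : (h.a * h.m)⁻¹ * cn (h.a * h.m) h.k ∈ Q h ∧ (h.b * h.n)⁻¹ * cn (h.b * h.n) h.k ∈ Q h ∧
    h.n⁻¹ * cn h.m h.k ∈ Q h ∧ h.m⁻¹ * cn h.n h.k ∈ Q h := by
  refine ⟨?_, ?_, ?_, ?_⟩
  · rcases h.p1' with e | e <;> rw [e] <;> simp only [R h, zxQ h, one_mem]
  · rcases h.p2' with e | e <;> rw [e] <;> simp only [R h, zxQ h, one_mem]
  · rcases h.q1' with e | e <;> rw [e] <;> simp [xQ h]
  · rcases h.q2' with e | e <;> rw [e] <;> simp [xQ h]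

theorem comm_act {p p' u : G} (hu : u ∈ h.U) (e : p⁻¹ * p' ∈ Q h) (c : Commute p u) :
    Commute p' u := by
  rw [← mul_inv_cancel_left p p']
  exact c.mul_left (cZ h (QZ h e) hu).symm

theorem invK0 {α β : G}
    (hα : α = 1 ∨ α = h.a * h.m ∨ α = h.b * h.n ∨ α = h.b * h.n * (h.a * h.m))
    (hβ : β = 1 ∨ β = h.m ∨ β = h.n ∨ β = h.n * h.m) (k1 : β * α * (β * α) = 1) :
    (Commute (h.a * h.m) (β * α) ∨ Commute (h.b * h.n) (β * α)) ∧
      (Commute h.m (β * α) ∨ Commute h.n (β * α)) := by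
  have z1 := h.z1
  have x1 := x1 h
  have zx1 := zx1 h
  rcases hα with rfl | rfl | rfl | rfl <;> rcases hβ with rfl | rfl | rfl | rfl <;>
    simp only [R h, z1, x1, zx1, Commute, SemiconjBy, true_or, or_true, and_self] at k1 ⊢

theorem eaZ : EA h.ZU := fun u hu => eaK h u ((closure_le h.K1).2 (by
  obtain ⟨a1, a2, a3, a4, -⟩ := gK h
  rintro u (rfl | rfl | rfl | rfl)
  exacts [a1, a2, a3, a4]) hu)

theorem invK1 {u : G} (hu : u ∈ h.U) (h2 : u * u = 1) :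
    (Commute (h.a * h.m) u ∨ Commute (h.b * h.n) u) ∧ (Commute h.m u ∨ Commute h.n u) := by
  obtain ⟨c, hc, α, β, hα, hβ, e⟩ := dec h (QZ h) (ZU_le h) (U_le h hu)
  rw [← mul_assoc] at e
  have hw : β * α ∈ h.U := by
    have := mul_mem hu (inv_mem (ZU_le h hc))
    rwa [e, mul_inv_cancel_right] at this
  have k1 : β * α * (β * α) = 1 := by
    rw [e, mul_assoc, ← mul_assoc c, ← (cZ h hc hw).eq, mul_assoc _ c c, eaZ h c hc, mul_one] at h2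
    exact h2
  obtain ⟨-, -, -, -, a, b, m, n⟩ := gU h
  have key : ∀ p ∈ h.U, Commute p (β * α) → Commute p u := fun p hp e' => by
    rw [e]; exact e'.mul_right (cZ h hc hp)
  obtain ⟨i1, i2⟩ := invK0 h hα hβ k1
  exact ⟨i1.imp (key _ (mul_mem a m)) (key _ (mul_mem b n)), i2.imp (key _ m) (key _ n)⟩

section Fin

variable [Finite G]

theorem tU : h.t ∈ normalizer (h.U : Set G) := by
  refine norm_of_forall (cn_closure ?_)
  obtain ⟨a1, a2, a3, a4, a5, a6, a7, a8⟩ := gU h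
  rintro u (rfl | rfl | rfl | rfl | rfl | rfl | rfl | rfl)
  any_goals simp only [R h, a1, a2, a3, a5, a6, a7, a8, mul_mem]
  by_cases hy : h.y = 1
  · simp only [hy, R h, one_mem]
  · simp only [R h, rY h hy, a2, a4, mul_mem]

theorem eU : h.e ∈ normalizer (h.U : Set G) := by
  refine norm_of_forall (cn_closure ?_)
  obtain ⟨a1, a2, a3, a4, a5, a6, a7, a8⟩ := gU h
  rintro u (rfl | rfl | rfl | rfl | rfl | rfl | rfl | rfl)
  any_goals simp only [R h, a1, a2, a3, a5, a6, a7, a8, mul_mem]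
  by_cases hy : h.y = 1
  · simp only [hy, R h, one_mem]
  · simp only [R h, rY h hy, a3, a4, mul_mem]

theorem invK {u : G} (hu : u ∈ h.U) (h2 : u * u = 1) :
    ∃ σ ∈ normalizer (h.U : Set G), Commute (cn (h.a * h.m) σ) u ∧ Commute (cn h.m σ) u := by
  have e1 : cn (h.a * h.m) h.e = h.b * h.n := by simp only [R h]
  have e2 : cn h.m h.e = h.n := (xe h).2
  obtain ⟨k1, k2, k3, k4⟩ := kp h
  obtain ⟨i1 | i1, i2 | i2⟩ := invK1 h hu h2
  · exact ⟨1, one_mem _, by rwa [cn_one], by rwa [cn_one]⟩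
  · exact ⟨h.k, h.kU, comm_act h hu k1 i1, comm_act h hu k3 i2⟩
  · refine ⟨h.e * h.k, mul_mem (eU h) h.kU, ?_, ?_⟩
    · rw [cn_cn, e1]; exact comm_act h hu k2 i1
    · rw [cn_cn, e2]; exact comm_act h hu k4 i2
  · exact ⟨h.e, eU h, by rwa [e1], by rwa [e2]⟩

omit [Finite G] in
theorem ee1 : h.e * h.e ∈ h.U := by rw [(ee' h).1]; exact one_mem _

theorem kUe : h.k ∈ normalizer ((h.U ⊔ zpowers h.e : Subgroup G) : Set G) := by
  refine norm_of_forall (cn_sup_zp (fun u hu => zpL (cn_mem h.kU hu)) ?_)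
  rw [act_eq]; exact mul_mem zpR (zpL h.ek)

theorem cosN {s : G} (hs : s ∈ N1 h) :
    ∃ u ∈ h.U, s = u ∨ s = h.e * u ∨ s = h.k * u ∨ s = h.k * (h.e * u) := by
  obtain ⟨u, hu, α, hα, rfl⟩ := ex2 (eU h) (ee1 h) (kUe h) (zpL h.kk) hs
  refine ⟨u, hu, ?_⟩
  rcases hα with rfl | rfl | rfl | rfl <;> simp [mul_assoc]

omit [Finite G] in
theorem gN : h.U ≤ N1 h ∧ h.e ∈ N1 h ∧ h.k ∈ N1 h :=
  ⟨fun _ hu => zpL (zpL hu), zpL zpR, zpR⟩

/-- `t ^ k = e t u₁` -/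
def u1 : G := (h.e * h.t)⁻¹ * cn h.t h.k

omit [Finite G] in
theorem u1U : u1 h ∈ h.U := h.tk

omit [Finite G] in
theorem tk' : cn h.t h.k = h.e * h.t * u1 h := (mul_inv_cancel_left _ _).symm

omit [Finite G] in
theorem kt' : cn h.k h.t = h.k * ((u1 h)⁻¹ * h.e) := by
  have : cn h.k h.t = h.k * ((cn h.t h.k)⁻¹ * h.t) := by unfold cn; group
  rw [this, tk']; simp only [R h]

theorem tN : h.t ∈ normalizer (N1 h : Set G) := by
  obtain ⟨a1, a2, a3⟩ := gN h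
  refine norm_of_forall (cn_sup_zp (cn_sup_zp (fun u hu => a1 (cn_mem (tU h) hu)) ?_) ?_)
  · rw [cn_of_comm h.te.symm]; exact a2
  · rw [kt']; exact mul_mem a3 (mul_mem (a1 (inv_mem (u1U h))) a2)

omit [Finite G] in
theorem U_T3 : h.U ≤ h.T3 := closure_mono (by
  rintro u (rfl | rfl | rfl | rfl | rfl | rfl | rfl | rfl) <;> simp)

omit [Finite G] in
theorem gS : h.U ≤ S h ∧ h.e ∈ S h ∧ h.k ∈ S h ∧ h.t ∈ S h :=
  ⟨fun _ hu => zpL (U_T3 h hu), zpL (subset_closure (by simp [h.ge])), zpR,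
    zpL (subset_closure (by simp))⟩

omit [Finite G] in
theorem N1S : N1 h ≤ S h :=
  sup_le (sup_le (gS h).1 (zpowers_le.2 (gS h).2.1)) (zpowers_le.2 (gS h).2.2.1)

omit [Finite G] in
theorem S_eq : S h = N1 h ⊔ zpowers h.t := by
  refine le_antisymm (sup_le ((closure_le _).2 ?_) (zpowers_le.2 (zpL (gN h).2.2)))
    (sup_le (N1S h) (zpowers_le.2 (gS h).2.2.2))
  obtain ⟨a1, a2, a3, a4, a5, a6, a7, a8⟩ := gU h
  have l := (gN h).1
  rintro u (rfl | rfl | rfl | rfl | rfl | rfl | rfl | rfl | rfl | rfl)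
  exacts [zpL (l a1), zpL (l a2), zpL (l a3), zpL (l a4), zpL (l a5), zpL (l a6), zpL (l a7),
    zpL (l a8), zpR, zpL (h.ge ▸ (gN h).2.1)]

omit [Finite G] in
theorem tt1 : h.t * h.t ∈ N1 h := by rw [h.tt]; exact one_mem _

theorem cosS {s : G} (hs : s ∈ S h) : ∃ u ∈ N1 h, s = u ∨ s = h.t * u :=
  ex_sup_zp (tN h) (tt1 h) (S_eq h ▸ hs)

omit [Finite G] in
theorem N1c {s : G} (hs : s ∈ N1 h) : Commute h.x s ∧ Commute h.z s :=
  ⟨comm_sup_zp (comm_sup_zp (fun _ hu => (cZ0 h hu).2.1) (comm_of_cn (xe h).1)) h.xk s hs,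
    comm_sup_zp (comm_sup_zp (fun _ hu => (cZ0 h hu).1) (ze h).symm) h.zk s hs⟩

omit [Finite G] in
theorem xt : ¬ Commute h.x h.t := fun e => by
  have := cm_one e
  simp only [R h] at this
  exact h.z1 this

omit [Finite G] in
theorem tN1 : h.t ∉ N1 h := fun e => xt h (N1c h e).1

theorem SN1 {s : G} (hs : s ∈ S h) (hx : Commute h.x s) : s ∈ N1 h := by
  obtain ⟨u, hu, rfl | rfl⟩ := cosS h hs
  · exact hu
  · have := hx.mul_right (N1c h hu).1.inv_right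
    rw [mul_inv_cancel_right] at this
    exact (xt h this).elim

theorem relN : (N1 h).relIndex (S h) = 2 := by
  rw [S_eq]; exact relIndex_sup_zp (tN h) (tt1 h) (tN1 h)

theorem SU : S h ≤ normalizer (h.U : Set G) := by
  rw [S_eq]
  exact sup_le (sup_le (sup_le le_normalizer (zpowers_le.2 (eU h))) (zpowers_le.2 h.kU))
    (zpowers_le.2 (tU h))

omit [Finite G] in
theorem eU0 : h.e ∉ h.U := fun e => by
  have := cm_one (cZ0 h e).2.2.1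
  simp only [R h] at this
  exact h.z1 this

theorem fN1 {s : G} (hs : s ∈ N1 h) (hf : cn h.f s = h.f) : s ∈ h.U := by
  obtain ⟨u, hu, rfl | rfl | rfl | rfl⟩ := cosN h hs
  · exact hu
  all_goals
    have e := cm_one (comm_of_cn hf)
    simp only [R h, rK h, rU h hu, rU h (inv_mem hu), h.z1, x1 h, zx1 h] at e

omit [Finite G] in
theorem noinv {u : G} (hu : u ∈ h.U) : h.t * (h.k * u) * (h.t * (h.k * u)) ≠ 1 ∧
    h.t * (h.k * (h.e * u)) * (h.t * (h.k * (h.e * u))) ≠ 1 := by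
  have key : ∀ v : G, cn h.z v = h.z → cn h.x v = h.z * h.x →
      (cn h.f v = h.x * h.f ∨ cn h.f v = h.z * (h.x * h.f)) → v * v ≠ 1 := by
    intro v a1 a2 a3 e
    have e' : cn (cn h.f v) v = h.f := by rw [← cn_cn, e, cn_one]
    rcases a3 with a3 | a3 <;> rw [a3] at e' <;> simp only [cn_mul, a1, a2, a3] at e' <;>
      simp only [R h] at e' <;> exact h.z1 (by simpa using e')
  refine ⟨key _ ?_ ?_ (Or.inl ?_), key _ ?_ ?_ (Or.inr ?_)⟩ <;>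
    simp only [R h, rK h, rU h hu, rU h (inv_mem hu)]

/-! #### the quotient `S / U₀ H` -/

section N0

variable {H : Subgroup G} (h1 : Q h ≤ H) (h2 : H ≤ h.U) (h3 : h.y = 1 ∨ h.f ∈ H)

include h1 h2 h3

omit [Finite G] in
theorem act0 {s : G} (hs : s = h.t ∨ s = h.e ∨ s = h.k) : ∀ u ∈ h.U, u⁻¹ * cn u s ∈ UU h H := by
  have q : Q h ≤ UU h H := h1.trans (le_UU h H)
  refine act_closure (fun u hu => nrm h q (UU_le h h2) (subset_closure hu)) ?_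
  obtain ⟨b1, b2, a7, a8, a5, a6⟩ := gUU h H
  have a1 := q (zQ h)
  have a3 := q (xQ h)
  have hy : h.y⁻¹ * cn h.y s ∈ UU h H := by
    by_cases hy : h.y = 1
    · simp [hy, cn]
    have a2 := le_UU h H (h3.resolve_left hy)
    rcases hs with rfl | rfl | rfl
    · simp only [R h, rY h hy, a2]
    · simp only [R h, rY h hy, a3]
    · rcases h.yk with e | e <;> rw [e] <;> simp [a3]
  obtain ⟨k1, k2, k3, k4⟩ := kp h
  have c1 : cn (h.a * h.m) h.k ∈ UU h H := by rw [act_eq]; exact mul_mem b1 (q k1)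
  have c2 : cn (h.b * h.n) h.k ∈ UU h H := by rw [act_eq]; exact mul_mem b2 (q k2)
  have c3 : cn h.m h.k ∈ UU h H := by simpa using mul_mem a8 (q k3)
  have c4 : cn h.n h.k ∈ UU h H := by simpa using mul_mem a7 (q k4)
  have c5 : cn h.a h.k ∈ UU h H := by
    have := mul_mem c1 (inv_mem c3)
    rwa [cn_mul, mul_inv_cancel_right] at this
  have c6 : cn h.b h.k ∈ UU h H := by
    have := mul_mem c2 (inv_mem c4)
    rwa [cn_mul, mul_inv_cancel_right] at this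
  rcases hs with rfl | rfl | rfl <;> rintro u (rfl | rfl | rfl | rfl | rfl | rfl | rfl | rfl)
  any_goals exact hy
  any_goals (simp only [R h, rK h, a1, a3, a5, a6, a7, a8, mul_mem, one_mem]; done)
  exacts [mul_mem (inv_mem a5) c5, mul_mem (inv_mem a6) c6, mul_mem (inv_mem a7) c3,
    mul_mem (inv_mem a8) c4]

theorem nrm0 {s : G} (hs : s = h.t ∨ s = h.e ∨ s = h.k) : s ∈ normalizer (UU h H : Set G) := by
  refine norm_of_forall fun u hu => ?_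
  rw [act_eq]; exact mul_mem hu (act0 h h1 h2 h3 hs u (UU_le h h2 hu))

omit [Finite G] in
theorem cc0 : h.e * u1 h * (h.e * u1 h) ∈ UU h H := by
  have q : Q h ≤ UU h H := h1.trans (le_UU h H)
  have e : h.e * u1 h * (h.e * u1 h) =
      (u1 h * u1 h) * cn ((u1 h)⁻¹ * cn (u1 h) h.e) (u1 h) := by simp only [R h]
  rw [e]
  exact mul_mem (q (sqU h _ (u1U h))) (cn_mem (nrm h q (UU_le h h2) (u1U h))
    (act0 h h1 h2 h3 (Or.inr (Or.inl rfl)) _ (u1U h)))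

omit [Finite G] in
theorem ek0 : h.e⁻¹ * cn h.e h.k ∈ UU h H := by
  have q : Q h ≤ UU h H := h1.trans (le_UU h H)
  have c1 : h.e * u1 h = h.t * cn h.t h.k := by rw [tk']; simp only [R h]
  have c2 : (h.e * u1 h)⁻¹ * cn (h.e * u1 h) h.k = (h.e * u1 h * (h.e * u1 h))⁻¹ *
      ((h.k * h.k)⁻¹ * cn (h.k * h.k) h.t)⁻¹ := by
    rw [c1]; simp only [R h]
  have c3 : (h.e * u1 h)⁻¹ * cn (h.e * u1 h) h.k ∈ UU h H := by
    rw [c2]
    exact mul_mem (inv_mem (cc0 h h1 h2 h3)) (inv_mem (act0 h h1 h2 h3 (Or.inl rfl) _ h.kk))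
  have c4 : h.e⁻¹ * cn h.e h.k = cn ((h.e * u1 h)⁻¹ * cn (h.e * u1 h) h.k) (u1 h)⁻¹ *
      ((u1 h)⁻¹⁻¹ * cn (u1 h)⁻¹ h.k) := by unfold cn; group
  rw [c4]
  exact mul_mem (cn_mem (nrm h q (UU_le h h2) (inv_mem (u1U h))) c3)
    (act0 h h1 h2 h3 (Or.inr (Or.inr rfl)) _ (inv_mem (u1U h)))

theorem abN : ∀ u ∈ N1 h, ∀ v ∈ N1 h, u⁻¹ * v⁻¹ * u * v ∈ UU h H := by
  have q : Q h ≤ UU h H := h1.trans (le_UU h H)
  have n1 := nrm h q (UU_le h h2)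
  have n2 := nrm0 h h1 h2 h3 (Or.inr (Or.inl rfl))
  have n3 := nrm0 h h1 h2 h3 (Or.inr (Or.inr rfl))
  exact ab_sup_zp (sup_le n1 (zpowers_le.2 n2)) n3
    (ab_sup_zp n1 n2 (fun u hu v hv => q (cmU h u hu v hv))
      (act0 h h1 h2 h3 (Or.inr (Or.inl rfl))))
    (act_sup_zp n1 n2 (act0 h h1 h2 h3 (Or.inr (Or.inr rfl))) (ek0 h h1 h2 h3))

theorem abS : ∀ u ∈ S h, ∀ v ∈ S h, u⁻¹ * v⁻¹ * u * v ∈ UU h H ⊔ zpowers (h.e * u1 h) := by
  have l : UU h H ⊔ zpowers (h.e * u1 h) ≤ N1 h :=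
    sup_le ((UU_le h h2).trans (gN h).1) (zpowers_le.2 (mul_mem (gN h).2.1 ((gN h).1 (u1U h))))
  have n1 := nrm_of_ab le_sup_left l (abN h h1 h2 h3)
  have c1 : cn (h.e * u1 h) h.t = (h.e * u1 h)⁻¹ := by
    have c1 : h.e * u1 h = h.t * cn h.t h.k := by rw [tk']; simp only [R h]
    rw [c1]; simp only [R h]
  have n2 : h.t ∈ normalizer ((UU h H ⊔ zpowers (h.e * u1 h) : Subgroup G) : Set G) := by
    refine norm_of_forall (cn_sup_zp
      (fun u hu => zpL (cn_mem (nrm0 h h1 h2 h3 (Or.inl rfl)) hu)) ?_)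
    rw [c1]; exact inv_mem zpR
  rw [S_eq]
  refine ab_sup_zp n1 n2 (fun u hu v hv => zpL (abN h h1 h2 h3 u hu v hv)) ?_
  refine act_sup_zp (le_sup_left.trans n1) (n1 (gN h).2.2) (act_sup_zp ((gN h).1.trans n1)
    (n1 (gN h).2.1) (fun u hu => zpL (act0 h h1 h2 h3 (Or.inl rfl) u hu)) ?_) ?_
  · rw [cn_of_comm h.te.symm]; simp
  · rw [kt']
    have : h.k⁻¹ * (h.k * ((u1 h)⁻¹ * h.e)) = (h.e * u1 h)⁻¹ := by simp only [R h]
    rw [this]; exact inv_mem zpR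

end N0

end Fin

end Rel

end Cfsg.Agent.H57.EE6
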