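import Cfsg.Agent.H57.Frob
import Cfsg.Agent.S0144

/-!
Explicit Frobenius groups: `3⁴ ⋊ (5:8)`, `7⁴ ⋊ (3:8)`, `13⁴ ⋊ 2O`, and the fixed-point-free
module of `2.S₅⁻` in characteristic seven.
-/

set_option autoImplicit false
set_option maxRecDepth 100000

namespace Cfsg.Agent.H57

/-- The `i`-th hexadecimal digit of `N`, read modulo `p`. -/
def hexDigit (p N i : ℕ) : ZMod p := ((N >>> (4 * i)) % 16 : ℕ)

theorem spec_list_eq {G : Type*} [Group G] [Finite G] (l l' : List ℕ)
    (h1 : ∀ g : G, ∃ m ∈ l, g ^ m = 1) (h2 : ∀ m ∈ l, m ∈ spec G)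
    (h3 : ∀ m ∈ l, 0 < m ∧ ∀ k ≤ m, k ∣ m → k ∈ l') (h4 : ∀ k ∈ l', ∃ m ∈ l, k ∣ m) :
    spec G = {n | n ∈ l'} := by
  rw [spec_eq_of_list l h1 h2]
  ext n
  constructor
  · rintro ⟨m, hm, hn⟩
    exact (h3 m hm).2 n (Nat.le_of_dvd (h3 m hm).1 hn) hn
  · exact h4 n

instance instFactMeta58 : Fact ((2 : ZMod 5) ^ 8 = 1) := ⟨by decide⟩
instance instFactMeta38 : Fact ((2 : ZMod 3) ^ 8 = 1) := ⟨by decide⟩
instance instFactTw3 : Fact ((2 : ZMod 3) * 2 = 1) := ⟨by decide⟩
instance instFactTw5 : Fact ((3 : ZMod 5) * 2 = 1) := ⟨by decide⟩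

/-- `C₅ ⋊ C₈`. -/
abbrev G58 : Type := Meta 5 8 2
/-- `C₃ ⋊ C₈`. -/
abbrev G38 : Type := Meta 3 8 2
/-- The binary octahedral group. -/
abbrev G2O : Type := TwSL (ZMod 3) 2 2
/-- The group `2.S₅⁻`. -/
abbrev G2S5 : Type := TwSL (ZMod 5) 3 2

theorem spec_G58 : spec G58 = {n | n ∈ [1, 2, 4, 5, 8, 10]} := by
  refine spec_list_eq [8, 10] _ (by decide +kernel) ?_ (by decide) (by decide)
  simp only [List.mem_cons, List.not_mem_nil, or_false, forall_eq_or_imp, forall_eq]
  exact ⟨mem_spec_of_check (Meta.mk 0 1) (by norm_num) (by decide +kernel) (by decide +kernel),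
    mem_spec_of_check (Meta.mk 1 4) (by norm_num) (by decide +kernel) (by decide +kernel)⟩

theorem spec_G38 : spec G38 = {n | n ∈ [1, 2, 3, 4, 6, 8, 12]} := by
  refine spec_list_eq [8, 12] _ (by decide +kernel) ?_ (by decide) (by decide)
  simp only [List.mem_cons, List.not_mem_nil, or_false, forall_eq_or_imp, forall_eq]
  exact ⟨mem_spec_of_check (Meta.mk 0 1) (by norm_num) (by decide +kernel) (by decide +kernel),
    mem_spec_of_check (Meta.mk 1 2) (by norm_num) (by decide +kernel) (by decide +kernel)⟩

theorem spec_G2O : spec G2O = {n | n ∈ [1, 2, 3, 4, 6, 8]} := by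
  refine spec_list_eq [6, 8] _ (by decide +kernel) ?_ (by decide) (by decide)
  simp only [List.mem_cons, List.not_mem_nil, or_false, forall_eq_or_imp, forall_eq]
  exact ⟨mem_spec_of_check (TwSL.mk (false, 0, 1, 2, 1) (by decide)) (by norm_num)
      (by decide +kernel) (by decide +kernel),
    mem_spec_of_check (TwSL.mk (true, 0, 1, 1, 1) (by decide)) (by norm_num)
      (by decide +kernel) (by decide +kernel)⟩

theorem spec_G2S5 : spec G2S5 = {n | n ∈ [1, 2, 3, 4, 5, 6, 8, 10, 12]} := by
  refine spec_list_eq [8, 10, 12] _ (by decide +kernel) ?_ (by decide) (by decide)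
  simp only [List.mem_cons, List.not_mem_nil, or_false, forall_eq_or_imp, forall_eq]
  exact ⟨mem_spec_of_check (TwSL.mk (true, 0, 1, 3, 2) (by decide)) (by norm_num)
      (by decide +kernel) (by decide +kernel),
    mem_spec_of_check (TwSL.mk (false, 0, 1, 4, 3) (by decide)) (by norm_num)
      (by decide +kernel) (by decide +kernel),
    mem_spec_of_check (TwSL.mk (true, 0, 1, 3, 1) (by decide)) (by norm_num)
      (by decide +kernel) (by decide +kernel)⟩

theorem isSolvable_G2O : Group.IsSolvable G2O :=
  Cfsg.Agent.S0144.result 2 3 4 1 (by norm_num) (by norm_num)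
    (by rw [Nat.card_eq_fintype_card]; decide +kernel)

/-- index of an element of a metacyclic group -/
def Meta.key {m n : ℕ} {r : ZMod m} (x : Meta m n r) : ℕ := x.1.val * n + x.2.val

/-- index of an element of a twisted `SL₂` -/
def TwSL.key {q : ℕ} {γ δ : ZMod q} (x : TwSL (ZMod q) γ δ) : ℕ :=
  ((x.1.2.1.val * q + x.1.2.2.1.val) * q + x.1.2.2.2.1.val) * q + x.1.2.2.2.2.val

theorem nontrivial_G58 : Nontrivial (CuspL G58 (ZMod 3) [2, 5]) :=
  CuspL.nontrivial_of
    (f := fun x => hexDigit 3 91346639926331248715622994009551769774220906496 (Meta.key x))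
    (mem_cuspL_of_check (by decide) (by decide +kernel)) (x := Meta.mk 0 3) (by decide +kernel)

theorem nontrivial_G38 : Nontrivial (CuspL G38 (ZMod 7) [2, 3]) :=
  CuspL.nontrivial_of
    (f := fun x => hexDigit 7 4952213504323876587147628544 (Meta.key x))
    (mem_cuspL_of_check (by decide) (by decide +kernel)) (x := Meta.mk 0 3) (by decide +kernel)

theorem nontrivial_G2O : Nontrivial (CuspL G2O (ZMod 13) [2, 3]) :=
  CuspL.nontrivial_of
    (f := fun x => hexDigit 13 8343794845127445688730082011238903595245021936447791990455263993254712126005516858889577955328 (TwSL.key x))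
    (mem_cuspL_of_check (by decide) (by decide +kernel))
    (x := TwSL.mk (true, 0, 1, 1, 0) (by decide)) (by decide +kernel)

theorem nontrivial_G2S5 : Nontrivial (CuspL G2S5 (ZMod 7) [2, 3, 5]) :=
  CuspL.nontrivial_of
    (f := fun x => hexDigit 7 91754888538769825118015689264461297542598897199196609286149446338909340483671073376154502055826076082735273506878748350075999473504934967095753076093886422738310937808152384899040102675669838760626890404469831339969563177460649972990240818131381277226028547310416042853137959033274536095654153492276842595464299465191400575243126663680433905984602184231732647403503334799779564891966027524395435448299210034671349547763909833526215619402471782070310939739425919549439267521621764964323655043568950731625755164839818150429542779450683233080036843991842084659769602320748058386898244971400844478188594141273612359945613044835403483003476441665878373056621576933027981863268375526944793060390522601047830412417238474271730132190732857179201525166112768 (TwSL.key x))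
    (mem_cuspL_of_check (by decide) (by decide +kernel))
    (x := TwSL.mk (true, 0, 1, 3, 1) (by decide)) (by decide +kernel)

theorem spec_frob_G58 :
    spec (Aff G58 (CuspL G58 (ZMod 3) [2, 5])) = {n | n ∈ [1, 2, 3, 4, 5, 8, 10]} := by
  haveI := nontrivial_G58
  rw [spec_aff_cuspL (by norm_num) (by decide) (by rw [spec_G58]; simp only [Set.mem_setOf_eq]; decide), spec_G58]
  ext n; simp; tauto

theorem spec_frob_G38 :
    spec (Aff G38 (CuspL G38 (ZMod 7) [2, 3])) = {n | n ∈ [1, 2, 3, 4, 6, 7, 8, 12]} := by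
  haveI := nontrivial_G38
  rw [spec_aff_cuspL (by norm_num) (by decide) (by rw [spec_G38]; simp only [Set.mem_setOf_eq]; decide), spec_G38]
  ext n; simp; tauto

theorem spec_frob_G2O :
    spec (Aff G2O (CuspL G2O (ZMod 13) [2, 3])) = {n | n ∈ [1, 2, 3, 4, 6, 8, 13]} := by
  haveI := nontrivial_G2O
  rw [spec_aff_cuspL (by norm_num) (by decide) (by rw [spec_G2O]; simp only [Set.mem_setOf_eq]; decide), spec_G2O]
  ext n; simp; tauto

end Cfsg.Agent.H57
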