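import Cfsg.Agent.H71.FSDefs
import Cfsg.Agent.H27.AltBasis

/-! Project FS2: pieces R1 (`RS`) and R4 (`RS → RU → RE`). -/

set_option autoImplicit false
set_option linter.unusedSectionVars false

namespace Cfsg.Agent.H57.FsR

open Cfsg.Agent.H30 Cfsg.Agent.H71.FS2 QuadraticMap Module Polynomial

universe u

section Lin

variable {F V : Type u} [Field F] [AddCommGroup V] [Module F V] [FiniteDimensional F V]
  {Q : QuadraticForm F V}

theorem split {U W : Submodule F V} (hle : U ≤ W) (hU : NondegOn Q U) {w : V} (hw : w ∈ W) :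
    ∃ u ∈ U, ∃ w' ∈ W ⊓ perp Q U, u + w' = w := by
  obtain ⟨u, hu, w', hw', e⟩ := hU.orthDec.exists_add w
  refine ⟨u, hu, w', ⟨?_, hw'⟩, e⟩
  have := W.sub_mem hw (hle hu)
  rwa [← e, add_sub_cancel_left] at this

theorem nondeg_inf {U W : Submodule F V} (hle : U ≤ W) (hU : NondegOn Q U) (hW : NondegOn Q W) :
    NondegOn Q (W ⊓ perp Q U) := by
  intro x hx h
  refine hW x hx.1 fun y hy => ?_
  obtain ⟨u, hu, w, hw, rfl⟩ := split hle hU hy
  rw [polar_add_right, h w hw, mem_perp'.1 hx.2 u hu, add_zero]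

theorem finrank_split {U W : Submodule F V} (hle : U ≤ W) (hU : NondegOn Q U) :
    finrank F U + finrank F (W ⊓ perp Q U : Submodule F V) = finrank F W := by
  have h1 : U ⊔ (W ⊓ perp Q U) = W := le_antisymm (sup_le hle inf_le_left) fun w hw => by
    obtain ⟨u, hu, w', hw', rfl⟩ := split hle hU hw
    exact Submodule.add_mem_sup hu hw'
  have h2 : U ⊓ (W ⊓ perp Q U) = ⊥ :=
    eq_bot_iff.2 ((inf_le_inf_left U inf_le_right).trans hU.isCompl.inf_eq_bot.le)
  rw [← Submodule.finrank_sup_add_finrank_inf_eq, h1, h2, finrank_bot, add_zero]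

/-- Fitting's lemma for a self-adjoint map -/
theorem fitting {W : Submodule F V} (hW : NondegOn Q W) {s : End F V} (hs : ∀ w ∈ W, s w ∈ W)
    (adj : ∀ u v, polar Q (s u) v = polar Q u (s v)) :
    NondegOn Q (W ⊓ LinearMap.ker (s ^ finrank F V)) := by
  have adj' : ∀ (k : ℕ) u v, polar Q ((s ^ k) u) v = polar Q u ((s ^ k) v) := by
    intro k
    induction k with
    | zero => intro u v; rfl
    | succ k ih => intro u v; rw [pow_succ', End.mul_apply, adj, ih, ← End.mul_apply, ← pow_succ, pow_succ']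
  have hs' : ∀ (k : ℕ), ∀ w ∈ W, (s ^ k) w ∈ W := by
    intro k
    induction k with
    | zero => intro w hw; exact hw
    | succ k ih => intro w hw; rw [pow_succ', End.mul_apply]; exact hs _ (ih w hw)
  have e : W ⊓ LinearMap.ker (s ^ finrank F V) = W ⊓ perp Q (W.map (s ^ finrank F V)) := by
    ext x
    refine and_congr_right fun hx => ⟨fun h => mem_perp'.2 ?_, fun h => ?_⟩
    · rintro _ ⟨w, -, rfl⟩
      rw [← adj', LinearMap.mem_ker.1 h, polar_zero_left]
    · refine hW _ (hs' _ x hx) fun y hy => ?_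
      rw [adj']; exact mem_perp'.1 h _ ⟨y, hy, rfl⟩
  have hle : W.map (s ^ finrank F V) ≤ W := by
    rintro _ ⟨w, hw, rfl⟩; exact hs' _ w hw
  rw [e]
  refine nondeg_inf hle (fun x hx h => ?_) hW
  have h1 : x ∈ W ⊓ LinearMap.ker (s ^ finrank F V) := e ▸ ⟨hle hx, mem_perp'.2 h⟩
  obtain ⟨w, -, rfl⟩ := hx
  have h2 : w ∈ LinearMap.ker (s ^ (finrank F V + finrank F V)) := by
    rw [LinearMap.mem_ker, pow_add, End.mul_apply]; exact h1.2
  rw [End.ker_pow_eq_ker_pow_finrank_of_le (Nat.le_add_right _ _)] at h2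
  exact h2

theorem add_self (F : Type*) [Field F] [Module F V] [CharP F 2] (v : V) : v + v = 0 := by
  rw [← two_smul F v, show (2 : F) = 0 from CharTwo.two_eq_zero, zero_smul]

theorem eq_of_add {u v : V} (F : Type*) [Field F] [Module F V] [CharP F 2] (h : u + v = 0) :
    u = v := by
  rw [← add_zero u, ← add_self F v, ← add_assoc, h, zero_add]

variable [CharP F 2]

theorem even_of_nondeg {W : Submodule F V} (hW : NondegOn Q W) : Even (finrank F W) :=
  H27.even_finrank_of_alt hW.restrict fun x => by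
    rw [polarBilin_apply_apply, polar_self', show (2 : F) = 0 from CharTwo.two_eq_zero, zero_mul]

theorem invOn_of (hQ : (polarBilin Q).Nondegenerate) (g : O Q) {U : Submodule F V}
    (hU : NondegOn Q U) (hg : ∀ u ∈ U, g.1 u ∈ U) (nf : ∀ u ∈ U, g.1 u = u → u = 0)
    (c : U →ₗ[F] U) (cc : ∀ u, c (c u) = u) (cB : ∀ u v, polar Q (c u : V) (c v) = polar Q (u : V) v)
    (cg : ∀ u : U, g.1 (c ⟨g.1 u, hg _ u.2⟩ : V) = c u) : InvOn hQ g U := by
  have inj : ∀ u ∈ U, g.1 u + u = 0 → u = 0 := fun u hu e => nf u hu (eq_of_add F e)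
  have sur : ∀ u : U, ∃ w : U, (⟨g.1 w, hg _ w.2⟩ : U) + w = u := by
    have : Function.Injective ((g.1 : V →ₗ[F] V).restrict hg + LinearMap.id : U →ₗ[F] U) := by
      rw [← LinearMap.ker_eq_bot, eq_bot_iff]
      intro u hu
      exact Subtype.ext (inj u u.2 (congrArg Subtype.val (LinearMap.mem_ker.1 hu)))
    exact LinearMap.injective_iff_surjective.1 this
  have qq : ∀ x : V, Q (x + g.1 x) = polar Q x (g.1 x) := fun x => by
    rw [Q_add, O_map, CharTwo.add_self_eq_zero, zero_add]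
  have cQ : ∀ u : U, Q (c u : V) = Q (u : V) := by
    intro u
    obtain ⟨w, rfl⟩ := sur u
    rw [map_add, Submodule.coe_add, Submodule.coe_add, ← cg w, qq, cg w, cB, add_comm, qq, polar_comm]
  let γ0 : O (Q.restrict U) := ⟨LinearEquiv.ofInvolutive c cc, cQ⟩
  let γ : O Q := orthSum hU.orthDec (γ0, 1)
  have γ1 : ∀ u : U, γ.1 u = c u := fun u => orthSum_apply_left _ _ u
  have γ2 : ∀ v ∈ perp Q U, γ.1 v = v := fun v hv => orthSum_apply_right _ _ ⟨v, hv⟩
  refine ⟨γ, γ2, fun u hu => ?_, ?_⟩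
  · rw [γ1 ⟨_, hg u hu⟩, γ1 ⟨u, hu⟩]; exact cg ⟨u, hu⟩
  have m1 : ∀ y ∈ movSp γ, ∃ u : U, (c u : V) - u = y := by
    intro y hy
    obtain ⟨x, rfl⟩ := mem_movSp.1 hy
    obtain ⟨u, hu, w, hw, rfl⟩ := hU.orthDec.exists_add x
    exact ⟨⟨u, hu⟩, by rw [map_add, γ1 ⟨u, hu⟩, γ2 w hw]; abel⟩
  have m2 : movSp γ ≤ U := fun y hy => by
    obtain ⟨u, rfl⟩ := m1 y hy
    exact U.sub_mem (c u).2 u.2
  have m3 : fixSp γ = movSp γ ⊔ perp Q U := by
    refine le_antisymm (fun x hx => ?_) (sup_le (fun y hy => ?_) fun v hv => mem_fixSp.2 (γ2 v hv))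
    · obtain ⟨u, hu, w, hw, rfl⟩ := hU.orthDec.exists_add x
      refine Submodule.add_mem_sup ?_ hw
      have h1 : c ⟨u, hu⟩ = ⟨u, hu⟩ := by
        have := mem_fixSp.1 hx
        rw [map_add, γ1 ⟨u, hu⟩, γ2 w hw] at this
        exact Subtype.ext (add_right_cancel this)
      obtain ⟨w', e⟩ := sur ⟨u, hu⟩
      rw [← e, map_add] at h1
      have h2 : (c ⟨g.1 w', hg _ w'.2⟩ : V) + c w' = g.1 w' + w' := congrArg Subtype.val h1
      have h3 : (c ⟨g.1 w', hg _ w'.2⟩ : V) + w' = 0 := by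
        refine inj _ (U.add_mem (c _).2 w'.2) ?_
        rw [map_add, cg w', add_add_add_comm, add_comm (c w' : V), h2]
        exact add_self F _
      have h4 : (c w' : V) = g.1 w' := by rw [← cg w', eq_of_add F h3]
      refine mem_movSp.2 ⟨w', ?_⟩
      rw [γ1, h4, ← show g.1 (w' : V) + w' = u from congrArg Subtype.val e, sub_eq_iff_eq_add,
        add_assoc, add_self F, add_zero]
    · obtain ⟨u, rfl⟩ := m1 y hy
      refine mem_fixSp.2 ?_
      rw [map_sub, γ1, γ1, cc]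
      refine eq_of_add F ?_
      abel
  have h1 := finrank_movSp_add_finrank_fixSp γ
  have h2 := finrank_add_finrank_perp hQ U
  have h3 := Submodule.finrank_sup_add_finrank_inf_eq (movSp γ) (perp Q U)
  rw [← m3, eq_bot_iff.2 ((inf_le_inf_right _ m2).trans hU.isCompl.inf_eq_bot.le), finrank_bot] at h3
  rw [dickson_apply, show finrank F U / 2 = finrank F (movSp γ) by omega]

/-- a cyclic non-degenerate submodule -/
theorem cyc (E : F[X] →ₐ[F] End F V) (S : F[X] →+* F[X])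
    (adj : ∀ p u v, polar Q (E p u) v = polar Q u (E (S p) v))
    (SS : ∀ p, E (S (S p)) = E p) (SX : E (X * S X) = 1) {c : F[X]} (c0 : c ≠ 0) (c1 : E c = 0) :
    ∀ (n : ℕ) (W : Submodule F V), finrank F W = n → W ≠ ⊥ → NondegOn Q W →
      (∀ p, ∀ w ∈ W, E p w ∈ W) → (∀ w ∈ W, E X w = w → w = 0) →
      ∃ v ∈ W, v ≠ 0 ∧ ∀ s, (∀ r, polar Q (E s v) (E r v) = 0) → E s v = 0 := by
  intro n
  induction n using Nat.strong_induction_on with
  | _ n ih =>
  intro W hn W0 hW inv nf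
  have mul : ∀ p q v, E (p * q) v = E p (E q v) := fun p q v => by rw [map_mul]; rfl
  have mul' : ∀ p q v, E (p * q) v = E q (E p v) := fun p q v => by rw [mul_comm, mul]
  let A : Ideal F[X] :=
    { carrier := {p | ∀ w ∈ W, E p w = 0}
      zero_mem' := fun w _ => by simp
      add_mem' := fun ha hb w hw => by rw [map_add, LinearMap.add_apply, ha w hw, hb w hw, add_zero]
      smul_mem' := fun a p hp w hw => by rw [smul_eq_mul, mul, hp w hw, map_zero] }
  obtain ⟨μ, hμ⟩ : ∃ μ, ∀ p, (∀ w ∈ W, E p w = 0) ↔ μ ∣ p :=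
    ⟨Submodule.IsPrincipal.generator A, fun p => Submodule.IsPrincipal.mem_iff_generator_dvd A⟩
  have μ0 : μ ≠ 0 := by
    rintro rfl
    exact c0 (zero_dvd_iff.1 ((hμ c).1 fun w _ => by rw [c1]; rfl))
  obtain ⟨w0, hw0, w00⟩ := (Submodule.ne_bot_iff W).1 W0
  have μ1 : ¬ IsUnit μ := fun e => w00 (by simpa using (hμ 1).2 e.dvd w0 hw0)
  have Sd : ∀ p, μ ∣ p → μ ∣ S p := fun p hp => (hμ _).1 fun w hw => hW _ (inv _ w hw) fun y hy => by
    rw [polar_comm, ← adj, (hμ p).2 hp y hy, polar_zero_left]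
  have Sd' : ∀ p, μ ∣ S p → μ ∣ p := fun p hp => (hμ _).1 fun w hw => by
    rw [← SS]; exact (hμ _).2 (Sd _ hp) w hw
  obtain ⟨p, hp, σ, hσ⟩ := WfDvdMonoid.exists_irreducible_factor μ1 μ0
  have nd : ∀ {q τ : F[X]}, Irreducible q → μ = q * τ → ¬ μ ∣ τ := by
    rintro q τ hq e ⟨d, hd⟩
    refine hq.not_isUnit (IsUnit.of_mul_eq_one d (mul_left_cancel₀ μ0 ?_))
    rw [mul_one]
    nth_rewrite 2 [e]
    rw [hd]; ring
  have fr : finrank F V ≠ 0 := fun e => w00 (finrank_zero_iff_forall_zero.1 e w0)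
  by_cases hK : W ⊓ LinearMap.ker (E (p * S p) ^ finrank F V) = W
  swap
  · have hlt : W ⊓ LinearMap.ker (E (p * S p) ^ finrank F V) < W := lt_of_le_of_ne inf_le_left hK
    have key := ih _ (hn ▸ Submodule.finrank_lt_finrank_of_lt hlt) _ rfl ?_
      (fitting hW (inv _) fun u v => ?_) ?_ fun w hw => nf w hw.1
    · obtain ⟨v, hv, h⟩ := key
      exact ⟨v, hv.1, h⟩
    · have : ¬ ∀ w ∈ W, E σ w = 0 := fun e => nd hp hσ ((hμ σ).1 e)
      push Not at this
      obtain ⟨w, hw, hw'⟩ := this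
      refine (Submodule.ne_bot_iff _).2 ⟨E σ w, ⟨inv _ w hw, LinearMap.mem_ker.2 ?_⟩, hw'⟩
      rw [← map_pow, ← mul]
      refine (hμ _).2 ?_ w hw
      rw [hσ]
      exact mul_dvd_mul ((dvd_mul_right p _).trans (dvd_pow_self _ fr)) dvd_rfl
    · rw [adj, map_mul S, mul (S p), SS, mul' p]
    · intro q w hw
      refine ⟨inv q w hw.1, LinearMap.mem_ker.2 ?_⟩
      have := LinearMap.mem_ker.1 hw.2
      rw [← map_pow] at this ⊢
      rw [← mul, mul', this, map_zero]
  have nil : μ ∣ (p * S p) ^ finrank F V := (hμ _).1 fun w hw => by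
    rw [map_pow]; exact LinearMap.mem_ker.1 (hK.ge hw).2
  obtain ⟨v, hv, r, hr⟩ : ∃ v ∈ W, ∃ r, polar Q (E (r * σ) v) v ≠ 0 := by
    by_contra hcon
    push Not at hcon
    have sym : ∀ r, ∀ u ∈ W, E (r * σ) u = E (S (r * σ)) u := by
      intro r u hu
      refine eq_of_add F (hW _ (W.add_mem (inv _ u hu) (inv _ u hu)) fun y hy => ?_)
      have := hcon (u + y) (W.add_mem hu hy) r
      rw [map_add, polar_add_left, polar_add_right, polar_add_right, hcon u hu, hcon y hy, zero_add,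
        add_zero, adj _ y u, polar_comm _ y] at this
      rw [polar_add_left, this]
    refine nd hp hσ ((hμ σ).1 fun u hu => ?_)
    have h1 := sym 1 u hu
    have h2 := sym X u hu
    rw [one_mul] at h1
    rw [map_mul S, mul, mul, ← h1] at h2
    have h3 : E X (E X (E σ u)) = E σ u := by rw [h2, ← mul, SX]; rfl
    have hw := inv σ u hu
    refine nf _ hw (eq_of_add F (nf _ (W.add_mem (inv _ _ hw) hw) ?_))
    rw [map_add, h3, add_comm]
  let J : Ideal F[X] :=
    { carrier := {s | ∀ r, polar Q (E s v) (E r v) = 0}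
      zero_mem' := fun r => by simp
      add_mem' := fun ha hb r => by
        rw [map_add, LinearMap.add_apply, polar_add_left, ha r, hb r, add_zero]
      smul_mem' := fun a s hs r => by rw [smul_eq_mul, mul, adj, ← mul]; exact hs _ }
  obtain ⟨j, hj⟩ : ∃ j, ∀ s, (∀ r, polar Q (E s v) (E r v) = 0) ↔ j ∣ s :=
    ⟨Submodule.IsPrincipal.generator J, fun s => Submodule.IsPrincipal.mem_iff_generator_dvd J⟩
  have Sj : ∀ s, j ∣ s → j ∣ S s := fun s hs => (hj _).1 fun r => by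
    have := (hj s).2 hs (S r)
    rw [← adj, ← mul, mul_comm, mul, adj, polar_comm] at this
    exact this
  have jσ : ¬ j ∣ σ := fun e => hr (by simpa using (hj _).2 (e.mul_left r) 1)
  obtain ⟨m, hm⟩ : j ∣ μ := (hj μ).1 fun r => by rw [(hμ μ).2 dvd_rfl v hv, polar_zero_left]
  refine ⟨v, hv, fun e => hr (by rw [e, polar_zero_right]), fun s hs => (hμ s).2 ?_ v hv⟩
  by_cases hu : IsUnit m
  · rw [hm]; exact hu.mul_right_dvd.2 ((hj s).1 hs)
  exfalso
  obtain ⟨q, hq, m', hm'⟩ := WfDvdMonoid.exists_irreducible_factor hu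
    (fun e => μ0 (by rw [hm, e, mul_zero]))
  have e1 : μ = q * (j * m') := by rw [hm, hm']; ring
  have e2 : q ∣ p * S p := hq.prime.dvd_of_dvd_pow ((Dvd.intro _ e1.symm).trans nil)
  rcases hq.prime.dvd_or_dvd e2 with ⟨d, hd⟩ | ⟨d, hd⟩
  · obtain ⟨d, rfl⟩ := (hp.isUnit_or_isUnit hd).resolve_left hq.not_isUnit
    refine jσ (d.isUnit.dvd_mul_left.1 ⟨m', mul_left_cancel₀ hq.ne_zero ?_⟩)
    rw [← e1, hσ, hd]; ring
  · have t1 : μ ∣ p * S (j * m') := by
      refine Sd' _ ((hμ _).1 fun w hw => ?_)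
      rw [map_mul S, mul, SS, ← mul, hd]
      refine (hμ _).2 ⟨d, ?_⟩ w hw
      rw [e1]; ring
    obtain ⟨c', hc'⟩ : σ ∣ S (j * m') := by
      rw [hσ] at t1
      exact (mul_dvd_mul_iff_left hp.ne_zero).1 t1
    have t2 : ¬ p ∣ c' := by
      rintro ⟨d', rfl⟩
      refine nd hq e1 (Sd' _ ⟨d', ?_⟩)
      rw [hc', hσ]; ring
    obtain ⟨a, b, hab⟩ := (hp.coprime_iff_not_dvd).2 t2
    refine jσ ?_
    have : σ = a * μ + b * S (j * m') := by rw [hc', hσ]; linear_combination (-σ) * hab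
    rw [this]
    exact dvd_add (Dvd.dvd.mul_left ⟨m, hm⟩ a) ((Sj _ (dvd_mul_right j m')).mul_left b)

end Lin

section Main

variable {F V : Type*} [Field F] [AddCommGroup V] [Module F V] {Q : QuadraticForm F V}

/-- the underlying endomorphism -/
def toE (Q : QuadraticForm F V) : O Q →* End F V where
  toFun g := (g.1 : V →ₗ[F] V)
  map_one' := rfl
  map_mul' _ _ := rfl

theorem toE_apply (g : O Q) (v : V) : toE Q g v = g.1 v := rfl

theorem adj_aeval (g : O Q) (p : F[X]) (u v : V) :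
    polar Q (aeval (toE Q g) p u) v = polar Q u (aeval (toE Q g⁻¹) p v) := by
  induction p using Polynomial.induction_on' with
  | add p q h1 h2 => simp only [map_add, LinearMap.add_apply, polar_add_left, polar_add_right, h1, h2]
  | monomial n a =>
    simp only [aeval_monomial, End.mul_apply, algebraMap_end_apply, ← map_pow, toE_apply,
      polar_smul_left', polar_smul_right', O_polar_inv, inv_pow]

theorem aeval_mem (g : O Q) {W : Submodule F V} (hg : ∀ w ∈ W, g.1 w ∈ W) (p : F[X]) :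
    ∀ w ∈ W, aeval (toE Q g) p w ∈ W := fun _ hw =>
  aeval_apply_smul_mem_of_le_comap hw p _ hg

end Main

theorem rs : RS.{u} := by
  intro F V _ _ _ _ _ _ Q hQ g W W0 hg hW nf
  have : Finite V := Module.finite_of_finite F
  have : Finite (V ≃ₗ[F] V) := Finite.of_injective _ DFunLike.coe_injective
  obtain ⟨N, hN⟩ : ∃ N, g ^ (N + 1) = 1 :=
    ⟨orderOf g - 1, by rw [Nat.sub_add_cancel (orderOf_pos g), pow_orderOf_eq_one]⟩
  have gi : g ^ N = g⁻¹ := eq_inv_of_mul_eq_one_left (by rw [← pow_succ, hN])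
  have gi' : g⁻¹ ^ N = g := by rw [inv_pow, gi, inv_inv]
  let S : F[X] →+* F[X] := compRingHom (X ^ N)
  have e1 : ∀ p, aeval (toE Q g) (S p) = aeval (toE Q g⁻¹) p := fun p => by
    rw [coe_compRingHom_apply, aeval_comp, map_pow, aeval_X, ← map_pow, gi]
  have e2 : ∀ p, aeval (toE Q g) (S (S p)) = aeval (toE Q g) p := fun p => by
    rw [e1, coe_compRingHom_apply, aeval_comp, map_pow, aeval_X, ← map_pow, gi']
  have adj : ∀ p u v, polar Q (aeval (toE Q g) p u) v = polar Q u (aeval (toE Q g) (S p) v) :=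
    fun p u v => by rw [e1, adj_aeval]
  have inv := aeval_mem g hg
  obtain ⟨v, hv, v0, h⟩ := cyc (aeval (toE Q g)) S adj e2
    (by rw [map_mul, e1, aeval_X, aeval_X, ← map_mul, mul_inv_cancel, map_one])
    (X_pow_sub_C_ne_zero (Nat.succ_pos N) (1 : F))
    (by rw [map_sub, map_pow, aeval_X, ← map_pow, hN, map_one, map_one, map_one, sub_self])
    _ W rfl W0 hW inv fun w hw e => nf w hw (by rwa [aeval_X] at e)
  have mul : ∀ (p q : F[X]) v, aeval (toE Q g) (p * q) v = aeval (toE Q g) p (aeval (toE Q g) q v) :=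
    fun p q v => by rw [map_mul]; rfl
  let φ : F[X] →ₗ[F] V := LinearMap.applyₗ v ∘ₗ (aeval (toE Q g)).toLinearMap
  let ψ : F[X] →ₗ[F] V := LinearMap.applyₗ v ∘ₗ (aeval (toE Q g⁻¹)).toLinearMap
  have hφ : ∀ p, φ p = aeval (toE Q g) p v := fun _ => rfl
  have hψ : ∀ p, ψ p = φ (S p) := fun p => by rw [hφ, e1]; rfl
  have hle : LinearMap.range φ ≤ W := by
    rintro _ ⟨p, rfl⟩; exact inv p v hv
  have hU : NondegOn Q (LinearMap.range φ) := by
    rintro _ ⟨s, rfl⟩ hs
    exact h s fun r => hs _ ⟨r, rfl⟩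
  have hgU : ∀ u ∈ LinearMap.range φ, g.1 u ∈ LinearMap.range φ := by
    rintro _ ⟨s, rfl⟩
    exact ⟨X * s, by rw [hφ, mul, aeval_X]; rfl⟩
  refine ⟨LinearMap.range φ, hle, (Submodule.ne_bot_iff _).2 ⟨v, ⟨1, by simp [hφ]⟩, v0⟩, hgU, hU, ?_⟩
  have ker : ∀ p, φ p = 0 → ψ p = 0 := fun p hp => by
    rw [hψ]
    refine h _ fun r => ?_
    rw [polar_comm, ← adj, ← mul, mul_comm, mul, ← hφ, hp, map_zero, polar_zero_left]
  obtain ⟨σ, hσ⟩ := φ.rangeRestrict.exists_rightInverse_of_surjective φ.range_rangeRestrict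
  let c : LinearMap.range φ →ₗ[F] LinearMap.range φ :=
    (ψ ∘ₗ σ).codRestrict _ fun u => ⟨_, (hψ _).symm⟩
  have hc : ∀ p, c (φ.rangeRestrict p) = φ.rangeRestrict (S p) := by
    intro p
    refine Subtype.ext ?_
    show ψ (σ (φ.rangeRestrict p)) = φ (S p)
    rw [← hψ, ← sub_eq_zero, ← map_sub]
    refine ker _ ?_
    rw [map_sub, sub_eq_zero]
    exact congrArg Subtype.val (LinearMap.congr_fun hσ (φ.rangeRestrict p))
  have hr : ∀ p, (φ.rangeRestrict p : V) = aeval (toE Q g) p v := fun _ => rfl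
  refine invOn_of hQ g hU hgU (fun u hu => nf u (hle hu)) c (fun u => ?_) (fun u w => ?_) fun u => ?_
  · obtain ⟨p, rfl⟩ := φ.surjective_rangeRestrict u
    rw [hc, hc]
    exact Subtype.ext (by rw [hr, hr, e2])
  · obtain ⟨p, rfl⟩ := φ.surjective_rangeRestrict u
    obtain ⟨q, rfl⟩ := φ.surjective_rangeRestrict w
    rw [hc, hc, hr, hr, hr, hr, ← adj, ← mul, mul_comm, mul, polar_comm, ← adj]
  · obtain ⟨p, rfl⟩ := φ.surjective_rangeRestrict u
    have : (⟨g.1 (φ.rangeRestrict p), hgU _ (φ.rangeRestrict p).2⟩ : LinearMap.range φ) =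
        φ.rangeRestrict (X * p) := Subtype.ext (by simp only [hr, mul, aeval_X, toE_apply])
    rw [this, hc, hc]
    simp only [hr, map_mul S, mul, e1 X, aeval_X, toE_apply, O_apply_inv]

theorem re (h1 : RS.{u}) (h2 : RU.{u}) : RE.{u} := by
  intro F V _ _ _ _ _ _ Q hQ g
  have key : ∀ (n : ℕ) (W : Submodule F V), finrank F W = n → (∀ v ∈ W, g.1 v ∈ W) →
      NondegOn Q W → InvOn hQ g W := by
    intro n
    induction n using Nat.strong_induction_on with
    | _ n ih =>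
    intro W hn hg hW
    by_cases W0 : W = ⊥
    · subst W0
      refine ⟨1, fun _ _ => rfl, fun u hu => ?_, by simp⟩
      rw [(Submodule.mem_bot F).1 hu]; simp
    obtain ⟨U, hle, U0, hgU, hU, γ, a1, a2, a3⟩ : Piece hQ g W := by
      by_cases nf : ∀ v ∈ W, g.1 v = v → v = 0
      · exact h1 hQ g W W0 hg hW nf
      push Not at nf
      obtain ⟨v, hv, e, v0⟩ := nf
      have fr : finrank F V ≠ 0 := fun e => v0 (finrank_zero_iff_forall_zero.1 e v)
      have hs : (toE Q g + toE Q g⁻¹) = toE Q g⁻¹ * (toE Q g + 1) ^ 2 := by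
        have : toE Q g⁻¹ * toE Q g = 1 := by rw [← map_mul, inv_mul_cancel, map_one]
        ext x
        simp only [pow_two, LinearMap.add_apply, End.mul_apply, End.one_apply, map_add, toE_apply,
          O_inv_apply]
        rw [add_add_add_comm, add_comm x, add_add_add_comm, add_self F, add_zero]
      have cm : Commute (toE Q g⁻¹) (toE Q g + 1) :=
        ((Commute.refl g).inv_left.map (toE Q)).add_right (Commute.one_right _)
      have cm' : Commute (toE Q g) (toE Q g + toE Q g⁻¹) :=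
        (Commute.refl _).add_right ((Commute.refl g).inv_right.map (toE Q))
      have key := h2 hQ g (W ⊓ LinearMap.ker ((toE Q g + toE Q g⁻¹) ^ finrank F V))
        ?_ ?_ (fitting hW ?_ ?_) ⟨2 * finrank F V, fun w hw => ?_⟩
      · obtain ⟨U, hle, h⟩ := key
        exact ⟨U, hle.trans inf_le_left, h⟩
      · refine (Submodule.ne_bot_iff _).2 ⟨v, ⟨hv, LinearMap.mem_ker.2 ?_⟩, v0⟩
        obtain ⟨k, hk⟩ := Nat.exists_eq_succ_of_ne_zero fr
        rw [hk, pow_succ, End.mul_apply, LinearMap.add_apply, toE_apply, toE_apply,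
          O_inv_apply_eq.2 e.symm, e, add_self F, map_zero]
      · refine fun w hw => ⟨hg w hw.1, LinearMap.mem_ker.2 ?_⟩
        rw [← toE_apply, ← End.mul_apply, ← (cm'.pow_right _).eq, End.mul_apply,
          LinearMap.mem_ker.1 hw.2, map_zero]
      · exact fun w hw => W.add_mem (hg w hw) (inv_mem_of_forall_mem g W hg w hw)
      · intro x y
        simp only [LinearMap.add_apply, toE_apply, polar_add_left, polar_add_right]
        rw [O_polar_inv, O_polar_inv, inv_inv, add_comm]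
      · have := LinearMap.mem_ker.1 hw.2
        rw [hs, (cm.pow_right 2).mul_pow, ← pow_mul, ← map_pow, End.mul_apply, toE_apply,
          O_apply_eq_zero] at this
        exact this
    have hf := finrank_split hle hU
    have hpos : 0 < finrank F U := by
      rw [Nat.pos_iff_ne_zero]; exact fun e => U0 (Submodule.finrank_eq_zero.1 e)
    have hg' : ∀ v ∈ W ⊓ perp Q U, g.1 v ∈ W ⊓ perp Q U := fun v hv =>
      ⟨hg v hv.1, perp_mem_of_forall_mem g U hgU v hv.2⟩
    obtain ⟨δ, b1, b2, b3⟩ := ih _ (by omega) _ rfl hg' (nondeg_inf hle hU hW)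
    have c1 : ∀ u ∈ U, δ.1 u = u := fun u hu => b1 u (le_perp_comm.1 inf_le_right hu)
    have c2 : ∀ w ∈ W ⊓ perp Q U, γ.1 (δ.1 w) = δ.1 w := fun w hw => by
      refine a1 _ (mem_perp.2 fun u hu => ?_)
      rw [← c1 u hu, O_polar]; exact mem_perp.1 hw.2 u hu
    refine ⟨γ * δ, fun v hv => ?_, fun w hw => ?_, ?_⟩
    · rw [O_mul_apply, b1 v (perp_anti inf_le_left hv), a1 v (perp_anti hle hv)]
    · obtain ⟨u, hu, w', hw', rfl⟩ := split hle hU hw
      simp only [O_mul_apply, map_add]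
      rw [c1 _ (hgU u hu), c1 u hu, a2 u hu, c2 _ (hg' _ hw'), c2 _ hw', b2 _ hw']
    · obtain ⟨k, hk⟩ := even_of_nondeg hU
      rw [map_mul, a3, b3, ← pow_add]
      congr 1
      omega
  obtain ⟨γ, -, a2, a3⟩ := key _ ⊤ rfl (fun _ _ => trivial) (nondegOn_top hQ)
  refine ⟨γ, ?_, by rw [a3, finrank_top]⟩
  have : g * γ * g = γ := O_ext fun v => a2 v trivial
  calc γ * g * γ⁻¹ = g⁻¹ * (g * γ * g) * γ⁻¹ := by group
    _ = g⁻¹ := by rw [this]; group

end Cfsg.Agent.H57.FsR
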