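import Cfsg.Agent.H57.HsA0

/-! A standard subgroup `2.HS`: the central involution is fused into the component. -/

set_option autoImplicit false
set_option maxRecDepth 100000

namespace Cfsg.Agent.H57.HsA

open Cfsg.Agent.H68.DCE Cfsg.Agent.H68.HN Cfsg.Agent.H63 Cfsg.Agent.H67 Subgroup
open Cfsg.Agent.H48.HS

universe u

variable {Γ : Type*} [Group Γ] {J : K → Γ}

theorem ne_of_conj {g t : Γ} (h : g * t * g⁻¹ ≠ t) : g * t ≠ t * g := fun e => h (conj_of_mul e)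

theorem j3 (h : S0 J) {a : K} (ha : a * (a * a) = 1) : J a * (J a * J a) = 1 := by
  have a1 := K1_of_cube ha
  rw [← h.mul _ a1 _ a1, ← h.mul _ a1 _ (mul_mem a1 a1), ha, h.one]

theorem case1 (h : SD J) {g : Γ} {σ : K} (hg : g * J eU * g⁻¹ ≠ J eU) (hσ : σ ∈ K1)
    (hA : Ac J (g * J eU * g⁻¹) σ) : ∃ c τ, (τ = eT ∨ τ = eU * eT) ∧ c * J τ * c⁻¹ = J eU := by
  obtain ⟨υ, hυ, e⟩ := inn h g σ hσ (ne_of_conj hg) hA
  have a1 : υ * υ = 1 := h.eq_one (mul_mem hυ hυ) (by rw [h.mul _ hυ _ hυ, ← e]; exact csq h.tt)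
  have a2 : ¬ U2 υ := by
    rintro (rfl | rfl)
    · exact h.t1 (conj_eq_one_iff.1 (e.trans h.one))
    · exact hg e
  obtain ⟨m, hm, a3⟩ := inn_class hυ a1 a2
  refine ⟨(J m * g)⁻¹, m * υ * m⁻¹, a3, conj_symm ?_⟩
  rw [conj_conj', e, h.ac hm υ hυ]

theorem case2 (h : SD J) {g : Γ} {σ a b k : K} (hσ : σ ∉ K1) (hA : Ac J (g * J eU * g⁻¹) σ)
    (ha : a * (a * a) = 1) (hb : b * (b * b) = 1) (ca : a * σ = σ * a) (cb : b * σ = σ * b)
    (hab : a * b ≠ b * a) (hk : k * σ = σ * (a * b * (a * a) * (b * b)) * k) :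
    ∃ c τ, (τ = eT ∨ τ = eU * eT) ∧ c * J τ * c⁻¹ = J eU := by
  have a1 := K1_of_cube ha
  have b1 := K1_of_cube hb
  have ne := e_ne ha hb hab
  have eJ : J (a * b * (a * a) * (b * b)) = J a * J b * (J a * J a) * (J b * J b) := by
    rw [h.mul _ (mul_mem (mul_mem a1 b1) (mul_mem a1 a1)) _ (mul_mem b1 b1),
      h.mul _ (mul_mem a1 b1) _ (mul_mem a1 a1), h.mul _ a1 _ b1, h.mul _ a1 _ a1, h.mul _ b1 _ b1]
  have e1 : a * b * (a * a) * (b * b) ∈ K1 :=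
    mul_mem (mul_mem (mul_mem a1 b1) (mul_mem a1 a1)) (mul_mem b1 b1)
  have hd : g⁻¹ * (g * J eU * g⁻¹) * g⁻¹⁻¹ = J eU := conj_symm rfl
  obtain ⟨α, hα, α3⟩ := h.exists_three (cN hd ((h.ac_comm hA a1).2 ca.symm).symm)
    (ccube (j3 h.toS0 ha))
  obtain ⟨β, hβ, β3⟩ := h.exists_three (cN hd ((h.ac_comm hA b1).2 cb.symm).symm)
    (ccube (j3 h.toS0 hb))
  have α1 := K1_of_cube α3
  have β1 := K1_of_cube β3
  have hE := (h.ac eU_K1).mul (((hα.mul hβ).mul (hα.mul hα)).mul (hβ.mul hβ))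
  simp only [conj_mul] at hE
  rw [← eJ] at hE
  generalize a * b * (a * a) * (b * b) = e at hk ne e1 hE
  obtain ⟨n, n1, hn⟩ : ∃ n ∈ K1, n * σ * n⁻¹ = σ * e := by
    by_cases k1 : k ∈ K1
    · exact ⟨k, k1, conj_of_mul hk⟩
    · exact ⟨k * σ, mul_K1.2 (iff_of_false k1 hσ), by
        rw [conj_conj', mul_inv_cancel_right]; exact conj_of_mul hk⟩
  have a2 : J n * (g * J eU * g⁻¹) * (J n)⁻¹ = g * J eU * g⁻¹ * J e := by
    have a3 := hA.inv n n1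
    have a4 : σ⁻¹ * n * σ⁻¹⁻¹ * n⁻¹ = e := by
      calc _ = σ⁻¹ * (n * σ * n⁻¹) := by group
        _ = e := by rw [hn, inv_mul_cancel_left]
    rw [← a4, h.mul _ (conj_K1.2 n1) _ (inv_mem n1), ← a3, h.inv n1]
    group
  have a5 : g⁻¹ * J n * g * J eU * (g⁻¹ * J n * g)⁻¹ = J eU * (g⁻¹ * J e * g⁻¹⁻¹) := by
    calc _ = g⁻¹ * (J n * (g * J eU * g⁻¹) * (J n)⁻¹) * g := by group
      _ = _ := by rw [a2]; group
  refine case1 h (g := g⁻¹ * J n * g) ?_ ?_ (a5.symm ▸ hE)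
  · rw [a5]
    exact fun c => ne (h.eq_one e1 (conj_eq_one_iff.1 (mul_eq_left.1 c)))
  · exact mul_mem eU_K1 (mul_mem (mul_mem (mul_mem α1 β1) (mul_mem α1 α1)) (mul_mem β1 β1))

theorem fuse (h : SD J) {g : Γ} (hc : g * J eU * g⁻¹ * J eU = J eU * (g * J eU * g⁻¹))
    (hg : g * J eU * g⁻¹ ≠ J eU) : ∃ c τ, (τ = eT ∨ τ = eU * eT) ∧ c * J τ * c⁻¹ = J eU := by
  obtain ⟨σ, hA⟩ := h.dom _ hc
  by_cases hσ : σ ∈ K1
  · exact case1 h hg hσ hA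
  obtain ⟨m, hm, e⟩ := out_class hσ (h.sq_out hA (by rw [csq h.tt]; exact Cn.one) hσ)
  have hB := (h.ac hm).conj hA
  rw [← conj_conj'] at hB
  rcases e with e | e <;> rw [e] at hB
  · exact case2 h (k := hC2) eZ_K1 hB g_o2.1 g_o2.2.1 g_o2.2.2.1 g_o2.2.2.2.1 g_o2.2.2.2.2.1
      (by simpa only [mul_assoc] using g_o2.2.2.2.2.2)
  · exact case2 h (k := hC1) zt_K1 hB g_o1.1 g_o1.2.1 (by simpa only [mul_assoc] using g_o1.2.2.1)
      (by simpa only [mul_assoc] using g_o1.2.2.2.1) g_o1.2.2.2.2.1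
      (by simpa only [mul_assoc] using g_o1.2.2.2.2.2)

theorem a1 : A1Stmt.{u} := fun _ _ _ _ h ⟨_, hc, hg⟩ => fuse h hc hg

theorem part2 (h : SD J) {c : Γ} {τ : K} (hτ : τ = eT ∨ τ = eU * eT) (hd : c * J τ * c⁻¹ = J eU) :
    (∀ k, Cn J k → Cn J (c * (k * k * (k * k)) * c⁻¹)) ∧
      ∀ s, Cn J s → s * s = 1 → s = 1 ∨ s = J eU := by
  have τ1 : τ ∈ K1 := by
    rcases hτ with rfl | rfl
    exacts [eT_K1, mul_mem eU_K1 eT_K1]
  have cτ : ∀ {a : K}, a * eT = eT * a → a * τ = τ * a := fun {a} e => by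
    rcases hτ with rfl | rfl
    · exact e
    · rw [← mul_assoc, ← cU, mul_assoc, e, mul_assoc]
  have hc : c * J eU ≠ J eU * c := fun e => by
    have a1 : τ = eU := h.inj _ τ1 _ eU_K1 (conj_injective (hd.trans (conj_of_mul e).symm))
    rcases hτ with rfl | rfl
    · exact f_tu a1
    · exact f_t1 (mul_eq_left.1 a1)
  have pc : Pc J c := Pc.of hc hd (h.jt τ1)
  refine ⟨fun k hk => ?_, fun s hs h2 => lemU h pc hs h2 (cN hd (hs _ τ1))⟩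
  have fin : ∀ k0, Cn J k0 → Cn J (c * (k0 * J eR) * c⁻¹) → False := fun k0 h0 hX => by
    have m1 := K1_of_cube f_r13
    have a1 := lemE h pc f_r13 f_rrr h0 (cN hd ((h.comm m1 τ1).2 (cτ f_r1t))) hX
      (by simpa only [mul_assoc] using g_y1.1) (by simpa only [mul_assoc] using g_y1.2.1)
    have a2 := h.inj _ (mul_mem (mul_mem (mul_mem m1 eR_K1) (mul_mem m1 m1)) (mul_mem eR_K1 eR_K1))
      _ τ1 (conj_injective (a1.trans hd.symm))
    simp only [mul_assoc] at a2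
    rcases hτ with rfl | rfl
    exacts [g_y1.2.2.1 a2, g_y1.2.2.2 a2]
  obtain ⟨η, hη⟩ := h.dom _ (cN hd ((h.comm hY_K1 τ1).2 (cτ g_y.2.2.1)))
  have hηη := hη.mul hη
  rw [conj_mul, ← h.mul _ hY_K1 _ hY_K1, g_y.1] at hηη
  obtain ⟨ρ, hρ, ρ3⟩ := h.exists_three (cN hd ((h.comm eR_K1 τ1).2 (cτ f_tr.symm)))
    (ccube (j3 h.toS0 f_rrr))
  obtain ⟨α, hα⟩ := h.dom _ (cN hd (hk _ τ1))
  have h4 := (hα.mul hα).mul (hα.mul hα)
  simp only [conj_mul] at h4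
  have k4 : Cn J (k * k * (k * k)) := (hk.mul hk).mul (hk.mul hk)
  by_cases ρ1 : ρ = 1
  · exact (fin 1 Cn.one (by rw [one_mul]; exact hρ.cn (Or.inl ρ1))).elim
  rcases KF1 ρ3 ρ1 (h.comm_three hη hρ (comm_conj c ((h.comm hY_K1 eR_K1).2 g_y.2.1)) ρ3)
    (h.sq_u2 hηη (csq h.tt)) (fun e => not_cn h hc (hηη.cn e))
    (h.comm_three hα hρ (comm_conj c (hk _ eR_K1)) ρ3)
    (h.comm_or hα hη (comm_conj c (hk _ hY_K1))) with e | e | e
  · exact h4.cn (Or.inl e)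
  · refine (fin _ k4.inv ?_).elim
    have := (h4.inv.mul hρ).cn (Or.inl (by rw [e, inv_mul_cancel]))
    rwa [conj_inv, conj_mul] at this
  · refine (fin _ k4 ?_).elim
    have := (h4.mul hρ).cn (Or.inl (by rw [e, mul_assoc, ρ3]))
    rwa [conj_mul] at this

theorem a2 : A2Stmt.{u} := fun _ _ _ _ h _ _ hτ hd => part2 h hτ hd

end Cfsg.Agent.H57.HsA
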