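import Cfsg.Agent.H48.HsD

/-! A standard subgroup `2.HS`: conjugates of the central involution that act as inner automorphisms. -/

set_option autoImplicit false
set_option maxRecDepth 100000

namespace Cfsg.Agent.H57.HsA

open Cfsg.Agent.H68.DCE Cfsg.Agent.H68.HN Cfsg.Agent.H63 Cfsg.Agent.H67 Subgroup
open Cfsg.Agent.H48.HS

universe u

variable {Γ : Type*} [Group Γ] {J : K → Γ}

/-- The conjugate of the central involution is another involution of its centraliser. -/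
structure Pc (J : K → Γ) (c : Γ) : Prop where
  ne : c * J eU ≠ J eU * c
  cm : c * J eU * c⁻¹ * J eU = J eU * (c * J eU * c⁻¹)

theorem cN {c d x t : Γ} (hd : c * d * c⁻¹ = t) (h : x * d = d * x) :
    c * x * c⁻¹ * t = t * (c * x * c⁻¹) := hd ▸ comm_conj c h

theorem Pc.inv {c : Γ} (h : Pc J c) : Pc J c⁻¹ :=
  ⟨fun e => h.ne (by
    have : Commute c⁻¹ (J eU) := e
    exact (Commute.inv_left_iff.1 this :)), cN (conj_symm rfl) h.cm.symm⟩

theorem Pc.of {c d : Γ} (hc : c * J eU ≠ J eU * c) (hd : c * d * c⁻¹ = J eU)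
    (h : d * J eU = J eU * d) : Pc J c := ⟨hc, cN hd h.symm⟩

theorem csq {c s : Γ} (h : s * s = 1) : c * s * c⁻¹ * (c * s * c⁻¹) = 1 := by
  rw [conj_mul, h]; group

theorem ccube {c s : Γ} (h : s * (s * s) = 1) :
    c * s * c⁻¹ * (c * s * c⁻¹ * (c * s * c⁻¹)) = 1 := by
  rw [conj_mul, conj_mul, h]; group

theorem not_cn (h : SD J) {c : Γ} (hc : c * J eU ≠ J eU * c) : ¬ Cn J (c * J eU * c⁻¹) :=
  fun e => hc (h.tight _ c h.tt h.t1 h.cn_t e)

theorem lemU (h : SD J) {c s : Γ} (hc : Pc J c) (hs : Cn J s) (h2 : s * s = 1)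
    (hn : c * s * c⁻¹ * J eU = J eU * (c * s * c⁻¹)) : s = 1 ∨ s = J eU := by
  by_cases h1 : s = 1
  · exact Or.inl h1
  refine Or.inr ?_
  obtain ⟨σ, hσ⟩ := h.dom _ hc.cm
  obtain ⟨υ, hυ⟩ := h.dom _ hn
  have s2 := h.sq_u2 hσ (csq h.tt)
  have u2 := h.sq_u2 hυ (csq h2)
  have n1 : ¬ U2 σ := fun e => not_cn h hc.ne (hσ.cn e)
  have n2 : ¬ U2 υ := fun e => hc.ne (h.tight s c h2 h1 hs (hυ.cn e))
  have key := (F1 u2 n2 σ s2 fun a ha e => by
    have e1 := (h.ac_comm hυ ha).2 e.symm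
    have e2 : c⁻¹ * J a * c * s * (c⁻¹ * J a * c)⁻¹ = s := by
      calc _ = c⁻¹ * (J a * (c * s * c⁻¹) * (J a)⁻¹) * c := by group
        _ = s := by rw [← e1]; group
    have e3 := h.tight s (c⁻¹ * J a * c) h2 h1 hs (e2.symm ▸ hs)
    refine ((h.ac_comm hσ ha).1 ?_).symm
    calc c * J eU * c⁻¹ * J a = c * (J eU * (c⁻¹ * J a * c)) * c⁻¹ := by group
      _ = _ := by rw [← e3]; group).resolve_left n1
  have k2 : U2 (υ * σ) := by
    rcases key with e | e <;> rw [e]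
    · exact u2
    · rw [← mul_assoc, ← cU, mul_assoc]; exact U2.u.mul u2
  have k3 := (hυ.mul hσ).cn k2
  rw [conj_mul] at k3
  by_contra e
  refine hc.ne (h.tight (s * J eU) c ?_ (fun e1 => e ?_) (hs.mul h.cn_t) k3)
  · rw [mul_assoc, ← mul_assoc (J eU), ← hs.t, mul_assoc, h.tt, mul_one, h2]
  · exact mul_right_cancel (e1.trans h.tt.symm)

theorem inv3 {G : Type*} [Group G] {m : G} (h : m * (m * m) = 1) : m * m = m⁻¹ :=
  (inv_eq_of_mul_eq_one_right h).symm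

theorem e_ne {G : Type*} [Group G] {m x : G} (hm : m * (m * m) = 1) (hx : x * (x * x) = 1)
    (h : m * x ≠ x * m) : m * x * (m * m) * (x * x) ≠ 1 := fun e => h (by
  rw [inv3 hm, inv3 hx] at e
  rw [← mul_inv_eq_iff_eq_mul, ← mul_inv_eq_one]; exact e)

theorem lemE (h : SD J) {c k : Γ} {x m : K} (hc : Pc J c) (hm : m * (m * m) = 1)
    (hx : x * (x * x) = 1) (hk : Cn J k)
    (hM : c * J m * c⁻¹ * J eU = J eU * (c * J m * c⁻¹)) (hX : Cn J (c * (k * J x) * c⁻¹))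
    (he : m * x * (m * m) * (x * x) * (m * x * (m * m) * (x * x)) = 1)
    (h1 : m * x * (m * m) * (x * x) ≠ 1) : c * J (m * x * (m * m) * (x * x)) * c⁻¹ = J eU := by
  have m1 := K1_of_cube hm
  have x1 := K1_of_cube hx
  rw [inv3 hm, inv3 hx] at he h1 ⊢
  have e1 : m * x * m⁻¹ * x⁻¹ ∈ K1 := mul_mem (mul_mem (mul_mem m1 x1) (inv_mem m1)) (inv_mem x1)
  have eJ : J (m * x * m⁻¹ * x⁻¹) = J m * J x * (J m)⁻¹ * (J x)⁻¹ := by
    rw [h.mul _ (mul_mem (mul_mem m1 x1) (inv_mem m1)) _ (inv_mem x1),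
      h.mul _ (mul_mem m1 x1) _ (inv_mem m1), h.mul _ m1 _ x1, h.inv m1, h.inv x1]
  obtain ⟨μ, hμ⟩ := h.dom _ hM
  have c1 := (hμ.cn_conj hX).mul hX.inv
  have c2 : c * J m * c⁻¹ * (c * (k * J x) * c⁻¹) * (c * J m * c⁻¹)⁻¹ * (c * (k * J x) * c⁻¹)⁻¹ =
      c * J (m * x * m⁻¹ * x⁻¹) * c⁻¹ := by
    have a1 : k * J (m * x * m⁻¹ * x⁻¹) * k⁻¹ = J (m * x * m⁻¹ * x⁻¹) := conj_of_mul (hk _ e1)
    calc _ = c * (J m * k * (J x * (J m)⁻¹ * (J x)⁻¹) * k⁻¹) * c⁻¹ := by group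
      _ = c * (k * (J m * J x * (J m)⁻¹ * (J x)⁻¹) * k⁻¹) * c⁻¹ := by rw [← hk m m1]; group
      _ = _ := by rw [← eJ, a1]
  rw [c2] at c1
  generalize m * x * m⁻¹ * x⁻¹ = e at he h1 e1 c1
  refine (lemU h hc.inv c1 (csq (by rw [← h.mul _ e1 _ e1, he, h.one])) ?_).resolve_left
    fun a => h1 (h.eq_one e1 (conj_eq_one_iff.1 a))
  rw [conj_symm rfl]
  exact h.jt e1

theorem cube_mul {G : Type*} [Group G] {a b : G} (c : a * b = b * a) (ha : a * (a * a) = 1)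
    (hb : b * (b * b) = 1) : a * b * (a * b * (a * b)) = 1 := by
  have := Commute.mul_pow c 3
  rwa [pow_three, pow_three, pow_three, ha, hb, mul_one] at this

theorem twoB0 (h : SD J) {c k : Γ} (hc : c * J eU ≠ J eU * c) (hk : Cn J k)
    (hd : c * (J hY * k) * c⁻¹ = J eU) : False := by
  have cd : ∀ a ∈ K1, a * hY = hY * a → J a * (J hY * k) = J hY * k * J a := fun a ha e => by
    rw [← mul_assoc, (h.comm ha hY_K1).2 e, mul_assoc, ← hk a ha, mul_assoc]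
  have pc : Pc J c := Pc.of hc hd (cd _ eU_K1 (cU _)).symm
  have kd : k * (J hY * k) = J hY * k * k := by rw [← mul_assoc, hk _ hY_K1]
  have kk : k * k = J eU := by
    have a1 : J hY * k * (J hY * k) = 1 := by
      have := h.tt
      rw [← hd, conj_mul] at this
      exact conj_eq_one_iff.1 this
    rw [mul_assoc, kd, ← mul_assoc, ← mul_assoc, ← h.mul _ hY_K1 _ hY_K1, g_y.1, mul_assoc] at a1
    exact mul_left_cancel (a1.trans h.tt.symm)
  have fin : ∀ {m x : K}, m * (m * m) = 1 → x * (x * x) = 1 → m * hY = hY * m →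
      m * x * (m * m) * (x * x) * (m * x * (m * m) * (x * x)) = 1 → m * x ≠ x * m →
      Cn J (c * J x * c⁻¹) → False := fun {m x} hm hx c1 he hne hX => by
    have m1 := K1_of_cube hm
    have x1 := K1_of_cube hx
    have a1 := lemE h pc hm hx Cn.one (cN hd (cd m m1 c1)) (by rwa [one_mul]) he (e_ne hm hx hne)
    have e1 : m * x * (m * m) * (x * x) ∈ K1 :=
      mul_mem (mul_mem (mul_mem m1 x1) (mul_mem m1 m1)) (mul_mem x1 x1)
    generalize m * x * (m * m) * (x * x) = e at a1 e1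
    have a2 : J e = J hY * k := conj_injective (a1.trans hd.symm)
    have y1 : hY⁻¹ * e ∈ K1 := mul_mem (inv_mem hY_K1) e1
    have a3 : k = J (hY⁻¹ * e) := by
      rw [h.mul _ (inv_mem hY_K1) _ e1, h.inv hY_K1, a2, inv_mul_cancel_left]
    have a4 := ((h.cn_iff y1).1 (a3 ▸ hk)).sq
    rw [a3, ← h.mul _ y1 _ y1, a4, h.one] at kk
    exact h.t1 kk.symm
  have q1 := K1_of_cube g_q.1
  obtain ⟨η, hη⟩ := h.dom _ (cN hd kd)
  have hηη := hη.mul hη
  rw [conj_mul, kk] at hηη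
  have j3 : ∀ {a : K}, a * (a * a) = 1 → J a * (J a * J a) = 1 := fun {a} ha => by
    have a1 := K1_of_cube ha
    rw [← h.mul _ a1 _ a1, ← h.mul _ a1 _ (mul_mem a1 a1), ha, h.one]
  obtain ⟨ρ, hρ, ρ3⟩ := h.exists_three (cN hd (cd _ eR_K1 g_y.2.1.symm)) (ccube (j3 f_rrr))
  obtain ⟨α, hα, α3⟩ := h.exists_three (cN hd (cd _ q1 g_q.2.1)) (ccube (j3 g_q.1))
  by_cases ρ1 : ρ = 1
  · exact fin g_mr.1 f_rrr g_mr.2.1 (by simpa only [mul_assoc] using g_mr.2.2.1) g_mr.2.2.2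
      (hρ.cn (Or.inl ρ1))
  have α4 : α * α * (α * α) = α := by rw [mul_assoc, α3, mul_one]
  have := KF1 ρ3 ρ1 (h.comm_three hη hρ (comm_conj c (hk _ eR_K1)) ρ3)
    (h.sq_u2 hηη (csq h.tt)) (fun e => not_cn h hc (hηη.cn e))
    (h.comm_three hα hρ (comm_conj c ((h.comm q1 eR_K1).2 g_q.2.2)) ρ3)
    (h.comm_or hα hη (comm_conj c (hk _ q1).symm))
  rw [α4] at this
  rcases this with e | e | e
  · exact fin g_mq.1 g_q.1 g_mq.2.1 (by simpa only [mul_assoc] using g_mq.2.2.1) g_mq.2.2.2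
      (hα.cn (Or.inl e))
  · have qq : hQ * hQ * (hQ * hQ * (hQ * hQ)) = 1 := cube_mul rfl g_q.1 g_q.1
    have rq : eR * (hQ * hQ) = hQ * hQ * eR := by
      rw [← mul_assoc, ← g_q.2.2, mul_assoc, ← g_q.2.2, mul_assoc]
    refine fin g_mrqq.1 (cube_mul rq f_rrr qq) g_mrqq.2.1
      (by simpa only [mul_assoc] using g_mrqq.2.2.1)
      (by simpa only [mul_assoc] using g_mrqq.2.2.2) ?_
    have := (hρ.mul (hα.mul hα)).cn (Or.inl (by rw [e, ρ3]))
    rwa [conj_mul, conj_mul, ← h.mul _ q1 _ q1, ← h.mul _ eR_K1 _ (mul_mem q1 q1)] at this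
  · refine fin g_mrq.1 (cube_mul g_q.2.2.symm f_rrr g_q.1) g_mrq.2.1
      (by simpa only [mul_assoc] using g_mrq.2.2.1)
      (by simpa only [mul_assoc] using g_mrq.2.2.2) ?_
    have := (hρ.mul hα).cn (Or.inl (by rw [e, ρ3]))
    rwa [conj_mul, ← h.mul _ eR_K1 _ q1] at this

theorem ne_mul {c n t : Γ} (hc : c * t ≠ t * c) (hn : n * t = t * n) : c * n * t ≠ t * (c * n) :=
  fun e => hc (by
    rw [mul_assoc, hn, ← mul_assoc, ← mul_assoc] at e
    exact mul_right_cancel e)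

theorem twoB (h : SD J) {c k : Γ} {l : K} (hc : c * J eU ≠ J eU * c) (hl : l * l = eU)
    (hk : Cn J k) (hd : c * (J l * k) * c⁻¹ = J eU) : False := by
  have l1 := K1_of_sq hl
  obtain ⟨m, hm, e⟩ := root_class1 hl
  have hc' := ne_mul hc (h.ac hm).inv.t
  have a1 : c * (J m)⁻¹ * (J (m * l * m⁻¹) * k) * (c * (J m)⁻¹)⁻¹ = J eU := by
    rw [← h.ac hm l l1, ← hd]
    calc _ = c * (J l * ((J m)⁻¹ * (k * J m))) * c⁻¹ := by group
      _ = _ := by rw [hk m hm, inv_mul_cancel_left]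
  rcases e with e | e <;> rw [e] at a1
  · exact twoB0 h hc' hk a1
  · rw [cU, h.mul _ hY_K1 _ eU_K1, mul_assoc (J hY)] at a1
    exact twoB0 h hc' (h.cn_t.mul hk) a1

theorem inn (h : SD J) : IN J := fun c σ hσ hc hA => by
  have pc : Pc J c := ⟨hc, hA.t⟩
  obtain ⟨k, hk, e⟩ := h.split hA hσ
  rcases h.sq_u2 hA (csq h.tt) with s | s
  · have kd : k * (J σ * k) = J σ * k * k := by rw [← mul_assoc, hk _ hσ]
    have kk : k * k = 1 := by
      have a1 : c * J eU * c⁻¹ * (c * J eU * c⁻¹) = 1 := csq h.tt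
      rwa [e, mul_assoc, kd, ← mul_assoc, ← mul_assoc, ← h.mul _ hσ _ hσ, s, h.one, one_mul] at a1
    rcases lemU h pc.inv hk kk (cN (conj_symm e) kd) with a | a
    · exact ⟨σ, hσ, by rw [e, a, mul_one]⟩
    · exact ⟨σ * eU, mul_mem hσ eU_K1, by rw [e, a, h.mul _ hσ _ eU_K1]⟩
  · exact (twoB h pc.inv.ne s hk (conj_symm e)).elim

theorem a0 : A0Stmt.{u} := fun _ _ _ _ h => inn h

end Cfsg.Agent.H57.HsA
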