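import Cfsg.Agent.H76.K0Defs

set_option autoImplicit false

namespace Cfsg.Agent.H57.K0Ar

open Cfsg.Agent.H76.K0

theorem s1 (n : ℤ) (N : ℕ) : 6 * ∑ i ∈ Finset.range N, ((i : ℤ) - n) ^ 2 =
    2 * (N : ℤ) ^ 3 - 3 * (N : ℤ) ^ 2 * (2 * n + 1) + N * (6 * n ^ 2 + 6 * n + 1) := by
  induction N with
  | zero => simp
  | succ N ih => rw [Finset.sum_range_succ, mul_add, ih]; push_cast; ring

theorem s2 (p : ℤ) (N : ℕ) : 6 * ∑ i ∈ Finset.range N, (i : ℤ) * (p - i) =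
    (N : ℤ) * (N - 1) * (3 * p - 2 * N + 1) := by
  induction N with
  | zero => simp
  | succ N ih => rw [Finset.sum_range_succ, mul_add, ih]; push_cast; ring

theorem sv (k : ℕ) (F : ℕ → ℤ) : ∑ x : ZMod (k + 1), F x.val = ∑ i ∈ Finset.range (k + 1), F i :=
  Fin.sum_univ_eq_sum_range F (k + 1)

theorem bound (n b1 b2 t : ℤ) (hn : 0 ≤ n) (h1 : b1 ^ 2 ≤ 2 * n - 1) (h2 : b2 ^ 2 ≤ 4 * n - 2)
    (h : b2 - 2 * b1 = (2 * n + 1) * t) (ht : t ≠ 0) : n ≤ 4 := by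
  have h3 : 1 ≤ t ^ 2 := by
    have := sq_pos_of_ne_zero ht
    omega
  have h4 : (2 * n + 1) ^ 2 ≤ (b2 - 2 * b1) ^ 2 := by
    rw [h, mul_pow]; nlinarith [sq_nonneg (2 * n + 1)]
  by_contra hc
  push Not at hc
  nlinarith [sq_nonneg (b2 + b1)]

theorem ar : ArStmt := by
  intro p hp hp2 d e hd he h
  obtain ⟨n, rfl⟩ : ∃ n, p = 2 * n + 1 := hp.odd_of_ne_two hp2
  have : Fact (2 * n + 1).Prime := ⟨hp⟩
  let m : ZMod (2 * n + 1) → ℤ := fun x => ((x + (n : ZMod (2 * n + 1))).val : ℤ) - n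
  have hm : ∀ x, ((m x : ℤ) : ZMod (2 * n + 1)) = x := by
    intro x; simp [m]
  have hsum : ∀ c : ℤ, ¬ ((2 * n + 1 : ℕ) : ℤ) ∣ c →
      ∑ x : ZMod (2 * n + 1), m (x * c) ^ 2 = ∑ i ∈ Finset.range (2 * n + 1), ((i : ℤ) - n) ^ 2 := by
    intro c hc
    have hc0 : (c : ZMod (2 * n + 1)) ≠ 0 := by
      rwa [Ne, ZMod.intCast_zmod_eq_zero_iff_dvd]
    rw [← sv (2 * n) (fun i => ((i : ℤ) - n) ^ 2)]
    exact Fintype.sum_equiv ((Equiv.mulRight₀ (c : ZMod (2 * n + 1)) hc0).trans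
      (Equiv.addRight (n : ZMod (2 * n + 1)))) _ _ (fun x => rfl)
  have hdv : ∀ (x : ZMod (2 * n + 1)) (c : ℤ), ((2 * n + 1 : ℕ) : ℤ) ∣ m (x * c) - x.val * c := by
    intro x c
    rw [← ZMod.intCast_zmod_eq_zero_iff_dvd]
    push_cast
    rw [hm]; simp
  have hle : ∀ x ∈ (Finset.univ : Finset (ZMod (2 * n + 1))),
      (x.val : ℤ) * (((2 * n + 1 : ℕ) : ℤ) - x.val) ≤ m (x * d) ^ 2 + m (x * e) ^ 2 := by
    intro x _
    have := h x.val _ _ (hdv x d) (hdv x e)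
    linarith
  have heq : ∑ x : ZMod (2 * n + 1), (x.val : ℤ) * (((2 * n + 1 : ℕ) : ℤ) - x.val) =
      ∑ x : ZMod (2 * n + 1), (m (x * d) ^ 2 + m (x * e) ^ 2) := by
    rw [Finset.sum_add_distrib, hsum d hd, hsum e he,
      sv (2 * n) (fun i => (i : ℤ) * (((2 * n + 1 : ℕ) : ℤ) - i))]
    have a1 := s1 n (2 * n + 1)
    have a2 := s2 ((2 * n + 1 : ℕ) : ℤ) (2 * n + 1)
    push_cast at a1 a2 ⊢
    linarith
  have hall := (Finset.sum_eq_sum_iff_of_le hle).1 heq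
  by_contra h3
  have hn2 : 2 ≤ n := by
    have := hp.two_le
    omega
  have v1 : ((1 : ℕ) : ZMod (2 * n + 1)).val = 1 := ZMod.val_cast_of_lt (by omega)
  have v2 : ((2 : ℕ) : ZMod (2 * n + 1)).val = 2 := ZMod.val_cast_of_lt (by omega)
  have e1 := hall ((1 : ℕ) : ZMod (2 * n + 1)) (Finset.mem_univ _)
  have e2 := hall ((2 : ℕ) : ZMod (2 * n + 1)) (Finset.mem_univ _)
  have d1 := hdv ((1 : ℕ) : ZMod (2 * n + 1)) d
  have d2 := hdv ((2 : ℕ) : ZMod (2 * n + 1)) d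
  have f1 := hdv ((1 : ℕ) : ZMod (2 * n + 1)) e
  have f2 := hdv ((2 : ℕ) : ZMod (2 * n + 1)) e
  rw [v1] at e1 d1 f1
  rw [v2] at e2 d2 f2
  generalize m (((1 : ℕ) : ZMod (2 * n + 1)) * d) = b1 at e1 d1
  generalize m (((1 : ℕ) : ZMod (2 * n + 1)) * e) = c1 at e1 f1
  generalize m (((2 : ℕ) : ZMod (2 * n + 1)) * d) = b2 at e2 d2
  generalize m (((2 : ℕ) : ZMod (2 * n + 1)) * e) = c2 at e2 f2
  have hb1 : b1 ≠ 0 := by
    rintro rfl
    apply hd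
    simpa using d1
  have hc1 : c1 ≠ 0 := by
    rintro rfl
    apply he
    simpa using f1
  obtain ⟨t, ht⟩ : ((2 * n + 1 : ℕ) : ℤ) ∣ b2 - 2 * b1 := by
    have h0 := Dvd.dvd.sub d2 (Dvd.dvd.mul_left d1 2)
    have h1 : b2 - ((2 : ℕ) : ℤ) * d - 2 * (b1 - ((1 : ℕ) : ℤ) * d) = b2 - 2 * b1 := by
      push_cast; ring
    exact h1 ▸ h0
  obtain ⟨s, hs⟩ : ((2 * n + 1 : ℕ) : ℤ) ∣ c2 - 2 * c1 := by
    have h0 := Dvd.dvd.sub f2 (Dvd.dvd.mul_left f1 2)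
    have h1 : c2 - ((2 : ℕ) : ℤ) * e - 2 * (c1 - ((1 : ℕ) : ℤ) * e) = c2 - 2 * c1 := by
      push_cast; ring
    exact h1 ▸ h0
  push_cast at e1 e2 ht hs
  have p1 := sq_pos_of_ne_zero hb1
  have p2 := sq_pos_of_ne_zero hc1
  have hn4 : (n : ℤ) ≤ 4 := by
    by_cases t0 : t = 0
    · by_cases s0 : s = 0
      · subst t0 s0
        have : b2 = 2 * b1 := by linarith
        have : c2 = 2 * c1 := by linarith
        subst_vars
        nlinarith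
      · exact bound n c1 c2 s (by positivity) (by linarith) (by nlinarith [sq_nonneg b2]) hs s0
    · exact bound n b1 b2 t (by positivity) (by linarith) (by nlinarith [sq_nonneg c2]) ht t0
  have hn4' : n ≤ 3 := by
    have : n ≤ 4 := by exact_mod_cast hn4
    by_contra hh
    have : n = 4 := by omega
    subst this
    exact absurd hp (by norm_num)
  have hn3 : (n : ℤ) ≤ 3 := by exact_mod_cast hn4'
  have hn2' : (2 : ℤ) ≤ n := by exact_mod_cast hn2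
  have q1 : b1 ≤ 2 := by nlinarith
  have q2 : -2 ≤ b1 := by nlinarith
  have q3 : c1 ≤ 2 := by nlinarith
  have q4 : -2 ≤ c1 := by nlinarith
  interval_cases b1 <;> interval_cases c1 <;> omega

end Cfsg.Agent.H57.K0Ar
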