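import Cfsg.Agent.H8.K4Ar
import Cfsg.Agent.S4542
import Cfsg.Agent.S4606
import Cfsg.Agent.S0960
import Cfsg.Agent.H17.Numeric

set_option autoImplicit false

namespace Cfsg.Agent.H57.K4End

open Cfsg

theorem le_of_cyc {G : Type*} [Group G] [Finite G] (p : ℕ) [Fact p.Prime] (M : Ideal AlgInt)
    (hM : IsPModular p M) (P : Sylow p G) (hcyc : IsCyclic (P : Subgroup G)) :
    Nat.card (principalBlock M G) ≤ Nat.card (P : Subgroup G) := by
  refine S4542.result p M hM _ H17.isPBlock_principalBlock (P : Subgroup G)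
    (H17.dg_principal hM P) (P : Subgroup G) le_rfl ?_ hcyc (by simp)
  intro z hz d hd
  obtain ⟨g, hg⟩ := hcyc.exists_generator
  obtain ⟨a, ha⟩ := hg ⟨z, hz⟩
  obtain ⟨b, hb⟩ := hg ⟨d, hd⟩
  have h1 : (g : G) ^ a = z := congrArg Subtype.val ha
  have h2 : (g : G) ^ b = d := congrArg Subtype.val hb
  rw [← h1, ← h2, ← zpow_add, ← zpow_add, add_comm]

theorem small {G : Type*} [Group G] [Finite G] (p : ℕ) [Fact p.Prime] (M : Ideal AlgInt)
    (hM : IsPModular p M) (hk : Nat.card (principalBlock M G) = 4) (P : Sylow p G) :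
    Nat.card (P : Subgroup G) ≠ 1 ∧ Nat.card (P : Subgroup G) ≠ 2 ∧
      Nat.card (P : Subgroup G) ≠ 3 ∧ Nat.card (P : Subgroup G) ≠ 7 := by
  have hp : p.Prime := Fact.out
  refine ⟨fun h => ?_, fun h => ?_, fun h => ?_, fun h => ?_⟩
  · have : Subsingleton (P : Subgroup G) := (Nat.card_eq_one_iff_unique.1 h).1
    have := le_of_cyc p M hM P inferInstance
    omega
  · have : Fact (Nat.Prime 2) := ⟨Nat.prime_two⟩
    have := le_of_cyc p M hM P (isCyclic_of_prime_card h)
    omega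
  · have : Fact (Nat.Prime 3) := ⟨Nat.prime_three⟩
    have := le_of_cyc p M hM P (isCyclic_of_prime_card h)
    omega
  · obtain ⟨n, hn⟩ := IsPGroup.iff_card.mp P.isPGroup'
    have h7 : Nat.Prime 7 := by norm_num
    have hpk : 7 = p := by
      have h1 : 7 ∣ p ^ n := by rw [← hn, h]
      exact (Nat.prime_dvd_prime_iff_eq h7 hp).mp (h7.dvd_of_dvd_pow h1)
    subst hpk
    have h2 := (S0960.result 7 M hM (by norm_num) P h _ rfl).1
    rw [hk] at h2
    generalize (Subgroup.centralizer ((P : Subgroup G) : Set G)).relIndex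
      (Subgroup.normalizer ((P : Subgroup G) : Set G)) = e at h2
    have he : e ≤ 4 := h2 ▸ Nat.le_add_right _ _
    interval_cases e <;> simp at h2

theorem fin4 {G : Type*} [Group G] [Finite G] (p : ℕ) [Fact p.Prime] (M : Ideal AlgInt)
    (hM : IsPModular p M) (hk : Nat.card (principalBlock M G) = 4)
    (hl : blockRank p (principalBlock M G) = 3) (D : Sylow p G)
    (h4 : Nat.card (D : Subgroup G) = 4) :
    p = 2 ∧ Nat.card (D : Subgroup G) = 4 ∧ IsElementaryAbelian 2 (D : Subgroup G) := by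
  have hp : p.Prime := Fact.out
  obtain ⟨n, hn⟩ := IsPGroup.iff_card.mp D.isPGroup'
  have hpk : 2 = p := by
    have h1 : 2 ∣ p ^ n := by rw [← hn, h4]; norm_num
    exact (Nat.prime_dvd_prime_iff_eq Nat.prime_two hp).mp (Nat.prime_two.dvd_of_dvd_pow h1)
  subst hpk
  exact ⟨rfl, h4, S4606.result 2 M hM _ H17.isPBlock_principalBlock (D : Subgroup G)
    (H17.dg_principal hM D) (by rw [hk, hl]) (Or.inl rfl)⟩

theorem fin {G : Type*} [Group G] [Finite G] (p : ℕ) [Fact p.Prime] (M : Ideal AlgInt)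
    (hM : IsPModular p M) (hk : Nat.card (principalBlock M G) = 4)
    (hl : blockRank p (principalBlock M G) = 3) (D : Sylow p G) (x y z : ℤ)
    (hq : (Nat.card (D : Subgroup G) : ℤ) = 1 + x ^ 2 + y ^ 2 + z ^ 2)
    (H : ∀ a b c d : ℤ, (Nat.card (D : Subgroup G) : ℤ) ∣ b - a * x →
      (Nat.card (D : Subgroup G) : ℤ) ∣ c - a * y → (Nat.card (D : Subgroup G) : ℤ) ∣ d - a * z →
      (Nat.card (D : Subgroup G) : ℤ) * a ≤ a ^ 2 + b ^ 2 + c ^ 2 + d ^ 2) :
    p = 2 ∧ Nat.card (D : Subgroup G) = 4 ∧ IsElementaryAbelian 2 (D : Subgroup G) := by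
  have hp : p.Prime := Fact.out
  obtain ⟨s1, s2, s3, s7⟩ := small p M hM hk D
  obtain ⟨n, hn⟩ := IsPGroup.iff_card.mp D.isPGroup'
  apply fin4 p M hM hk hl D
  by_cases h2 : p = 2
  · subst h2
    have h8 := H8.K4Ar.not_eight _ x y z hq
    rw [hn] at s1 s2 h8 ⊢
    have hn3 : n < 3 := by
      by_contra hc
      apply h8
      have : 2 ^ 3 ∣ 2 ^ n := pow_dvd_pow 2 (by omega)
      exact_mod_cast this
    interval_cases n
    · exact absurd rfl s1
    · exact absurd rfl s2
    · rfl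
  · exfalso
    have ho : Odd (Nat.card (D : Subgroup G)) := by
      rw [hn]; exact (hp.odd_of_ne_two h2).pow
    have ho' : (Nat.card (D : Subgroup G) : ℤ) % 2 = 1 := by
      obtain ⟨k, hk⟩ := ho
      omega
    have h := H8.K4Ar.ar _ x y z hq ho' H
    have h15 : Nat.card (D : Subgroup G) = 15 := by omega
    have a3 : 3 = p := by
      have h1 : 3 ∣ p ^ n := by rw [← hn, h15]; norm_num
      exact (Nat.prime_dvd_prime_iff_eq Nat.prime_three hp).mp (Nat.prime_three.dvd_of_dvd_pow h1)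
    have a5 : 5 = p := by
      have h1 : 5 ∣ p ^ n := by rw [← hn, h15]; norm_num
      exact (Nat.prime_dvd_prime_iff_eq Nat.prime_five hp).mp (Nat.prime_five.dvd_of_dvd_pow h1)
    omega

end Cfsg.Agent.H57.K4End
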