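import Cfsg.Agent.H44.K5Defs

set_option autoImplicit false

namespace Cfsg.Agent.H57.K5Uni

open Cfsg.Agent.H44.K5 Matrix

def ex {n : ℕ} (M : Matrix (Fin n) (Fin n) ℤ) (r : Fin n → ℤ) : Matrix (Fin (n + 1)) (Fin (n + 1)) ℤ :=
  Matrix.of (Fin.cons (Fin.cons 1 r) (fun i => Fin.cons 0 (M i)))

theorem e00 {n : ℕ} (M : Matrix (Fin n) (Fin n) ℤ) (r : Fin n → ℤ) : ex M r 0 0 = 1 := rfl
theorem e0s {n : ℕ} (M : Matrix (Fin n) (Fin n) ℤ) (r : Fin n → ℤ) (j : Fin n) :
    ex M r 0 j.succ = r j := rfl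
theorem es0 {n : ℕ} (M : Matrix (Fin n) (Fin n) ℤ) (r : Fin n → ℤ) (i : Fin n) :
    ex M r i.succ 0 = 0 := rfl
theorem ess {n : ℕ} (M : Matrix (Fin n) (Fin n) ℤ) (r : Fin n → ℤ) (i j : Fin n) :
    ex M r i.succ j.succ = M i j := rfl

theorem det_ex {n : ℕ} (M : Matrix (Fin n) (Fin n) ℤ) (r : Fin n → ℤ) : (ex M r).det = M.det := by
  rw [det_succ_column_zero, Fin.sum_univ_succ]
  simp only [es0, e00, mul_zero, zero_mul, Finset.sum_const_zero, add_zero, Fin.val_zero, pow_zero,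
    one_mul, Fin.succAbove_zero]
  rfl

theorem pd {n : ℕ} (A U : Matrix (Fin n) (Fin n) ℤ) (hU : U.det ≠ 0)
    (h : ∀ x : Fin n → ℤ, x ≠ 0 → 0 < x ⬝ᵥ A *ᵥ x) (x : Fin n → ℤ) (hx : x ≠ 0) :
    0 < x ⬝ᵥ (Uᵀ * A * U) *ᵥ x := by
  have h1 := h (U *ᵥ x) (fun h0 => hx (Matrix.eq_zero_of_mulVec_eq_zero hU h0))
  rwa [← mulVec_mulVec, ← mulVec_mulVec, dotProduct_mulVec, vecMul_transpose]

theorem uni (herm : HermStmt) : UniStmt := by
  intro n
  induction n with
  | zero => intro _ A _ _ _; exact ⟨1, Subsingleton.elim _ _⟩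
  | succ n ih =>
    intro hn A hs hp hd
    obtain ⟨U, hU, ha⟩ := herm n A hs hp
    have hU2 : U.det * U.det = 1 := by
      rcases Int.isUnit_iff.1 hU with h | h <;> rw [h] <;> norm_num
    have hp1 := pd A U hU.ne_zero hp
    have hs1 : (Uᵀ * A * U)ᵀ = Uᵀ * A * U := by
      rw [transpose_mul, transpose_mul, transpose_transpose, hs, Matrix.mul_assoc]
    have hd1 : (Uᵀ * A * U).det = 1 := by
      rw [det_mul, det_mul, det_transpose, hd, mul_one, hU2]
    obtain ⟨B, hB⟩ : ∃ B, B = Uᵀ * A * U := ⟨_, rfl⟩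
    rw [← hB] at ha hp1 hs1 hd1
    have h0 : 0 < B 0 0 := by
      have := hp1 (Pi.single 0 1) (by simp)
      simpa using this
    have h1 : B 0 0 = 1 := by
      by_contra hne
      have h2 : (2 : ℤ) ^ (n + 1) ≤ B 0 0 ^ (n + 1) := pow_le_pow_left₀ (by norm_num) (by omega) _
      rw [hd] at ha
      have h3 := (mul_le_mul_of_nonneg_right h2 (by positivity)).trans ha
      have hn4 : n ≤ 4 := by omega
      interval_cases n <;> norm_num at h3
    have hsy : ∀ i j, B i j = B j i := fun i j => by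
      conv_lhs => rw [← hs1]
      rfl
    let S : Matrix (Fin n) (Fin n) ℤ := Matrix.of fun i j => B i.succ j.succ - B 0 i.succ * B 0 j.succ
    let E := ex (1 : Matrix (Fin n) (Fin n) ℤ) (fun j => -B 0 j.succ)
    have hE : E.det = 1 := by rw [det_ex, det_one]
    have key : Eᵀ * B * E = ex S 0 := by
      ext i j
      refine Fin.cases ?_ (fun i => ?_) i <;> refine Fin.cases ?_ (fun j => ?_) j <;>
        simp [E, S, mul_apply, Fin.sum_univ_succ, e00, e0s, es0, ess, one_apply, h1]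
      all_goals (try rw [hsy _ 0]); try ring
    have hS1 : Sᵀ = S := by
      ext i j
      simp only [S, transpose_apply, of_apply]
      rw [hsy j.succ i.succ]; ring
    have hS2 : ∀ x : Fin n → ℤ, x ≠ 0 → 0 < x ⬝ᵥ S *ᵥ x := by
      intro x hx
      have h2 := pd B E (by rw [hE]; norm_num) hp1 (Fin.cons 0 x) (by
        intro h0
        apply hx
        funext i
        simpa using congrFun h0 i.succ)
      rw [key] at h2
      simpa [dotProduct, mulVec, Fin.sum_univ_succ, es0, ess] using h2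
    have hS3 : S.det = 1 := by
      rw [← det_ex S 0, ← key, det_mul, det_mul, det_transpose, hE, hd1]; norm_num
    obtain ⟨V, hV⟩ := ih (by omega) S hS1 hS2 hS3
    refine ⟨U * E * ex V 0, ?_⟩
    have k2 : (ex V 0)ᵀ * ex S 0 * ex V 0 = 1 := by
      ext i j
      refine Fin.cases ?_ (fun i => ?_) i <;> refine Fin.cases ?_ (fun j => ?_) j
      · simp [mul_apply, Fin.sum_univ_succ, e00, es0]
      · simp [mul_apply, Fin.sum_univ_succ, e00, e0s, es0, ess, one_apply, (Fin.succ_ne_zero j).symm]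
      · simp [mul_apply, Fin.sum_univ_succ, e00, e0s, es0, ess, one_apply]
      · have := congrFun (congrFun hV i) j
        simpa [mul_apply, Fin.sum_univ_succ, e00, e0s, es0, ess, one_apply] using this
    rw [← k2, ← key, hB]
    simp only [transpose_mul, Matrix.mul_assoc]

end Cfsg.Agent.H57.K5Uni
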