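import Mathlib
import Cfsg.Agent.H43.Sims

set_option autoImplicit false
set_option maxRecDepth 200000
set_option linter.style.longLine false

namespace Cfsg.Agent.H57.M12Cert

open Cfsg.Agent.H43

theorem m_hn : NOk 12 := by decide

theorem m_hk : 12 ≤ 2 ^ 4 := by decide

noncomputable def m_g1 : Net := (Net.cons (nat_lit 1) (nat_lit 1280) (Net.cons (nat_lit 2) (nat_lit 32) (Net.cons (nat_lit 4) (nat_lit 2) (Net.cons (nat_lit 8) (nat_lit 2) (Net.cons (nat_lit 4) (nat_lit 10) (Net.cons (nat_lit 2) (nat_lit 288) (Net.cons (nat_lit 1) (nat_lit 336) Net.nil)))))))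

theorem m_g1_ok : Net.ok 12 m_g1 = true := by decide +kernel

noncomputable def m_g2 : Net := (Net.cons (nat_lit 2) (nat_lit 512) (Net.cons (nat_lit 4) (nat_lit 14) (Net.cons (nat_lit 8) (nat_lit 14) (Net.cons (nat_lit 4) (nat_lit 6) (Net.cons (nat_lit 2) (nat_lit 272) (Net.cons (nat_lit 1) (nat_lit 1344) Net.nil))))))

theorem m_g2_ok : Net.ok 12 m_g2 = true := by decide +kernel

noncomputable def m_g3 : Net := (Net.cons (nat_lit 1) (nat_lit 1344) (Net.cons (nat_lit 2) (nat_lit 768) (Net.cons (nat_lit 4) (nat_lit 6) (Net.cons (nat_lit 8) (nat_lit 6) (Net.cons (nat_lit 4) (nat_lit 6) (Net.cons (nat_lit 2) (nat_lit 304) Net.nil))))))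

theorem m_g3_ok : Net.ok 12 m_g3 = true := by decide +kernel

noncomputable def m_g4 : Net := (Net.cons (nat_lit 1) (nat_lit 1280) (Net.cons (nat_lit 4) (nat_lit 6) (Net.cons (nat_lit 8) (nat_lit 6) (Net.cons (nat_lit 4) (nat_lit 6) (Net.cons (nat_lit 2) (nat_lit 560) (Net.cons (nat_lit 1) (nat_lit 64) Net.nil))))))

theorem m_g4_ok : Net.ok 12 m_g4 = true := by decide +kernel

noncomputable def m_g5 : Net := (Net.cons (nat_lit 1) (nat_lit 1088) (Net.cons (nat_lit 4) (nat_lit 11) (Net.cons (nat_lit 8) (nat_lit 11) (Net.cons (nat_lit 4) (nat_lit 11) (Net.cons (nat_lit 2) (nat_lit 288) (Net.cons (nat_lit 1) (nat_lit 256) Net.nil))))))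

theorem m_g5_ok : Net.ok 12 m_g5 = true := by decide +kernel

noncomputable def m_g6 : Net := (Net.cons (nat_lit 1) (nat_lit 4) (Net.cons (nat_lit 2) (nat_lit 769) (Net.cons (nat_lit 1) (nat_lit 68) Net.nil)))

theorem m_g6_ok : Net.ok 12 m_g6 = true := by decide +kernel

noncomputable def m_g7 : Net := (Net.cons (nat_lit 2) (nat_lit 512) (Net.cons (nat_lit 4) (nat_lit 12) (Net.cons (nat_lit 8) (nat_lit 12) (Net.cons (nat_lit 4) (nat_lit 12) (Net.cons (nat_lit 2) (nat_lit 256) (Net.cons (nat_lit 1) (nat_lit 1345) Net.nil))))))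

theorem m_g7_ok : Net.ok 12 m_g7 = true := by decide +kernel

noncomputable def m_g8 : Net := (Net.cons (nat_lit 1) (nat_lit 260) (Net.cons (nat_lit 2) (nat_lit 256) (Net.cons (nat_lit 4) (nat_lit 12) (Net.cons (nat_lit 8) (nat_lit 12) (Net.cons (nat_lit 4) (nat_lit 12) (Net.cons (nat_lit 2) (nat_lit 514) (Net.cons (nat_lit 1) (nat_lit 1092) Net.nil)))))))

theorem m_g8_ok : Net.ok 12 m_g8 = true := by decide +kernel

noncomputable def m_O : List Net := [m_g1, m_g2, m_g3, m_g4, m_g5, m_g6, m_g7, m_g8]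

theorem m_O_ok : okE 12 m_O = true := (okE_cons.2 ⟨m_g1_ok, (okE_cons.2 ⟨m_g2_ok, (okE_cons.2 ⟨m_g3_ok, (okE_cons.2 ⟨m_g4_ok, (okE_cons.2 ⟨m_g5_ok, (okE_cons.2 ⟨m_g6_ok, (okE_cons.2 ⟨m_g7_ok, (okE_cons.2 ⟨m_g8_ok, (okE_nil 12)⟩)⟩)⟩)⟩)⟩)⟩)⟩)⟩)

noncomputable def m_g9 : Net := (Net.cons (nat_lit 1) (nat_lit 1028) (Net.cons (nat_lit 4) (nat_lit 8) (Net.cons (nat_lit 8) (nat_lit 8) (Net.cons (nat_lit 4) (nat_lit 9) (Net.cons (nat_lit 2) (nat_lit 513) (Net.cons (nat_lit 1) (nat_lit 1300) Net.nil))))))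

theorem m_g9_ok : Net.ok 12 m_g9 = true := by decide +kernel

noncomputable def m_V10 : List Net := [m_g9]

theorem m_V10_ok : okE 12 m_V10 = true := (okE_cons.2 ⟨m_g9_ok, (okE_nil 12)⟩)

noncomputable def m_g12 : Net := (Net.cons (nat_lit 1) (nat_lit 4) (Net.cons (nat_lit 4) (nat_lit 2) (Net.cons (nat_lit 8) (nat_lit 2) (Net.cons (nat_lit 4) (nat_lit 6) (Net.cons (nat_lit 2) (nat_lit 786) (Net.cons (nat_lit 1) (nat_lit 1044) Net.nil))))))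

theorem m_g12_ok : Net.ok 12 m_g12 = true := by decide +kernel

noncomputable def m_g13 : Net := (Net.cons (nat_lit 1) (nat_lit 1280) (Net.cons (nat_lit 2) (nat_lit 512) (Net.cons (nat_lit 4) (nat_lit 12) (Net.cons (nat_lit 8) (nat_lit 12) (Net.cons (nat_lit 4) (nat_lit 12) (Net.cons (nat_lit 2) (nat_lit 258) (Net.cons (nat_lit 1) (nat_lit 64) Net.nil)))))))

theorem m_g13_ok : Net.ok 12 m_g13 = true := by decide +kernel

noncomputable def m_V14 : List Net := [m_g12, m_g13]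

theorem m_V14_ok : okE 12 m_V14 = true := (okE_cons.2 ⟨m_g12_ok, (okE_cons.2 ⟨m_g13_ok, (okE_nil 12)⟩)⟩)

noncomputable def m_V16 : List Net := [m_g12]

theorem m_V16_ok : okE 12 m_V16 = true := (okE_cons.2 ⟨m_g12_ok, (okE_nil 12)⟩)

noncomputable def m_g18 : Net := (Net.cons (nat_lit 1) (nat_lit 1344) (Net.cons (nat_lit 2) (nat_lit 304) (Net.cons (nat_lit 4) (nat_lit 1) (Net.cons (nat_lit 8) (nat_lit 3) (Net.cons (nat_lit 4) (nat_lit 7) (Net.cons (nat_lit 2) (nat_lit 546) (Net.cons (nat_lit 1) (nat_lit 1024) Net.nil)))))))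

theorem m_g18_ok : Net.ok 12 m_g18 = true := by decide +kernel

noncomputable def m_V19 : List Net := [m_g13, m_g18]

theorem m_V19_ok : okE 12 m_V19 = true := (okE_cons.2 ⟨m_g13_ok, (okE_cons.2 ⟨m_g18_ok, (okE_nil 12)⟩)⟩)

noncomputable def m_V21 : List Net := [m_g13]

theorem m_V21_ok : okE 12 m_V21 = true := (okE_cons.2 ⟨m_g13_ok, (okE_nil 12)⟩)

noncomputable def m_g23 : Net := (Net.cons (nat_lit 1) (nat_lit 1088) (Net.cons (nat_lit 2) (nat_lit 48) (Net.cons (nat_lit 8) (nat_lit 6) (Net.cons (nat_lit 4) (nat_lit 6) (Net.cons (nat_lit 2) (nat_lit 304) (Net.cons (nat_lit 1) (nat_lit 1024) Net.nil))))))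

theorem m_g23_ok : Net.ok 12 m_g23 = true := by decide +kernel

noncomputable def m_g24 : Net := (Net.cons (nat_lit 1) (nat_lit 260) (Net.cons (nat_lit 2) (nat_lit 256) (Net.cons (nat_lit 8) (nat_lit 6) (Net.cons (nat_lit 4) (nat_lit 12) (Net.cons (nat_lit 2) (nat_lit 274) (Net.cons (nat_lit 1) (nat_lit 68) Net.nil))))))

theorem m_g24_ok : Net.ok 12 m_g24 = true := by decide +kernel

noncomputable def m_V25 : List Net := [m_g23, m_g24]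

theorem m_V25_ok : okE 12 m_V25 = true := (okE_cons.2 ⟨m_g23_ok, (okE_cons.2 ⟨m_g24_ok, (okE_nil 12)⟩)⟩)

noncomputable def m_g27 : Net := (Net.cons (nat_lit 4) (nat_lit 1) (Net.cons (nat_lit 8) (nat_lit 1) (Net.cons (nat_lit 4) (nat_lit 5) (Net.cons (nat_lit 2) (nat_lit 512) (Net.cons (nat_lit 1) (nat_lit 324) Net.nil)))))

theorem m_g27_ok : Net.ok 12 m_g27 = true := by decide +kernel

noncomputable def m_V28 : List Net := [m_g27]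

theorem m_V28_ok : okE 12 m_V28 = true := (okE_cons.2 ⟨m_g27_ok, (okE_nil 12)⟩)

noncomputable def m_g30 : Net := (Net.cons (nat_lit 1) (nat_lit 1024) (Net.cons (nat_lit 2) (nat_lit 304) (Net.cons (nat_lit 4) (nat_lit 1) (Net.cons (nat_lit 8) (nat_lit 5) (Net.cons (nat_lit 4) (nat_lit 3) (Net.cons (nat_lit 2) (nat_lit 34) (Net.cons (nat_lit 1) (nat_lit 1092) Net.nil)))))))

theorem m_g30_ok : Net.ok 12 m_g30 = true := by decide +kernel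

noncomputable def m_g31 : Net := (Net.cons (nat_lit 1) (nat_lit 1364) (Net.cons (nat_lit 2) (nat_lit 544) (Net.cons (nat_lit 8) (nat_lit 12) (Net.cons (nat_lit 4) (nat_lit 12) (Net.cons (nat_lit 2) (nat_lit 546) (Net.cons (nat_lit 1) (nat_lit 1300) Net.nil))))))

theorem m_g31_ok : Net.ok 12 m_g31 = true := by decide +kernel

noncomputable def m_V32 : List Net := [m_g30, m_g31]

theorem m_V32_ok : okE 12 m_V32 = true := (okE_cons.2 ⟨m_g30_ok, (okE_cons.2 ⟨m_g31_ok, (okE_nil 12)⟩)⟩)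

noncomputable def m_g34 : Net := (Net.cons (nat_lit 1) (nat_lit 1344) (Net.cons (nat_lit 2) (nat_lit 528) (Net.cons (nat_lit 4) (nat_lit 4) (Net.cons (nat_lit 8) (nat_lit 12) (Net.cons (nat_lit 4) (nat_lit 8) (Net.cons (nat_lit 2) (nat_lit 514) (Net.cons (nat_lit 1) (nat_lit 1344) Net.nil)))))))

theorem m_g34_ok : Net.ok 12 m_g34 = true := by decide +kernel

noncomputable def m_g35 : Net := (Net.cons (nat_lit 1) (nat_lit 256) (Net.cons (nat_lit 2) (nat_lit 560) (Net.cons (nat_lit 4) (nat_lit 2) (Net.cons (nat_lit 8) (nat_lit 2) (Net.cons (nat_lit 4) (nat_lit 4) (Net.cons (nat_lit 2) (nat_lit 32) (Net.cons (nat_lit 1) (nat_lit 260) Net.nil)))))))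

theorem m_g35_ok : Net.ok 12 m_g35 = true := by decide +kernel

noncomputable def m_V36 : List Net := [m_g34, m_g35]

theorem m_V36_ok : okE 12 m_V36 = true := (okE_cons.2 ⟨m_g34_ok, (okE_cons.2 ⟨m_g35_ok, (okE_nil 12)⟩)⟩)

noncomputable def m_E5 : List Net := []

theorem m_E5_ok : okE 12 m_E5 = true := (okE_nil 12)

noncomputable def m_G4 : List Net := [m_g34, m_g35]

theorem m_G4_ok : okE 12 m_G4 = true := (okE_cons.2 ⟨m_g34_ok, (okE_cons.2 ⟨m_g35_ok, (okE_nil 12)⟩)⟩)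

noncomputable def m_E4 : List Net := [m_g34, m_g35, m_g30, m_g31]

theorem m_E4_ok : okE 12 m_E4 = true := (okE_cons.2 ⟨m_g34_ok, (okE_cons.2 ⟨m_g35_ok, (okE_cons.2 ⟨m_g30_ok, (okE_cons.2 ⟨m_g31_ok, (okE_nil 12)⟩)⟩)⟩)⟩)

noncomputable def m_G3 : List Net := [m_g27, m_g34, m_g35, m_g30, m_g31]

theorem m_G3_ok : okE 12 m_G3 = true := (okE_cons.2 ⟨m_g27_ok, (okE_cons.2 ⟨m_g34_ok, (okE_cons.2 ⟨m_g35_ok, (okE_cons.2 ⟨m_g30_ok, (okE_cons.2 ⟨m_g31_ok, (okE_nil 12)⟩)⟩)⟩)⟩)⟩)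

noncomputable def m_E3 : List Net := [m_g27, m_g23, m_g24, m_g34, m_g35, m_g30, m_g31]

theorem m_E3_ok : okE 12 m_E3 = true := (okE_cons.2 ⟨m_g27_ok, (okE_cons.2 ⟨m_g23_ok, (okE_cons.2 ⟨m_g24_ok, (okE_cons.2 ⟨m_g34_ok, (okE_cons.2 ⟨m_g35_ok, (okE_cons.2 ⟨m_g30_ok, (okE_cons.2 ⟨m_g31_ok, (okE_nil 12)⟩)⟩)⟩)⟩)⟩)⟩)⟩)

noncomputable def m_G2 : List Net := [m_g13, m_g27, m_g23, m_g24, m_g34, m_g35, m_g30, m_g31]

theorem m_G2_ok : okE 12 m_G2 = true := (okE_cons.2 ⟨m_g13_ok, (okE_cons.2 ⟨m_g27_ok, (okE_cons.2 ⟨m_g23_ok, (okE_cons.2 ⟨m_g24_ok, (okE_cons.2 ⟨m_g34_ok, (okE_cons.2 ⟨m_g35_ok, (okE_cons.2 ⟨m_g30_ok, (okE_cons.2 ⟨m_g31_ok, (okE_nil 12)⟩)⟩)⟩)⟩)⟩)⟩)⟩)⟩)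

noncomputable def m_E2 : List Net := [m_g13, m_g18, m_g27, m_g23, m_g24, m_g34, m_g35, m_g30, m_g31]

theorem m_E2_ok : okE 12 m_E2 = true := (okE_cons.2 ⟨m_g13_ok, (okE_cons.2 ⟨m_g18_ok, (okE_cons.2 ⟨m_g27_ok, (okE_cons.2 ⟨m_g23_ok, (okE_cons.2 ⟨m_g24_ok, (okE_cons.2 ⟨m_g34_ok, (okE_cons.2 ⟨m_g35_ok, (okE_cons.2 ⟨m_g30_ok, (okE_cons.2 ⟨m_g31_ok, (okE_nil 12)⟩)⟩)⟩)⟩)⟩)⟩)⟩)⟩)⟩)

noncomputable def m_G1 : List Net := [m_g12, m_g13, m_g18, m_g27, m_g23, m_g24, m_g34, m_g35, m_g30, m_g31]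

theorem m_G1_ok : okE 12 m_G1 = true := (okE_cons.2 ⟨m_g12_ok, (okE_cons.2 ⟨m_g13_ok, (okE_cons.2 ⟨m_g18_ok, (okE_cons.2 ⟨m_g27_ok, (okE_cons.2 ⟨m_g23_ok, (okE_cons.2 ⟨m_g24_ok, (okE_cons.2 ⟨m_g34_ok, (okE_cons.2 ⟨m_g35_ok, (okE_cons.2 ⟨m_g30_ok, (okE_cons.2 ⟨m_g31_ok, (okE_nil 12)⟩)⟩)⟩)⟩)⟩)⟩)⟩)⟩)⟩)⟩)

noncomputable def m_E1 : List Net := [m_g12, m_g13, m_g18, m_g27, m_g23, m_g24, m_g34, m_g35, m_g30, m_g31]

theorem m_E1_ok : okE 12 m_E1 = true := (okE_cons.2 ⟨m_g12_ok, (okE_cons.2 ⟨m_g13_ok, (okE_cons.2 ⟨m_g18_ok, (okE_cons.2 ⟨m_g27_ok, (okE_cons.2 ⟨m_g23_ok, (okE_cons.2 ⟨m_g24_ok, (okE_cons.2 ⟨m_g34_ok, (okE_cons.2 ⟨m_g35_ok, (okE_cons.2 ⟨m_g30_ok, (okE_cons.2 ⟨m_g31_ok, (okE_nil 12)⟩)⟩)⟩)⟩)⟩)⟩)⟩)⟩)⟩)⟩)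

noncomputable def m_G0 : List Net := [m_g9, m_g12, m_g13, m_g18, m_g27, m_g23, m_g24, m_g34, m_g35, m_g30, m_g31]

theorem m_G0_ok : okE 12 m_G0 = true := (okE_cons.2 ⟨m_g9_ok, (okE_cons.2 ⟨m_g12_ok, (okE_cons.2 ⟨m_g13_ok, (okE_cons.2 ⟨m_g18_ok, (okE_cons.2 ⟨m_g27_ok, (okE_cons.2 ⟨m_g23_ok, (okE_cons.2 ⟨m_g24_ok, (okE_cons.2 ⟨m_g34_ok, (okE_cons.2 ⟨m_g35_ok, (okE_cons.2 ⟨m_g30_ok, (okE_cons.2 ⟨m_g31_ok, (okE_nil 12)⟩)⟩)⟩)⟩)⟩)⟩)⟩)⟩)⟩)⟩)⟩)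

noncomputable def m_E0 : List Net := [m_g9, m_g1, m_g2, m_g3, m_g4, m_g5, m_g6, m_g7, m_g8, m_g12, m_g13, m_g18, m_g27, m_g23, m_g24, m_g34, m_g35, m_g30, m_g31]

theorem m_E0_ok : okE 12 m_E0 = true := (okE_cons.2 ⟨m_g9_ok, (okE_cons.2 ⟨m_g1_ok, (okE_cons.2 ⟨m_g2_ok, (okE_cons.2 ⟨m_g3_ok, (okE_cons.2 ⟨m_g4_ok, (okE_cons.2 ⟨m_g5_ok, (okE_cons.2 ⟨m_g6_ok, (okE_cons.2 ⟨m_g7_ok, (okE_cons.2 ⟨m_g8_ok, (okE_cons.2 ⟨m_g12_ok, (okE_cons.2 ⟨m_g13_ok, (okE_cons.2 ⟨m_g18_ok, (okE_cons.2 ⟨m_g27_ok, (okE_cons.2 ⟨m_g23_ok, (okE_cons.2 ⟨m_g24_ok, (okE_cons.2 ⟨m_g34_ok, (okE_cons.2 ⟨m_g35_ok, (okE_cons.2 ⟨m_g30_ok, (okE_cons.2 ⟨m_g31_ok, (okE_nil 12)⟩)⟩)⟩)⟩)⟩)⟩)⟩)⟩)⟩)⟩)⟩)⟩)⟩)⟩)⟩)⟩)⟩)⟩)⟩)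

noncomputable def k_O : List Net := [m_g1, m_g2, m_g3, m_g4, m_g5, m_g6, m_g7]

theorem k_O_ok : okE 12 k_O = true := (okE_cons.2 ⟨m_g1_ok, (okE_cons.2 ⟨m_g2_ok, (okE_cons.2 ⟨m_g3_ok, (okE_cons.2 ⟨m_g4_ok, (okE_cons.2 ⟨m_g5_ok, (okE_cons.2 ⟨m_g6_ok, (okE_cons.2 ⟨m_g7_ok, (okE_nil 12)⟩)⟩)⟩)⟩)⟩)⟩)⟩)

noncomputable def m_g49 : Net := (Net.cons (nat_lit 1) (nat_lit 276) (Net.cons (nat_lit 2) (nat_lit 256) (Net.cons (nat_lit 4) (nat_lit 10) (Net.cons (nat_lit 8) (nat_lit 11) (Net.cons (nat_lit 4) (nat_lit 11) (Net.cons (nat_lit 2) (nat_lit 561) (Net.cons (nat_lit 1) (nat_lit 1108) Net.nil)))))))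

theorem m_g49_ok : Net.ok 12 m_g49 = true := by decide +kernel

noncomputable def m_V50 : List Net := [m_g49]

theorem m_V50_ok : okE 12 m_V50 = true := (okE_cons.2 ⟨m_g49_ok, (okE_nil 12)⟩)

noncomputable def m_g52 : Net := (Net.cons (nat_lit 1) (nat_lit 16) (Net.cons (nat_lit 4) (nat_lit 6) (Net.cons (nat_lit 8) (nat_lit 6) (Net.cons (nat_lit 4) (nat_lit 14) (Net.cons (nat_lit 2) (nat_lit 512) (Net.cons (nat_lit 1) (nat_lit 64) Net.nil))))))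

theorem m_g52_ok : Net.ok 12 m_g52 = true := by decide +kernel

noncomputable def m_g53 : Net := (Net.cons (nat_lit 1) (nat_lit 1296) (Net.cons (nat_lit 2) (nat_lit 32) (Net.cons (nat_lit 4) (nat_lit 6) (Net.cons (nat_lit 8) (nat_lit 6) (Net.cons (nat_lit 4) (nat_lit 14) (Net.cons (nat_lit 2) (nat_lit 802) (Net.cons (nat_lit 1) (nat_lit 1296) Net.nil)))))))

theorem m_g53_ok : Net.ok 12 m_g53 = true := by decide +kernel

noncomputable def m_V54 : List Net := [m_g52, m_g53]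

theorem m_V54_ok : okE 12 m_V54 = true := (okE_cons.2 ⟨m_g52_ok, (okE_cons.2 ⟨m_g53_ok, (okE_nil 12)⟩)⟩)

noncomputable def m_g56 : Net := (Net.cons (nat_lit 1) (nat_lit 1284) (Net.cons (nat_lit 2) (nat_lit 16) (Net.cons (nat_lit 4) (nat_lit 8) (Net.cons (nat_lit 8) (nat_lit 10) (Net.cons (nat_lit 4) (nat_lit 14) (Net.cons (nat_lit 2) (nat_lit 256) (Net.cons (nat_lit 1) (nat_lit 1044) Net.nil)))))))

theorem m_g56_ok : Net.ok 12 m_g56 = true := by decide +kernel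

noncomputable def m_V57 : List Net := [m_g56]

theorem m_V57_ok : okE 12 m_V57 = true := (okE_cons.2 ⟨m_g56_ok, (okE_nil 12)⟩)

noncomputable def m_g59 : Net := (Net.cons (nat_lit 1) (nat_lit 1104) (Net.cons (nat_lit 2) (nat_lit 256) (Net.cons (nat_lit 4) (nat_lit 1) (Net.cons (nat_lit 8) (nat_lit 3) (Net.cons (nat_lit 4) (nat_lit 9) (Net.cons (nat_lit 2) (nat_lit 274) (Net.cons (nat_lit 1) (nat_lit 1088) Net.nil)))))))

theorem m_g59_ok : Net.ok 12 m_g59 = true := by decide +kernel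

noncomputable def m_V60 : List Net := [m_g52, m_g59]

theorem m_V60_ok : okE 12 m_V60 = true := (okE_cons.2 ⟨m_g52_ok, (okE_cons.2 ⟨m_g59_ok, (okE_nil 12)⟩)⟩)

noncomputable def m_g62 : Net := (Net.cons (nat_lit 1) (nat_lit 1040) (Net.cons (nat_lit 2) (nat_lit 256) (Net.cons (nat_lit 4) (nat_lit 3) (Net.cons (nat_lit 8) (nat_lit 11) (Net.cons (nat_lit 4) (nat_lit 3) (Net.cons (nat_lit 2) (nat_lit 256) (Net.cons (nat_lit 1) (nat_lit 1104) Net.nil)))))))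

theorem m_g62_ok : Net.ok 12 m_g62 = true := by decide +kernel

noncomputable def m_V63 : List Net := [m_g62]

theorem m_V63_ok : okE 12 m_V63 = true := (okE_cons.2 ⟨m_g62_ok, (okE_nil 12)⟩)

noncomputable def m_g65 : Net := (Net.cons (nat_lit 1) (nat_lit 1024) (Net.cons (nat_lit 4) (nat_lit 6) (Net.cons (nat_lit 8) (nat_lit 14) (Net.cons (nat_lit 4) (nat_lit 14) (Net.cons (nat_lit 2) (nat_lit 546) Net.nil)))))

theorem m_g65_ok : Net.ok 12 m_g65 = true := by decide +kernel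

noncomputable def m_g66 : Net := (Net.cons (nat_lit 1) (nat_lit 1088) (Net.cons (nat_lit 2) (nat_lit 544) (Net.cons (nat_lit 4) (nat_lit 6) (Net.cons (nat_lit 8) (nat_lit 14) (Net.cons (nat_lit 4) (nat_lit 12) (Net.cons (nat_lit 2) (nat_lit 34) (Net.cons (nat_lit 1) (nat_lit 64) Net.nil)))))))

theorem m_g66_ok : Net.ok 12 m_g66 = true := by decide +kernel

noncomputable def m_V67 : List Net := [m_g65, m_g66]

theorem m_V67_ok : okE 12 m_V67 = true := (okE_cons.2 ⟨m_g65_ok, (okE_cons.2 ⟨m_g66_ok, (okE_nil 12)⟩)⟩)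

noncomputable def m_V69 : List Net := [m_g66, m_g65]

theorem m_V69_ok : okE 12 m_V69 = true := (okE_cons.2 ⟨m_g66_ok, (okE_cons.2 ⟨m_g65_ok, (okE_nil 12)⟩)⟩)

noncomputable def k_E4 : List Net := []

theorem k_E4_ok : okE 12 k_E4 = true := (okE_nil 12)

noncomputable def k_G3 : List Net := [m_g66, m_g65]

theorem k_G3_ok : okE 12 k_G3 = true := (okE_cons.2 ⟨m_g66_ok, (okE_cons.2 ⟨m_g65_ok, (okE_nil 12)⟩)⟩)

noncomputable def k_E3 : List Net := [m_g66, m_g65]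

theorem k_E3_ok : okE 12 k_E3 = true := (okE_cons.2 ⟨m_g66_ok, (okE_cons.2 ⟨m_g65_ok, (okE_nil 12)⟩)⟩)

noncomputable def k_G2 : List Net := [m_g62, m_g66, m_g65]

theorem k_G2_ok : okE 12 k_G2 = true := (okE_cons.2 ⟨m_g62_ok, (okE_cons.2 ⟨m_g66_ok, (okE_cons.2 ⟨m_g65_ok, (okE_nil 12)⟩)⟩)⟩)

noncomputable def k_E2 : List Net := [m_g62, m_g52, m_g59, m_g66, m_g65]

theorem k_E2_ok : okE 12 k_E2 = true := (okE_cons.2 ⟨m_g62_ok, (okE_cons.2 ⟨m_g52_ok, (okE_cons.2 ⟨m_g59_ok, (okE_cons.2 ⟨m_g66_ok, (okE_cons.2 ⟨m_g65_ok, (okE_nil 12)⟩)⟩)⟩)⟩)⟩)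

noncomputable def k_G1 : List Net := [m_g56, m_g62, m_g52, m_g59, m_g66, m_g65]

theorem k_G1_ok : okE 12 k_G1 = true := (okE_cons.2 ⟨m_g56_ok, (okE_cons.2 ⟨m_g62_ok, (okE_cons.2 ⟨m_g52_ok, (okE_cons.2 ⟨m_g59_ok, (okE_cons.2 ⟨m_g66_ok, (okE_cons.2 ⟨m_g65_ok, (okE_nil 12)⟩)⟩)⟩)⟩)⟩)⟩)

noncomputable def k_E1 : List Net := [m_g56, m_g53, m_g62, m_g52, m_g59, m_g66, m_g65]

theorem k_E1_ok : okE 12 k_E1 = true := (okE_cons.2 ⟨m_g56_ok, (okE_cons.2 ⟨m_g53_ok, (okE_cons.2 ⟨m_g62_ok, (okE_cons.2 ⟨m_g52_ok, (okE_cons.2 ⟨m_g59_ok, (okE_cons.2 ⟨m_g66_ok, (okE_cons.2 ⟨m_g65_ok, (okE_nil 12)⟩)⟩)⟩)⟩)⟩)⟩)⟩)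

noncomputable def k_G0 : List Net := [m_g49, m_g56, m_g53, m_g62, m_g52, m_g59, m_g66, m_g65]

theorem k_G0_ok : okE 12 k_G0 = true := (okE_cons.2 ⟨m_g49_ok, (okE_cons.2 ⟨m_g56_ok, (okE_cons.2 ⟨m_g53_ok, (okE_cons.2 ⟨m_g62_ok, (okE_cons.2 ⟨m_g52_ok, (okE_cons.2 ⟨m_g59_ok, (okE_cons.2 ⟨m_g66_ok, (okE_cons.2 ⟨m_g65_ok, (okE_nil 12)⟩)⟩)⟩)⟩)⟩)⟩)⟩)⟩)

noncomputable def k_E0 : List Net := [m_g49, m_g1, m_g2, m_g3, m_g4, m_g5, m_g6, m_g7, m_g56, m_g53, m_g62, m_g52, m_g59, m_g66, m_g65]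

theorem k_E0_ok : okE 12 k_E0 = true := (okE_cons.2 ⟨m_g49_ok, (okE_cons.2 ⟨m_g1_ok, (okE_cons.2 ⟨m_g2_ok, (okE_cons.2 ⟨m_g3_ok, (okE_cons.2 ⟨m_g4_ok, (okE_cons.2 ⟨m_g5_ok, (okE_cons.2 ⟨m_g6_ok, (okE_cons.2 ⟨m_g7_ok, (okE_cons.2 ⟨m_g56_ok, (okE_cons.2 ⟨m_g53_ok, (okE_cons.2 ⟨m_g62_ok, (okE_cons.2 ⟨m_g52_ok, (okE_cons.2 ⟨m_g59_ok, (okE_cons.2 ⟨m_g66_ok, (okE_cons.2 ⟨m_g65_ok, (okE_nil 12)⟩)⟩)⟩)⟩)⟩)⟩)⟩)⟩)⟩)⟩)⟩)⟩)⟩)⟩)⟩)

theorem m_le11 : grp 12 m_V10 ≤ grp 12 m_O :=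
  grp_le_of_memB m_hn m_hk m_O_ok m_V10_ok (ws := [nat_lit 2818]) (by decide +kernel)

theorem m_le15 : grp 12 m_V14 ≤ grp 12 m_O :=
  grp_le_of_memB m_hn m_hk m_O_ok m_V14_ok (ws := [nat_lit 0x10040d100e030e0a100e, nat_lit 0xc070e0707090c]) (by decide +kernel)

theorem m_le17 : grp 12 m_V16 ≤ grp 12 m_V14 :=
  grp_le_of_memB m_hn m_hk m_V14_ok m_V16_ok (ws := [nat_lit 1]) (by decide +kernel)

theorem m_le20 : grp 12 m_V19 ≤ grp 12 m_V14 :=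
  grp_le_of_memB m_hn m_hk m_V14_ok m_V19_ok (ws := [nat_lit 0x401040402, nat_lit 0x40204040402020401]) (by decide +kernel)

theorem m_le22 : grp 12 m_V21 ≤ grp 12 m_V19 :=
  grp_le_of_memB m_hn m_hk m_V19_ok m_V21_ok (ws := [nat_lit 1]) (by decide +kernel)

theorem m_le26 : grp 12 m_V25 ≤ grp 12 m_V19 :=
  grp_le_of_memB m_hn m_hk m_V19_ok m_V25_ok (ws := [nat_lit 0x1010302, nat_lit 0x101040203020203]) (by decide +kernel)

theorem m_le29 : grp 12 m_V28 ≤ grp 12 m_V25 :=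
  grp_le_of_memB m_hn m_hk m_V25_ok m_V28_ok (ws := [nat_lit 770]) (by decide +kernel)

theorem m_le33 : grp 12 m_V32 ≤ grp 12 m_V25 :=
  grp_le_of_memB m_hn m_hk m_V25_ok m_V32_ok (ws := [nat_lit 0x204040204040104, nat_lit 0x302040104]) (by decide +kernel)

theorem m_le37 : grp 12 m_V36 ≤ grp 12 m_V32 :=
  grp_le_of_memB m_hn m_hk m_V32_ok m_V36_ok (ws := [nat_lit 2, nat_lit 259]) (by decide +kernel)

theorem m_card5 : Nat.card (grp 12 m_E5) = 1 :=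
  card_grp_nil 12

theorem m_leO5 : grp 12 m_E5 ≤ grp 12 m_O :=
  grp_nil_le _

theorem m_4_fix : grp 12 m_E5 ≤ MulAction.stabilizer (Equiv.Perm (Fin 12)) (⟨11, by decide⟩ : Fin 12) :=
  grp_le_stab m_E5_ok (by decide : 11 < 12) (by decide +kernel)

noncomputable def m_4_ts : List ℕ := [nat_lit 0, nat_lit 1, nat_lit 2, nat_lit 3, nat_lit 4, nat_lit 257, nat_lit 259, nat_lit 260]

noncomputable def m_4_ds : List ℕ := [nat_lit 11, nat_lit 2, nat_lit 4, nat_lit 1, nat_lit 8, nat_lit 7, nat_lit 6, nat_lit 3]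

theorem m_4_dist : Dist 12 m_E5 m_G4 (⟨11, by decide⟩ : Fin 12) m_4_ts m_4_ds :=
  dist_of_distB (k := 3) m_hn m_E5_ok m_G4_ok (by decide : 11 < 12) (by decide +kernel)

noncomputable def m_4_sl0 : SL := (SL.cons (nat_lit 1) (nat_lit 2) Ch.nil [] (SL.cons (nat_lit 2) (nat_lit 4) Ch.nil [] (SL.cons (nat_lit 3) (nat_lit 1) Ch.nil [] (SL.cons (nat_lit 4) (nat_lit 8) Ch.nil [] (SL.cons (nat_lit 257) (nat_lit 7) Ch.nil [] (SL.cons (nat_lit 259) (nat_lit 6) Ch.nil [] (SL.cons (nat_lit 260) (nat_lit 3) Ch.nil [] SL.nil)))))))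

theorem m_4_sc0 : SCs 12 m_E5 m_G4 (⟨11, by decide⟩ : Fin 12) (SL.words m_4_sl0) :=
  scs_of_ok m_hn (det_lab m_hk ⊤) m_E5_ok m_G4_ok le_top le_top (by decide : 11 < 12) m_4_fix m_card5.le (by decide +kernel)

noncomputable def m_4_l : List ℕ := (appL (SL.words m_4_sl0) [])

theorem m_4_scs : SCs 12 m_E5 m_G4 (⟨11, by decide⟩ : Fin 12) m_4_l :=
  (SCs.append m_4_sc0 SCs.nil)

noncomputable def m_4_rl0_0 : RL := (RL.cons (nat_lit 0) (nat_lit 11) (nat_lit 0) (nat_lit 0) (nat_lit 2) (nat_lit 0) (RL.cons (nat_lit 1) (nat_lit 2) (nat_lit 0) (nat_lit 0) (nat_lit 0) (nat_lit 0) (RL.cons (nat_lit 2) (nat_lit 4) (nat_lit 0) (nat_lit 0) (nat_lit 5) (nat_lit 0) (RL.cons (nat_lit 3) (nat_lit 1) (nat_lit 0) (nat_lit 0) (nat_lit 6) (nat_lit 0) (RL.cons (nat_lit 4) (nat_lit 8) (nat_lit 0) (nat_lit 0) (nat_lit 7) (nat_lit 0) (RL.cons (nat_lit 5) (nat_lit 7) (nat_lit 0) (nat_lit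 0) (nat_lit 1) (nat_lit 0) (RL.cons (nat_lit 6) (nat_lit 6) (nat_lit 0) (nat_lit 0) (nat_lit 4) (nat_lit 0) (RL.cons (nat_lit 7) (nat_lit 3) (nat_lit 0) (nat_lit 0) (nat_lit 3) (nat_lit 0) RL.nil))))))))

theorem m_4_good0_0 : GoodSet 12 m_E5 m_G4 (⟨11, by decide⟩ : Fin 12) m_4_ts (nat_lit 1) (RL.pts m_4_rl0_0) :=
  goodSet_of_ok m_hn (det_lab m_hk ⊤) m_E5_ok m_G4_ok le_top le_top (by decide : 11 < 12) (sepAt_lab m_hk _) (by decide +kernel)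

theorem m_4_step0 : Step 12 m_E5 m_G4 m_4_ts (2 * 0 + 1) :=
  step_of_cover m_E5_ok m_4_dist (by decide +kernel) m_4_scs (by decide +kernel) m_4_good0_0 (kw := [])
    (conj_mem_of_scs m_E5_ok m_G4_ok (by decide : 11 < 12) m_4_scs (c := 0) (d := 2) (by decide +kernel)) (by decide +kernel)

noncomputable def m_4_rl1_0 : RL := (RL.cons (nat_lit 0) (nat_lit 11) (nat_lit 0) (nat_lit 0) (nat_lit 4) (nat_lit 0) (RL.cons (nat_lit 1) (nat_lit 2) (nat_lit 0) (nat_lit 0) (nat_lit 7) (nat_lit 0) (RL.cons (nat_lit 2) (nat_lit 4) (nat_lit 0) (nat_lit 0) (nat_lit 6) (nat_lit 0) (RL.cons (nat_lit 3) (nat_lit 1) (nat_lit 0) (nat_lit 0) (nat_lit 0) (nat_lit 0) (RL.cons (nat_lit 4) (nat_lit 8) (nat_lit 0) (nat_lit 0) (nat_lit 5) (nat_lit 0) (RL.cons (nat_lit 5) (nat_lit 7) (nat_lit 0) (nat_lit 0) (nat_lit 3) (nat_lit 0) (RL.cons (nat_lit 6) (nat_lit 6) (nat_lit 0) (nat_lit 0)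 (nat_lit 1) (nat_lit 0) (RL.cons (nat_lit 7) (nat_lit 3) (nat_lit 0) (nat_lit 0) (nat_lit 2) (nat_lit 0) RL.nil))))))))

theorem m_4_good1_0 : GoodSet 12 m_E5 m_G4 (⟨11, by decide⟩ : Fin 12) m_4_ts (nat_lit 3) (RL.pts m_4_rl1_0) :=
  goodSet_of_ok m_hn (det_lab m_hk ⊤) m_E5_ok m_G4_ok le_top le_top (by decide : 11 < 12) (sepAt_lab m_hk _) (by decide +kernel)

theorem m_4_step1 : Step 12 m_E5 m_G4 m_4_ts (2 * 1 + 1) :=
  step_of_cover m_E5_ok m_4_dist (by decide +kernel) m_4_scs (by decide +kernel) m_4_good1_0 (kw := [])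
    (conj_mem_of_scs m_E5_ok m_G4_ok (by decide : 11 < 12) m_4_scs (c := 2) (d := 1) (by decide +kernel)) (by decide +kernel)

theorem m_4_lev : grp 12 m_G4 ⊓ MulAction.stabilizer (Equiv.Perm (Fin 12)) (⟨11, by decide⟩ : Fin 12) = grp 12 m_E5 :=
  sims_level (gs := m_V36) rfl (by decide) m_4_fix m_4_dist (forall_lt_succ' (forall_lt_one m_4_step0) m_4_step1)

theorem m_4_cardG : Nat.card (grp 12 m_G4) = 8 :=
  card_of_level m_hn m_G4_ok (by decide : 11 < 12) m_4_lev m_card5 (m := 8) (by decide +kernel)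

theorem m_le38 : grp 12 m_E4 ≤ grp 12 m_G4 :=
  grp_le_of_memB m_hn m_hk m_G4_ok m_E4_ok (ws := [nat_lit 1, nat_lit 3, nat_lit 2, nat_lit 259]) (by decide +kernel)

theorem m_le39 : grp 12 m_G4 ≤ grp 12 m_E4 :=
  grp_le_of_memB m_hn m_hk m_E4_ok m_G4_ok (ws := [nat_lit 1, nat_lit 3]) (by decide +kernel)

theorem m_4_eq : grp 12 m_E4 = grp 12 m_G4 :=
  le_antisymm m_le38 m_le39

theorem m_card4 : Nat.card (grp 12 m_E4) = 8 :=
  by rw [m_4_eq]; exact m_4_cardG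

theorem m_stab4 : grp 12 m_E4 ⊓ MulAction.stabilizer (Equiv.Perm (Fin 12)) (⟨11, by decide⟩ : Fin 12) = grp 12 m_E5 :=
  by rw [m_4_eq]; exact m_4_lev

theorem m_leO4 : grp 12 m_E4 ≤ grp 12 m_O :=
  m_4_eq.le.trans (grp_cons_le ((m_le33.trans (m_le26.trans (m_le20.trans (m_le15.trans (le_refl (grp 12 m_O)))))) (m_le37 (toPerm_mem_grp (E := m_V36) (by simp [m_V36])))) (grp_cons_le ((m_le33.trans (m_le26.trans (m_le20.trans (m_le15.trans (le_refl (grp 12 m_O)))))) (m_le37 (toPerm_mem_grp (E := m_V36) (by simp [m_V36])))) m_leO5))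

theorem m_3_fix : grp 12 m_E4 ≤ MulAction.stabilizer (Equiv.Perm (Fin 12)) (⟨9, by decide⟩ : Fin 12) :=
  grp_le_stab m_E4_ok (by decide : 9 < 12) (by decide +kernel)

noncomputable def m_3_ts : List ℕ := [nat_lit 0, nat_lit 1]

noncomputable def m_3_ds : List ℕ := [nat_lit 9, nat_lit 11]

theorem m_3_dist : Dist 12 m_E4 m_G3 (⟨9, by decide⟩ : Fin 12) m_3_ts m_3_ds :=
  dist_of_distB (k := 1) m_hn m_E4_ok m_G3_ok (by decide : 9 < 12) (by decide +kernel)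

noncomputable def m_3_sl0 : SL := (SL.cons (nat_lit 1) (nat_lit 11) Ch.nil [] SL.nil)

theorem m_3_sc0 : SCs 12 m_E4 m_G3 (⟨9, by decide⟩ : Fin 12) (SL.words m_3_sl0) :=
  scs_of_ok m_hn (det_lab m_hk ⊤) m_E4_ok m_G3_ok le_top le_top (by decide : 9 < 12) m_3_fix m_card4.le (by decide +kernel)

noncomputable def m_3_l : List ℕ := (appL (SL.words m_3_sl0) [])

theorem m_3_scs : SCs 12 m_E4 m_G3 (⟨9, by decide⟩ : Fin 12) m_3_l :=
  (SCs.append m_3_sc0 SCs.nil)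

noncomputable def m_3_rl0_0 : RL := (RL.cons (nat_lit 0) (nat_lit 9) (nat_lit 0) (nat_lit 2) (nat_lit 1) (nat_lit 2) (RL.cons (nat_lit 1) (nat_lit 11) (nat_lit 0) (nat_lit 0) (nat_lit 0) (nat_lit 0) (RL.cons (nat_lit 1) (nat_lit 2) (nat_lit 1) (nat_lit 8) (nat_lit 1) (nat_lit 7) (RL.cons (nat_lit 1) (nat_lit 4) (nat_lit 2) (nat_lit 4) (nat_lit 1) (nat_lit 4) (RL.cons (nat_lit 1) (nat_lit 1) (nat_lit 3) (nat_lit 3) (nat_lit 1) (nat_lit 2) (RL.cons (nat_lit 1) (nat_lit 8) (nat_lit 4) (nat_lit 0) (nat_lit 1) (nat_lit 8) (RL.cons (nat_lit 1) (nat_lit 6) (nat_lit 7) (nat_lit 257) (nat_lit 1) (nat_lit 3) (RL.cons (nat_lit 1) (nat_lit 3) (nat_lit 8) (nat_lit 7) (nat_lit 1) (nat_lit 1) (RL.cons (nat_lit 1) (nat_lit 7) (nat_lit 257) (nat_lit 1) (nat_lit 1) (nat_lit 257) RL.nil)))))))))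

theorem m_3_good0_0 : GoodSet 12 m_E4 m_G3 (⟨9, by decide⟩ : Fin 12) m_3_ts (nat_lit 1) (RL.pts m_3_rl0_0) :=
  goodSet_of_ok m_hn (det_lab m_hk ⊤) m_E4_ok m_G3_ok le_top le_top (by decide : 9 < 12) (sepAt_lab m_hk _) (by decide +kernel)

theorem m_3_step0 : Step 12 m_E4 m_G3 m_3_ts (2 * 0 + 1) :=
  step_of_cover m_E4_ok m_3_dist (by decide +kernel) m_3_scs (by decide +kernel) m_3_good0_0 (kw := [])
    (conj_mem_of_scs m_E4_ok m_G3_ok (by decide : 9 < 12) m_3_scs (c := 0) (d := 11) (by decide +kernel)) (by decide +kernel)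

theorem m_3_lev : grp 12 m_G3 ⊓ MulAction.stabilizer (Equiv.Perm (Fin 12)) (⟨9, by decide⟩ : Fin 12) = grp 12 m_E4 :=
  sims_level (gs := m_V28) rfl (by decide) m_3_fix m_3_dist (forall_lt_one m_3_step0)

theorem m_3_cardG : Nat.card (grp 12 m_G3) = 72 :=
  card_of_level m_hn m_G3_ok (by decide : 9 < 12) m_3_lev m_card4 (m := 9) (by decide +kernel)

theorem m_le40 : grp 12 m_E3 ≤ grp 12 m_G3 :=
  grp_le_of_memB m_hn m_hk m_G3_ok m_E3_ok (ws := [nat_lit 1, nat_lit 393732, nat_lit 1538, nat_lit 3, nat_lit 5, nat_lit 7, nat_lit 9]) (by decide +kernel)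

theorem m_le41 : grp 12 m_G3 ≤ grp 12 m_E3 :=
  grp_le_of_memB m_hn m_hk m_E3_ok m_G3_ok (ws := [nat_lit 1, nat_lit 7, nat_lit 9, nat_lit 11, nat_lit 13]) (by decide +kernel)

theorem m_3_eq : grp 12 m_E3 = grp 12 m_G3 :=
  le_antisymm m_le40 m_le41

theorem m_card3 : Nat.card (grp 12 m_E3) = 72 :=
  by rw [m_3_eq]; exact m_3_cardG

theorem m_stab3 : grp 12 m_E3 ⊓ MulAction.stabilizer (Equiv.Perm (Fin 12)) (⟨9, by decide⟩ : Fin 12) = grp 12 m_E4 :=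
  by rw [m_3_eq]; exact m_3_lev

theorem m_leO3 : grp 12 m_E3 ≤ grp 12 m_O :=
  m_3_eq.le.trans (grp_cons_le ((m_le26.trans (m_le20.trans (m_le15.trans (le_refl (grp 12 m_O))))) (m_le29 (toPerm_mem_grp (E := m_V28) (by simp [m_V28])))) m_leO4)

theorem m_2_fix : grp 12 m_E3 ≤ MulAction.stabilizer (Equiv.Perm (Fin 12)) (⟨10, by decide⟩ : Fin 12) :=
  grp_le_stab m_E3_ok (by decide : 10 < 12) (by decide +kernel)

noncomputable def m_2_ts : List ℕ := [nat_lit 0, nat_lit 1]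

noncomputable def m_2_ds : List ℕ := [nat_lit 10, nat_lit 9]

theorem m_2_dist : Dist 12 m_E3 m_G2 (⟨10, by decide⟩ : Fin 12) m_2_ts m_2_ds :=
  dist_of_distB (k := 1) m_hn m_E3_ok m_G2_ok (by decide : 10 < 12) (by decide +kernel)

noncomputable def m_2_sl0 : SL := (SL.cons (nat_lit 1) (nat_lit 9) (Ch.cons (nat_lit 11) [nat_lit 7, nat_lit 9, nat_lit 11, nat_lit 13] Ch.nil) [nat_lit 8, nat_lit 13, nat_lit 7, nat_lit 9] SL.nil)

theorem m_2_sc0 : SCs 12 m_E3 m_G2 (⟨10, by decide⟩ : Fin 12) (SL.words m_2_sl0) :=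
  scs_of_ok m_hn (det_lab m_hk ⊤) m_E3_ok m_G2_ok le_top le_top (by decide : 10 < 12) m_2_fix m_card3.le (by decide +kernel)

noncomputable def m_2_l : List ℕ := (appL (SL.words m_2_sl0) [])

theorem m_2_scs : SCs 12 m_E3 m_G2 (⟨10, by decide⟩ : Fin 12) m_2_l :=
  (SCs.append m_2_sc0 SCs.nil)

noncomputable def m_2_rl0_0 : RL := (RL.cons (nat_lit 0) (nat_lit 10) (nat_lit 0) (nat_lit 0) (nat_lit 1) (nat_lit 0) (RL.cons (nat_lit 1) (nat_lit 9) (nat_lit 0) (nat_lit 0) (nat_lit 0) (nat_lit 0) (RL.cons (nat_lit 1) (nat_lit 11) (nat_lit 1) (nat_lit 3) (nat_lit 1) (nat_lit 270) RL.nil)))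

theorem m_2_good0_0 : GoodSet 12 m_E3 m_G2 (⟨10, by decide⟩ : Fin 12) m_2_ts (nat_lit 1) (RL.pts m_2_rl0_0) :=
  goodSet_of_ok m_hn (det_lab m_hk ⊤) m_E3_ok m_G2_ok le_top le_top (by decide : 10 < 12) (sepAt_lab m_hk _) (by decide +kernel)

theorem m_2_step0 : Step 12 m_E3 m_G2 m_2_ts (2 * 0 + 1) :=
  step_of_cover m_E3_ok m_2_dist (by decide +kernel) m_2_scs (by decide +kernel) m_2_good0_0 (kw := [nat_lit 7, nat_lit 9, nat_lit 11, nat_lit 13])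
    (conj_mem_of_scs m_E3_ok m_G2_ok (by decide : 10 < 12) m_2_scs (c := 0) (d := 9) (by decide +kernel)) (by decide +kernel)

theorem m_2_lev : grp 12 m_G2 ⊓ MulAction.stabilizer (Equiv.Perm (Fin 12)) (⟨10, by decide⟩ : Fin 12) = grp 12 m_E3 :=
  sims_level (gs := m_V21) rfl (by decide) m_2_fix m_2_dist (forall_lt_one m_2_step0)

theorem m_2_cardG : Nat.card (grp 12 m_G2) = 720 :=
  card_of_level m_hn m_G2_ok (by decide : 10 < 12) m_2_lev m_card3 (m := 10) (by decide +kernel)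

theorem m_le42 : grp 12 m_E2 ≤ grp 12 m_G2 :=
  grp_le_of_memB m_hn m_hk m_G2_ok m_E2_ok (ws := [nat_lit 1, nat_lit 1281, nat_lit 3, nat_lit 5, nat_lit 7, nat_lit 9, nat_lit 11, nat_lit 13, nat_lit 15]) (by decide +kernel)

theorem m_le43 : grp 12 m_G2 ≤ grp 12 m_E2 :=
  grp_le_of_memB m_hn m_hk m_E2_ok m_G2_ok (ws := [nat_lit 1, nat_lit 5, nat_lit 7, nat_lit 9, nat_lit 11, nat_lit 13, nat_lit 15, nat_lit 17]) (by decide +kernel)

theorem m_2_eq : grp 12 m_E2 = grp 12 m_G2 :=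
  le_antisymm m_le42 m_le43

theorem m_card2 : Nat.card (grp 12 m_E2) = 720 :=
  by rw [m_2_eq]; exact m_2_cardG

theorem m_stab2 : grp 12 m_E2 ⊓ MulAction.stabilizer (Equiv.Perm (Fin 12)) (⟨10, by decide⟩ : Fin 12) = grp 12 m_E3 :=
  by rw [m_2_eq]; exact m_2_lev

theorem m_leO2 : grp 12 m_E2 ≤ grp 12 m_O :=
  m_2_eq.le.trans (grp_cons_le ((m_le20.trans (m_le15.trans (le_refl (grp 12 m_O)))) (m_le22 (toPerm_mem_grp (E := m_V21) (by simp [m_V21])))) m_leO3)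

theorem m_1_fix : grp 12 m_E2 ≤ MulAction.stabilizer (Equiv.Perm (Fin 12)) (⟨5, by decide⟩ : Fin 12) :=
  grp_le_stab m_E2_ok (by decide : 5 < 12) (by decide +kernel)

noncomputable def m_1_ts : List ℕ := [nat_lit 0, nat_lit 1]

noncomputable def m_1_ds : List ℕ := [nat_lit 5, nat_lit 10]

theorem m_1_dist : Dist 12 m_E2 m_G1 (⟨5, by decide⟩ : Fin 12) m_1_ts m_1_ds :=
  dist_of_distB (k := 1) m_hn m_E2_ok m_G1_ok (by decide : 5 < 12) (by decide +kernel)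

noncomputable def m_1_sl0 : SL := (SL.cons (nat_lit 1) (nat_lit 10) (Ch.cons (nat_lit 9) [nat_lit 5, nat_lit 7, nat_lit 9] (Ch.cons (nat_lit 11) [nat_lit 11, nat_lit 13, nat_lit 15, nat_lit 17] Ch.nil)) [nat_lit 0xb0b0701, nat_lit 0xb08010305, nat_lit 0xc050504, nat_lit 0x12060106, nat_lit 0xc0511010305, nat_lit 0x5120408, nat_lit 0x12050b01] SL.nil)

theorem m_1_sc0 : SCs 12 m_E2 m_G1 (⟨5, by decide⟩ : Fin 12) (SL.words m_1_sl0) :=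
  scs_of_ok m_hn (det_lab m_hk ⊤) m_E2_ok m_G1_ok le_top le_top (by decide : 5 < 12) m_1_fix m_card2.le (by decide +kernel)

noncomputable def m_1_l : List ℕ := (appL (SL.words m_1_sl0) [])

theorem m_1_scs : SCs 12 m_E2 m_G1 (⟨5, by decide⟩ : Fin 12) m_1_l :=
  (SCs.append m_1_sc0 SCs.nil)

noncomputable def m_1_rl0_0 : RL := (RL.cons (nat_lit 0) (nat_lit 5) (nat_lit 0) (nat_lit 1025) (nat_lit 1) (nat_lit 0xb050401) (RL.cons (nat_lit 1) (nat_lit 10) (nat_lit 0) (nat_lit 0) (nat_lit 0) (nat_lit 0) (RL.cons (nat_lit 1) (nat_lit 9) (nat_lit 1) (nat_lit 259) (nat_lit 1) (nat_lit 0xe05110107) RL.nil)))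

theorem m_1_good0_0 : GoodSet 12 m_E2 m_G1 (⟨5, by decide⟩ : Fin 12) m_1_ts (nat_lit 1) (RL.pts m_1_rl0_0) :=
  goodSet_of_ok m_hn (det_lab m_hk ⊤) m_E2_ok m_G1_ok le_top le_top (by decide : 5 < 12) (sepAt_lab m_hk _) (by decide +kernel)

theorem m_1_step0 : Step 12 m_E2 m_G1 m_1_ts (2 * 0 + 1) :=
  step_of_cover m_E2_ok m_1_dist (by decide +kernel) m_1_scs (by decide +kernel) m_1_good0_0 (kw := [nat_lit 5, nat_lit 7, nat_lit 9, nat_lit 11, nat_lit 13, nat_lit 15, nat_lit 17])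
    (conj_mem_of_scs m_E2_ok m_G1_ok (by decide : 5 < 12) m_1_scs (c := 0) (d := 10) (by decide +kernel)) (by decide +kernel)

theorem m_1_lev : grp 12 m_G1 ⊓ MulAction.stabilizer (Equiv.Perm (Fin 12)) (⟨5, by decide⟩ : Fin 12) = grp 12 m_E2 :=
  sims_level (gs := m_V16) rfl (by decide) m_1_fix m_1_dist (forall_lt_one m_1_step0)

theorem m_1_cardG : Nat.card (grp 12 m_G1) = 7920 :=
  card_of_level m_hn m_G1_ok (by decide : 5 < 12) m_1_lev m_card2 (m := 11) (by decide +kernel)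

theorem m_le44 : grp 12 m_E1 ≤ grp 12 m_G1 :=
  grp_le_of_memB m_hn m_hk m_G1_ok m_E1_ok (ws := [nat_lit 1, nat_lit 3, nat_lit 5, nat_lit 7, nat_lit 9, nat_lit 11, nat_lit 13, nat_lit 15, nat_lit 17, nat_lit 19]) (by decide +kernel)

theorem m_le45 : grp 12 m_G1 ≤ grp 12 m_E1 :=
  grp_le_of_memB m_hn m_hk m_E1_ok m_G1_ok (ws := [nat_lit 1, nat_lit 3, nat_lit 5, nat_lit 7, nat_lit 9, nat_lit 11, nat_lit 13, nat_lit 15, nat_lit 17, nat_lit 19]) (by decide +kernel)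

theorem m_1_eq : grp 12 m_E1 = grp 12 m_G1 :=
  le_antisymm m_le44 m_le45

theorem m_card1 : Nat.card (grp 12 m_E1) = 7920 :=
  by rw [m_1_eq]; exact m_1_cardG

theorem m_stab1 : grp 12 m_E1 ⊓ MulAction.stabilizer (Equiv.Perm (Fin 12)) (⟨5, by decide⟩ : Fin 12) = grp 12 m_E2 :=
  by rw [m_1_eq]; exact m_1_lev

theorem m_leO1 : grp 12 m_E1 ≤ grp 12 m_O :=
  m_1_eq.le.trans (grp_cons_le ((m_le15.trans (le_refl (grp 12 m_O))) (m_le17 (toPerm_mem_grp (E := m_V16) (by simp [m_V16])))) m_leO2)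

theorem m_0_fix : grp 12 m_E1 ≤ MulAction.stabilizer (Equiv.Perm (Fin 12)) (⟨0, by decide⟩ : Fin 12) :=
  grp_le_stab m_E1_ok (by decide : 0 < 12) (by decide +kernel)

noncomputable def m_0_ts : List ℕ := [nat_lit 0, nat_lit 1]

noncomputable def m_0_ds : List ℕ := [nat_lit 0, nat_lit 5]

theorem m_0_dist : Dist 12 m_E1 m_G0 (⟨0, by decide⟩ : Fin 12) m_0_ts m_0_ds :=
  dist_of_distB (k := 1) m_hn m_E1_ok m_G0_ok (by decide : 0 < 12) (by decide +kernel)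

noncomputable def m_0_sl0 : SL := (SL.cons (nat_lit 1) (nat_lit 5) (Ch.cons (nat_lit 10) [nat_lit 3, nat_lit 5] (Ch.cons (nat_lit 9) [nat_lit 7, nat_lit 9, nat_lit 11] (Ch.cons (nat_lit 11) [nat_lit 13, nat_lit 15, nat_lit 17, nat_lit 19] Ch.nil))) [nat_lit 0x13070305, nat_lit 0xe07060207, nat_lit 0x130713030101, nat_lit 0xe0703090207, nat_lit 0xf0a061301, nat_lit 0xd0d080213, nat_lit 0xd0d0903050210, nat_lit 0xf080601, nat_lit 0x1409060106] SL.nil)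

theorem m_0_sc0 : SCs 12 m_E1 m_G0 (⟨0, by decide⟩ : Fin 12) (SL.words m_0_sl0) :=
  scs_of_ok m_hn (det_lab m_hk ⊤) m_E1_ok m_G0_ok le_top le_top (by decide : 0 < 12) m_0_fix m_card1.le (by decide +kernel)

noncomputable def m_0_l : List ℕ := (appL (SL.words m_0_sl0) [])

theorem m_0_scs : SCs 12 m_E1 m_G0 (⟨0, by decide⟩ : Fin 12) m_0_l :=
  (SCs.append m_0_sc0 SCs.nil)

noncomputable def m_0_rl0_0 : RL := (RL.cons (nat_lit 0) (nat_lit 0) (nat_lit 0) (nat_lit 2) (nat_lit 1) (nat_lit 2) (RL.cons (nat_lit 1) (nat_lit 5) (nat_lit 0) (nat_lit 0) (nat_lit 0) (nat_lit 0) (RL.cons (nat_lit 1) (nat_lit 10) (nat_lit 1) (nat_lit 259) (nat_lit 1) (nat_lit 0xd0d070d03090103) RL.nil)))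

theorem m_0_good0_0 : GoodSet 12 m_E1 m_G0 (⟨0, by decide⟩ : Fin 12) m_0_ts (nat_lit 1) (RL.pts m_0_rl0_0) :=
  goodSet_of_ok m_hn (det_lab m_hk ⊤) m_E1_ok m_G0_ok le_top le_top (by decide : 0 < 12) (sepAt_lab m_hk _) (by decide +kernel)

theorem m_0_step0 : Step 12 m_E1 m_G0 m_0_ts (2 * 0 + 1) :=
  step_of_cover m_E1_ok m_0_dist (by decide +kernel) m_0_scs (by decide +kernel) m_0_good0_0 (kw := [nat_lit 3, nat_lit 5, nat_lit 7, nat_lit 9, nat_lit 11, nat_lit 13, nat_lit 15, nat_lit 17, nat_lit 19])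
    (conj_mem_of_scs m_E1_ok m_G0_ok (by decide : 0 < 12) m_0_scs (c := 0) (d := 5) (by decide +kernel)) (by decide +kernel)

theorem m_0_lev : grp 12 m_G0 ⊓ MulAction.stabilizer (Equiv.Perm (Fin 12)) (⟨0, by decide⟩ : Fin 12) = grp 12 m_E1 :=
  sims_level (gs := m_V10) rfl (by decide) m_0_fix m_0_dist (forall_lt_one m_0_step0)

theorem m_0_cardG : Nat.card (grp 12 m_G0) = 95040 :=
  card_of_level m_hn m_G0_ok (by decide : 0 < 12) m_0_lev m_card1 (m := 12) (by decide +kernel)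

theorem m_le46 : grp 12 m_E0 ≤ grp 12 m_G0 :=
  grp_le_of_memB m_hn m_hk m_G0_ok m_E0_ok (ws := [nat_lit 1, nat_lit 0x9150504, nat_lit 0x100b05070303, nat_lit 0x110b0507090305, nat_lit 0xf0916050a0415, nat_lit 0x110916080c0303, nat_lit 0x1209050a041202, nat_lit 0xb081504120205, nat_lit 0x160a050709, nat_lit 3, nat_lit 5, nat_lit 7, nat_lit 9, nat_lit 11, nat_lit 13, nat_lit 15, nat_lit 17, nat_lit 19, nat_lit 21]) (by decide +kernel)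

theorem m_le47 : grp 12 m_G0 ≤ grp 12 m_E0 :=
  grp_le_of_memB m_hn m_hk m_E0_ok m_G0_ok (ws := [nat_lit 1, nat_lit 19, nat_lit 21, nat_lit 23, nat_lit 25, nat_lit 27, nat_lit 29, nat_lit 31, nat_lit 33, nat_lit 35, nat_lit 37]) (by decide +kernel)

theorem m_0_eq : grp 12 m_E0 = grp 12 m_G0 :=
  le_antisymm m_le46 m_le47

theorem m_card0 : Nat.card (grp 12 m_E0) = 95040 :=
  by rw [m_0_eq]; exact m_0_cardG

theorem m_stab0 : grp 12 m_E0 ⊓ MulAction.stabilizer (Equiv.Perm (Fin 12)) (⟨0, by decide⟩ : Fin 12) = grp 12 m_E1 :=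
  by rw [m_0_eq]; exact m_0_lev

theorem m_leO0 : grp 12 m_E0 ≤ grp 12 m_O :=
  m_0_eq.le.trans (grp_cons_le ((le_refl (grp 12 m_O)) (m_le11 (toPerm_mem_grp (E := m_V10) (by simp [m_V10])))) m_leO1)

theorem m_le48 : grp 12 m_O ≤ grp 12 m_E0 :=
  grp_le_of_memB m_hn m_hk m_E0_ok m_O_ok (ws := [nat_lit 3, nat_lit 5, nat_lit 7, nat_lit 9, nat_lit 11, nat_lit 13, nat_lit 15, nat_lit 17]) (by decide +kernel)

theorem m_eq : grp 12 m_O = grp 12 m_E0 :=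
  le_antisymm m_le48 m_leO0

theorem m_card : Nat.card (grp 12 m_O) = 95040 :=
  by rw [m_eq]; exact m_card0

noncomputable def m_ch : Ch := (Ch.cons (nat_lit 0) [nat_lit 1, nat_lit 3, nat_lit 5, nat_lit 7, nat_lit 9, nat_lit 11, nat_lit 13, nat_lit 15, nat_lit 17] (Ch.cons (nat_lit 5) [nat_lit 19] (Ch.cons (nat_lit 10) [nat_lit 21, nat_lit 23] (Ch.cons (nat_lit 9) [nat_lit 25, nat_lit 27, nat_lit 29] (Ch.cons (nat_lit 11) [nat_lit 31, nat_lit 33, nat_lit 35, nat_lit 37] Ch.nil)))))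

theorem m_exact : Ch.Exact 12 m_E0 m_ch (grp 12 m_E0) :=
  Ch.exact (k := 4) (L := (lab 12 4)) m_hn m_E0_ok (by decide +kernel) (wgrp_le_grp _ _ _) m_card0.le

theorem m_le51 : grp 12 m_V50 ≤ grp 12 k_O :=
  grp_le_of_memB m_hn m_hk k_O_ok m_V50_ok (ws := [nat_lit 721162]) (by decide +kernel)

theorem m_le55 : grp 12 m_V54 ≤ grp 12 k_O :=
  grp_le_of_memB m_hn m_hk k_O_ok m_V54_ok (ws := [nat_lit 0x60407020d020e, nat_lit 0x20508050c03080e07020c]) (by decide +kernel)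

theorem m_le58 : grp 12 m_V57 ≤ grp 12 m_V54 :=
  grp_le_of_memB m_hn m_hk m_V54_ok m_V57_ok (ws := [nat_lit 196867]) (by decide +kernel)

theorem m_le61 : grp 12 m_V60 ≤ grp 12 m_V54 :=
  grp_le_of_memB m_hn m_hk m_V54_ok m_V60_ok (ws := [nat_lit 0x3030301, nat_lit 0x1040104]) (by decide +kernel)

theorem m_le64 : grp 12 m_V63 ≤ grp 12 m_V60 :=
  grp_le_of_memB m_hn m_hk m_V60_ok m_V63_ok (ws := [nat_lit 257]) (by decide +kernel)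

theorem m_le68 : grp 12 m_V67 ≤ grp 12 m_V60 :=
  grp_le_of_memB m_hn m_hk m_V60_ok m_V67_ok (ws := [nat_lit 0x1010104020302, nat_lit 0x10101030303]) (by decide +kernel)

theorem m_le70 : grp 12 m_V69 ≤ grp 12 m_V67 :=
  grp_le_of_memB m_hn m_hk m_V67_ok m_V69_ok (ws := [nat_lit 3, nat_lit 1]) (by decide +kernel)

theorem k_card4 : Nat.card (grp 12 k_E4) = 1 :=
  card_grp_nil 12

theorem k_leO4 : grp 12 k_E4 ≤ grp 12 k_O :=
  grp_nil_le _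

theorem k_3_fix : grp 12 k_E4 ≤ MulAction.stabilizer (Equiv.Perm (Fin 12)) (⟨9, by decide⟩ : Fin 12) :=
  grp_le_stab k_E4_ok (by decide : 9 < 12) (by decide +kernel)

noncomputable def k_3_ts : List ℕ := [nat_lit 0, nat_lit 1, nat_lit 2, nat_lit 3, nat_lit 4, nat_lit 257, nat_lit 259, nat_lit 260]

noncomputable def k_3_ds : List ℕ := [nat_lit 9, nat_lit 5, nat_lit 6, nat_lit 7, nat_lit 3, nat_lit 1, nat_lit 11, nat_lit 10]

theorem k_3_dist : Dist 12 k_E4 k_G3 (⟨9, by decide⟩ : Fin 12) k_3_ts k_3_ds :=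
  dist_of_distB (k := 3) m_hn k_E4_ok k_G3_ok (by decide : 9 < 12) (by decide +kernel)

noncomputable def k_3_sl0 : SL := (SL.cons (nat_lit 1) (nat_lit 5) Ch.nil [] (SL.cons (nat_lit 2) (nat_lit 6) Ch.nil [] (SL.cons (nat_lit 3) (nat_lit 7) Ch.nil [] (SL.cons (nat_lit 4) (nat_lit 3) Ch.nil [] (SL.cons (nat_lit 257) (nat_lit 1) Ch.nil [] (SL.cons (nat_lit 259) (nat_lit 11) Ch.nil [] (SL.cons (nat_lit 260) (nat_lit 10) Ch.nil [] SL.nil)))))))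

theorem k_3_sc0 : SCs 12 k_E4 k_G3 (⟨9, by decide⟩ : Fin 12) (SL.words k_3_sl0) :=
  scs_of_ok m_hn (det_lab m_hk ⊤) k_E4_ok k_G3_ok le_top le_top (by decide : 9 < 12) k_3_fix k_card4.le (by decide +kernel)

noncomputable def k_3_l : List ℕ := (appL (SL.words k_3_sl0) [])

theorem k_3_scs : SCs 12 k_E4 k_G3 (⟨9, by decide⟩ : Fin 12) k_3_l :=
  (SCs.append k_3_sc0 SCs.nil)

noncomputable def k_3_rl0_0 : RL := (RL.cons (nat_lit 0) (nat_lit 9) (nat_lit 0) (nat_lit 0) (nat_lit 2) (nat_lit 0) (RL.cons (nat_lit 1) (nat_lit 5) (nat_lit 0) (nat_lit 0) (nat_lit 0) (nat_lit 0) (RL.cons (nat_lit 2) (nat_lit 6) (nat_lit 0) (nat_lit 0) (nat_lit 5) (nat_lit 0) (RL.cons (nat_lit 3) (nat_lit 7) (nat_lit 0) (nat_lit 0) (nat_lit 6) (nat_lit 0) (RL.cons (nat_lit 4) (nat_lit 3) (nat_lit 0) (nat_lit 0) (nat_lit 7) (nat_lit 0) (RL.cons (nat_lit 5) (nat_lit 1) (nat_lit 0) (nat_lit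 0) (nat_lit 1) (nat_lit 0) (RL.cons (nat_lit 6) (nat_lit 11) (nat_lit 0) (nat_lit 0) (nat_lit 4) (nat_lit 0) (RL.cons (nat_lit 7) (nat_lit 10) (nat_lit 0) (nat_lit 0) (nat_lit 3) (nat_lit 0) RL.nil))))))))

theorem k_3_good0_0 : GoodSet 12 k_E4 k_G3 (⟨9, by decide⟩ : Fin 12) k_3_ts (nat_lit 1) (RL.pts k_3_rl0_0) :=
  goodSet_of_ok m_hn (det_lab m_hk ⊤) k_E4_ok k_G3_ok le_top le_top (by decide : 9 < 12) (sepAt_lab m_hk _) (by decide +kernel)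

theorem k_3_step0 : Step 12 k_E4 k_G3 k_3_ts (2 * 0 + 1) :=
  step_of_cover k_E4_ok k_3_dist (by decide +kernel) k_3_scs (by decide +kernel) k_3_good0_0 (kw := [])
    (conj_mem_of_scs k_E4_ok k_G3_ok (by decide : 9 < 12) k_3_scs (c := 0) (d := 5) (by decide +kernel)) (by decide +kernel)

noncomputable def k_3_rl1_0 : RL := (RL.cons (nat_lit 0) (nat_lit 9) (nat_lit 0) (nat_lit 0) (nat_lit 4) (nat_lit 0) (RL.cons (nat_lit 1) (nat_lit 5) (nat_lit 0) (nat_lit 0) (nat_lit 7) (nat_lit 0) (RL.cons (nat_lit 2) (nat_lit 6) (nat_lit 0) (nat_lit 0) (nat_lit 6) (nat_lit 0) (RL.cons (nat_lit 3) (nat_lit 7) (nat_lit 0) (nat_lit 0) (nat_lit 0) (nat_lit 0) (RL.cons (nat_lit 4) (nat_lit 3) (nat_lit 0) (nat_lit 0) (nat_lit 5) (nat_lit 0) (RL.cons (nat_lit 5) (nat_lit 1) (nat_lit 0) (nat_lit 0) (nat_lit 3) (nat_lit 0) (RL.cons (nat_lit 6) (nat_lit 11) (nat_lit 0) (nat_lit 0) (nat_lit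 1) (nat_lit 0) (RL.cons (nat_lit 7) (nat_lit 10) (nat_lit 0) (nat_lit 0) (nat_lit 2) (nat_lit 0) RL.nil))))))))

theorem k_3_good1_0 : GoodSet 12 k_E4 k_G3 (⟨9, by decide⟩ : Fin 12) k_3_ts (nat_lit 3) (RL.pts k_3_rl1_0) :=
  goodSet_of_ok m_hn (det_lab m_hk ⊤) k_E4_ok k_G3_ok le_top le_top (by decide : 9 < 12) (sepAt_lab m_hk _) (by decide +kernel)

theorem k_3_step1 : Step 12 k_E4 k_G3 k_3_ts (2 * 1 + 1) :=
  step_of_cover k_E4_ok k_3_dist (by decide +kernel) k_3_scs (by decide +kernel) k_3_good1_0 (kw := [])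
    (conj_mem_of_scs k_E4_ok k_G3_ok (by decide : 9 < 12) k_3_scs (c := 2) (d := 7) (by decide +kernel)) (by decide +kernel)

theorem k_3_lev : grp 12 k_G3 ⊓ MulAction.stabilizer (Equiv.Perm (Fin 12)) (⟨9, by decide⟩ : Fin 12) = grp 12 k_E4 :=
  sims_level (gs := m_V69) rfl (by decide) k_3_fix k_3_dist (forall_lt_succ' (forall_lt_one k_3_step0) k_3_step1)

theorem k_3_cardG : Nat.card (grp 12 k_G3) = 8 :=
  card_of_level m_hn k_G3_ok (by decide : 9 < 12) k_3_lev k_card4 (m := 8) (by decide +kernel)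

theorem m_le71 : grp 12 k_E3 ≤ grp 12 k_G3 :=
  grp_le_of_memB m_hn m_hk k_G3_ok k_E3_ok (ws := [nat_lit 1, nat_lit 3]) (by decide +kernel)

theorem m_le72 : grp 12 k_G3 ≤ grp 12 k_E3 :=
  grp_le_of_memB m_hn m_hk k_E3_ok k_G3_ok (ws := [nat_lit 1, nat_lit 3]) (by decide +kernel)

theorem k_3_eq : grp 12 k_E3 = grp 12 k_G3 :=
  le_antisymm m_le71 m_le72

theorem k_card3 : Nat.card (grp 12 k_E3) = 8 :=
  by rw [k_3_eq]; exact k_3_cardG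

theorem k_stab3 : grp 12 k_E3 ⊓ MulAction.stabilizer (Equiv.Perm (Fin 12)) (⟨9, by decide⟩ : Fin 12) = grp 12 k_E4 :=
  by rw [k_3_eq]; exact k_3_lev

theorem k_leO3 : grp 12 k_E3 ≤ grp 12 k_O :=
  k_3_eq.le.trans (grp_cons_le ((m_le68.trans (m_le61.trans (m_le55.trans (le_refl (grp 12 k_O))))) (m_le70 (toPerm_mem_grp (E := m_V69) (by simp [m_V69])))) (grp_cons_le ((m_le68.trans (m_le61.trans (m_le55.trans (le_refl (grp 12 k_O))))) (m_le70 (toPerm_mem_grp (E := m_V69) (by simp [m_V69])))) k_leO4))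

theorem k_2_fix : grp 12 k_E3 ≤ MulAction.stabilizer (Equiv.Perm (Fin 12)) (⟨4, by decide⟩ : Fin 12) :=
  grp_le_stab k_E3_ok (by decide : 4 < 12) (by decide +kernel)

noncomputable def k_2_ts : List ℕ := [nat_lit 0, nat_lit 1]

noncomputable def k_2_ds : List ℕ := [nat_lit 4, nat_lit 9]

theorem k_2_dist : Dist 12 k_E3 k_G2 (⟨4, by decide⟩ : Fin 12) k_2_ts k_2_ds :=
  dist_of_distB (k := 1) m_hn k_E3_ok k_G2_ok (by decide : 4 < 12) (by decide +kernel)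

noncomputable def k_2_sl0 : SL := (SL.cons (nat_lit 1) (nat_lit 9) Ch.nil [] SL.nil)

theorem k_2_sc0 : SCs 12 k_E3 k_G2 (⟨4, by decide⟩ : Fin 12) (SL.words k_2_sl0) :=
  scs_of_ok m_hn (det_lab m_hk ⊤) k_E3_ok k_G2_ok le_top le_top (by decide : 4 < 12) k_2_fix k_card3.le (by decide +kernel)

noncomputable def k_2_l : List ℕ := (appL (SL.words k_2_sl0) [])

theorem k_2_scs : SCs 12 k_E3 k_G2 (⟨4, by decide⟩ : Fin 12) k_2_l :=
  (SCs.append k_2_sc0 SCs.nil)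

noncomputable def k_2_rl0_0 : RL := (RL.cons (nat_lit 0) (nat_lit 4) (nat_lit 0) (nat_lit 0) (nat_lit 1) (nat_lit 0) (RL.cons (nat_lit 1) (nat_lit 9) (nat_lit 0) (nat_lit 0) (nat_lit 0) (nat_lit 0) (RL.cons (nat_lit 1) (nat_lit 5) (nat_lit 1) (nat_lit 259) (nat_lit 1) (nat_lit 4) (RL.cons (nat_lit 1) (nat_lit 6) (nat_lit 2) (nat_lit 3) (nat_lit 1) (nat_lit 260) (RL.cons (nat_lit 1) (nat_lit 7) (nat_lit 3) (nat_lit 2) (nat_lit 1) (nat_lit 259) (RL.cons (nat_lit 1) (nat_lit 3) (nat_lit 4) (nat_lit 260) (nat_lit 1) (nat_lit 1) (RL.cons (nat_lit 1) (nat_lit 1) (nat_lit 257) (nat_lit 257) (nat_lit 1) (nat_lit 257) (RL.cons (nat_lit 1) (nat_lit 11) (nat_lit 259) (nat_lit 1) (nat_lit 1) (nat_lit 3) (RL.cons (nat_lit 1) (nat_lit 10) (nat_lit 260) (nat_lit 4) (nat_lit 1) (nat_lit 2) RL.nil)))))))))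

theorem k_2_good0_0 : GoodSet 12 k_E3 k_G2 (⟨4, by decide⟩ : Fin 12) k_2_ts (nat_lit 1) (RL.pts k_2_rl0_0) :=
  goodSet_of_ok m_hn (det_lab m_hk ⊤) k_E3_ok k_G2_ok le_top le_top (by decide : 4 < 12) (sepAt_lab m_hk _) (by decide +kernel)

theorem k_2_step0 : Step 12 k_E3 k_G2 k_2_ts (2 * 0 + 1) :=
  step_of_cover k_E3_ok k_2_dist (by decide +kernel) k_2_scs (by decide +kernel) k_2_good0_0 (kw := [])
    (conj_mem_of_scs k_E3_ok k_G2_ok (by decide : 4 < 12) k_2_scs (c := 0) (d := 9) (by decide +kernel)) (by decide +kernel)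

theorem k_2_lev : grp 12 k_G2 ⊓ MulAction.stabilizer (Equiv.Perm (Fin 12)) (⟨4, by decide⟩ : Fin 12) = grp 12 k_E3 :=
  sims_level (gs := m_V63) rfl (by decide) k_2_fix k_2_dist (forall_lt_one k_2_step0)

theorem k_2_cardG : Nat.card (grp 12 k_G2) = 72 :=
  card_of_level m_hn k_G2_ok (by decide : 4 < 12) k_2_lev k_card3 (m := 9) (by decide +kernel)

theorem m_le73 : grp 12 k_E2 ≤ grp 12 k_G2 :=
  grp_le_of_memB m_hn m_hk k_G2_ok k_E2_ok (ws := [nat_lit 1, nat_lit 0x306010301, nat_lit 393475, nat_lit 3, nat_lit 5]) (by decide +kernel)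

theorem m_le74 : grp 12 k_G2 ≤ grp 12 k_E2 :=
  grp_le_of_memB m_hn m_hk k_E2_ok k_G2_ok (ws := [nat_lit 1, nat_lit 7, nat_lit 9]) (by decide +kernel)

theorem k_2_eq : grp 12 k_E2 = grp 12 k_G2 :=
  le_antisymm m_le73 m_le74

theorem k_card2 : Nat.card (grp 12 k_E2) = 72 :=
  by rw [k_2_eq]; exact k_2_cardG

theorem k_stab2 : grp 12 k_E2 ⊓ MulAction.stabilizer (Equiv.Perm (Fin 12)) (⟨4, by decide⟩ : Fin 12) = grp 12 k_E3 :=
  by rw [k_2_eq]; exact k_2_lev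

theorem k_leO2 : grp 12 k_E2 ≤ grp 12 k_O :=
  k_2_eq.le.trans (grp_cons_le ((m_le61.trans (m_le55.trans (le_refl (grp 12 k_O)))) (m_le64 (toPerm_mem_grp (E := m_V63) (by simp [m_V63])))) k_leO3)

theorem k_1_fix : grp 12 k_E2 ≤ MulAction.stabilizer (Equiv.Perm (Fin 12)) (⟨8, by decide⟩ : Fin 12) :=
  grp_le_stab k_E2_ok (by decide : 8 < 12) (by decide +kernel)

noncomputable def k_1_ts : List ℕ := [nat_lit 0, nat_lit 1]

noncomputable def k_1_ds : List ℕ := [nat_lit 8, nat_lit 4]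

theorem k_1_dist : Dist 12 k_E2 k_G1 (⟨8, by decide⟩ : Fin 12) k_1_ts k_1_ds :=
  dist_of_distB (k := 1) m_hn k_E2_ok k_G1_ok (by decide : 8 < 12) (by decide +kernel)

noncomputable def k_1_sl0 : SL := (SL.cons (nat_lit 1) (nat_lit 4) (Ch.cons (nat_lit 9) [nat_lit 7, nat_lit 9] Ch.nil) [nat_lit 2561, nat_lit 590086] SL.nil)

theorem k_1_sc0 : SCs 12 k_E2 k_G1 (⟨8, by decide⟩ : Fin 12) (SL.words k_1_sl0) :=
  scs_of_ok m_hn (det_lab m_hk ⊤) k_E2_ok k_G1_ok le_top le_top (by decide : 8 < 12) k_1_fix k_card2.le (by decide +kernel)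

noncomputable def k_1_l : List ℕ := (appL (SL.words k_1_sl0) [])

theorem k_1_scs : SCs 12 k_E2 k_G1 (⟨8, by decide⟩ : Fin 12) k_1_l :=
  (SCs.append k_1_sc0 SCs.nil)

noncomputable def k_1_rl0_0 : RL := (RL.cons (nat_lit 0) (nat_lit 8) (nat_lit 0) (nat_lit 3) (nat_lit 1) (nat_lit 3) (RL.cons (nat_lit 1) (nat_lit 4) (nat_lit 0) (nat_lit 0) (nat_lit 0) (nat_lit 0) (RL.cons (nat_lit 1) (nat_lit 9) (nat_lit 1) (nat_lit 262) (nat_lit 1) (nat_lit 459014) RL.nil)))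

theorem k_1_good0_0 : GoodSet 12 k_E2 k_G1 (⟨8, by decide⟩ : Fin 12) k_1_ts (nat_lit 1) (RL.pts k_1_rl0_0) :=
  goodSet_of_ok m_hn (det_lab m_hk ⊤) k_E2_ok k_G1_ok le_top le_top (by decide : 8 < 12) (sepAt_lab m_hk _) (by decide +kernel)

theorem k_1_step0 : Step 12 k_E2 k_G1 k_1_ts (2 * 0 + 1) :=
  step_of_cover k_E2_ok k_1_dist (by decide +kernel) k_1_scs (by decide +kernel) k_1_good0_0 (kw := [nat_lit 7, nat_lit 9])
    (conj_mem_of_scs k_E2_ok k_G1_ok (by decide : 8 < 12) k_1_scs (c := 0) (d := 4) (by decide +kernel)) (by decide +kernel)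

theorem k_1_lev : grp 12 k_G1 ⊓ MulAction.stabilizer (Equiv.Perm (Fin 12)) (⟨8, by decide⟩ : Fin 12) = grp 12 k_E2 :=
  sims_level (gs := m_V57) rfl (by decide) k_1_fix k_1_dist (forall_lt_one k_1_step0)

theorem k_1_cardG : Nat.card (grp 12 k_G1) = 720 :=
  card_of_level m_hn k_G1_ok (by decide : 8 < 12) k_1_lev k_card2 (m := 10) (by decide +kernel)

theorem m_le75 : grp 12 k_E1 ≤ grp 12 k_G1 :=
  grp_le_of_memB m_hn m_hk k_G1_ok k_E1_ok (ws := [nat_lit 1, nat_lit 0xc03080108, nat_lit 3, nat_lit 5, nat_lit 7, nat_lit 9, nat_lit 11]) (by decide +kernel)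

theorem m_le76 : grp 12 k_G1 ≤ grp 12 k_E1 :=
  grp_le_of_memB m_hn m_hk k_E1_ok k_G1_ok (ws := [nat_lit 1, nat_lit 5, nat_lit 7, nat_lit 9, nat_lit 11, nat_lit 13]) (by decide +kernel)

theorem k_1_eq : grp 12 k_E1 = grp 12 k_G1 :=
  le_antisymm m_le75 m_le76

theorem k_card1 : Nat.card (grp 12 k_E1) = 720 :=
  by rw [k_1_eq]; exact k_1_cardG

theorem k_stab1 : grp 12 k_E1 ⊓ MulAction.stabilizer (Equiv.Perm (Fin 12)) (⟨8, by decide⟩ : Fin 12) = grp 12 k_E2 :=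
  by rw [k_1_eq]; exact k_1_lev

theorem k_leO1 : grp 12 k_E1 ≤ grp 12 k_O :=
  k_1_eq.le.trans (grp_cons_le ((m_le55.trans (le_refl (grp 12 k_O))) (m_le58 (toPerm_mem_grp (E := m_V57) (by simp [m_V57])))) k_leO2)

theorem k_0_fix : grp 12 k_E1 ≤ MulAction.stabilizer (Equiv.Perm (Fin 12)) (⟨0, by decide⟩ : Fin 12) :=
  grp_le_stab k_E1_ok (by decide : 0 < 12) (by decide +kernel)

noncomputable def k_0_ts : List ℕ := [nat_lit 0, nat_lit 1]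

noncomputable def k_0_ds : List ℕ := [nat_lit 0, nat_lit 8]

theorem k_0_dist : Dist 12 k_E1 k_G0 (⟨0, by decide⟩ : Fin 12) k_0_ts k_0_ds :=
  dist_of_distB (k := 1) m_hn k_E1_ok k_G0_ok (by decide : 0 < 12) (by decide +kernel)

noncomputable def k_0_sl0 : SL := (SL.cons (nat_lit 1) (nat_lit 8) (Ch.cons (nat_lit 4) [nat_lit 5, nat_lit 7, nat_lit 9] (Ch.cons (nat_lit 9) [nat_lit 11, nat_lit 13] Ch.nil)) [nat_lit 722948, nat_lit 0xb0e0a01, nat_lit 0xb0e0103, nat_lit 919555, nat_lit 0xb0d050901] SL.nil)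

theorem k_0_sc0 : SCs 12 k_E1 k_G0 (⟨0, by decide⟩ : Fin 12) (SL.words k_0_sl0) :=
  scs_of_ok m_hn (det_lab m_hk ⊤) k_E1_ok k_G0_ok le_top le_top (by decide : 0 < 12) k_0_fix k_card1.le (by decide +kernel)

noncomputable def k_0_l : List ℕ := (appL (SL.words k_0_sl0) [])

theorem k_0_scs : SCs 12 k_E1 k_G0 (⟨0, by decide⟩ : Fin 12) k_0_l :=
  (SCs.append k_0_sc0 SCs.nil)

noncomputable def k_0_rl0_0 : RL := (RL.cons (nat_lit 0) (nat_lit 0) (nat_lit 0) (nat_lit 257) (nat_lit 1) (nat_lit 0xb0e050c0101) (RL.cons (nat_lit 1) (nat_lit 8) (nat_lit 0) (nat_lit 0) (nat_lit 0) (nat_lit 0) (RL.cons (nat_lit 1) (nat_lit 4) (nat_lit 1) (nat_lit 2) (nat_lit 1) (nat_lit 0xe080e0203) RL.nil)))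

theorem k_0_good0_0 : GoodSet 12 k_E1 k_G0 (⟨0, by decide⟩ : Fin 12) k_0_ts (nat_lit 1) (RL.pts k_0_rl0_0) :=
  goodSet_of_ok m_hn (det_lab m_hk ⊤) k_E1_ok k_G0_ok le_top le_top (by decide : 0 < 12) (sepAt_lab m_hk _) (by decide +kernel)

theorem k_0_step0 : Step 12 k_E1 k_G0 k_0_ts (2 * 0 + 1) :=
  step_of_cover k_E1_ok k_0_dist (by decide +kernel) k_0_scs (by decide +kernel) k_0_good0_0 (kw := [nat_lit 5, nat_lit 7, nat_lit 9, nat_lit 11, nat_lit 13])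
    (conj_mem_of_scs k_E1_ok k_G0_ok (by decide : 0 < 12) k_0_scs (c := 0) (d := 8) (by decide +kernel)) (by decide +kernel)

theorem k_0_lev : grp 12 k_G0 ⊓ MulAction.stabilizer (Equiv.Perm (Fin 12)) (⟨0, by decide⟩ : Fin 12) = grp 12 k_E1 :=
  sims_level (gs := m_V50) rfl (by decide) k_0_fix k_0_dist (forall_lt_one k_0_step0)

theorem k_0_cardG : Nat.card (grp 12 k_G0) = 7920 :=
  card_of_level m_hn k_G0_ok (by decide : 0 < 12) k_0_lev k_card1 (m := 11) (by decide +kernel)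

theorem m_le77 : grp 12 k_E0 ≤ grp 12 k_G0 :=
  grp_le_of_memB m_hn m_hk k_G0_ok k_E0_ok (ws := [nat_lit 1, nat_lit 0x10070c0405, nat_lit 0xf0a1004, nat_lit 920068, nat_lit 984069, nat_lit 0xd100c03, nat_lit 0xe0c0502, nat_lit 0xd0d0a030a0206, nat_lit 3, nat_lit 5, nat_lit 7, nat_lit 9, nat_lit 11, nat_lit 13, nat_lit 15]) (by decide +kernel)

theorem m_le78 : grp 12 k_G0 ≤ grp 12 k_E0 :=
  grp_le_of_memB m_hn m_hk k_E0_ok k_G0_ok (ws := [nat_lit 1, nat_lit 17, nat_lit 19, nat_lit 21, nat_lit 23, nat_lit 25, nat_lit 27, nat_lit 29]) (by decide +kernel)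

theorem k_0_eq : grp 12 k_E0 = grp 12 k_G0 :=
  le_antisymm m_le77 m_le78

theorem k_card0 : Nat.card (grp 12 k_E0) = 7920 :=
  by rw [k_0_eq]; exact k_0_cardG

theorem k_stab0 : grp 12 k_E0 ⊓ MulAction.stabilizer (Equiv.Perm (Fin 12)) (⟨0, by decide⟩ : Fin 12) = grp 12 k_E1 :=
  by rw [k_0_eq]; exact k_0_lev

theorem k_leO0 : grp 12 k_E0 ≤ grp 12 k_O :=
  k_0_eq.le.trans (grp_cons_le ((le_refl (grp 12 k_O)) (m_le51 (toPerm_mem_grp (E := m_V50) (by simp [m_V50])))) k_leO1)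

theorem m_le79 : grp 12 k_O ≤ grp 12 k_E0 :=
  grp_le_of_memB m_hn m_hk k_E0_ok k_O_ok (ws := [nat_lit 3, nat_lit 5, nat_lit 7, nat_lit 9, nat_lit 11, nat_lit 13, nat_lit 15]) (by decide +kernel)

theorem k_eq : grp 12 k_O = grp 12 k_E0 :=
  le_antisymm m_le79 k_leO0

theorem k_card : Nat.card (grp 12 k_O) = 7920 :=
  by rw [k_eq]; exact k_card0

noncomputable def k_ch : Ch := (Ch.cons (nat_lit 0) [nat_lit 1, nat_lit 3, nat_lit 5, nat_lit 7, nat_lit 9, nat_lit 11, nat_lit 13, nat_lit 15] (Ch.cons (nat_lit 8) [nat_lit 17, nat_lit 19] (Ch.cons (nat_lit 4) [nat_lit 21, nat_lit 23, nat_lit 25] (Ch.cons (nat_lit 9) [nat_lit 27, nat_lit 29] Ch.nil))))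

theorem k_exact : Ch.Exact 12 k_E0 k_ch (grp 12 k_E0) :=
  Ch.exact (k := 4) (L := (lab 12 4)) m_hn k_E0_ok (by decide +kernel) (wgrp_le_grp _ _ _) k_card0.le

end Cfsg.Agent.H57.M12Cert
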