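import Cfsg.Agent.H48.M2Defs

/-! The elements commuting with the sign change on an octad and fixing the inverted classes. -/

set_option autoImplicit false
set_option maxRecDepth 200000

namespace Cfsg.Agent.H48.M2

open Cfsg Subgroup Cfsg.Agent.H48 Cfsg.Agent.H48.Rec Cfsg.Agent.H49 Cfsg.Agent.H95.Par
open Cfsg.Agent.H97.Gr (DD ZZ)
open Cfsg.Agent.H97.Yt (M)
open Cfsg.Agent.H42 (toSet oct0)

namespace XE

theorem card_fix : Nat.card (H42.fixS 8388671) ≤ 1 :=
  H42.card_le_of_fixBd [] _ (by simp) H42.baseSteps 8388671 _ le_rfl (by norm_num)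
    (by decide +kernel)

theorem base_sub : ∀ p ∈ toSet 8388671, p ∈ toSet oct0 ∨ p = some 4 := by decide +kernel

end XE

theorem xe_of : XeStmt := by
  refine ⟨fun x => ⟨fun ⟨_, h⟩ => ?_, ?_⟩, fun τ h1 h2 => ?_⟩
  · obtain ⟨τ, c, hc, rfl⟩ := mono_structure (mem_mono_of_cong (h _ e8_mem_W8))
    exact ⟨c, hc, τ, rfl, mono_set (by rw [H42.oct0_mem.2]; norm_num)
      fun i hi j hj hij => h _ (fp_mem_W8 hi hj hij)⟩
  · rintro ⟨c, hc, τ, rfl, h1, h2⟩
    have h3 : ∀ k ∈ toSet oct0, τ.1⁻¹ k = k := fun k hk => Equiv.Perm.inv_eq_iff_eq.2 (h1 k hk).symm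
    have h4 : ∀ k, τ.1⁻¹ k ∈ toSet oct0 ↔ k ∈ toSet oct0 := fun k =>
      ⟨fun h => by rw [← Equiv.Perm.eq_inv_iff_eq.1 (rfl : τ.1⁻¹ k = τ.1⁻¹ k), h1 _ h]; exact h,
        fun h => by rw [h3 k h]; exact h⟩
    refine ⟨co_ext fun v => Subtype.ext (funext fun k => ?_), ?_⟩
    · simp only [mul_smul, zt, signEl_apply, permEl_apply, h4]
      split_ifs <;> rfl
    · rintro n ⟨w, a⟩
      refine a.trans (cong.trans ?_ (a.symm.smul _))
      have h5 : permEl τ • (w - zt • w) = w - zt • w := Subtype.ext (funext fun k => by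
        rw [permEl_apply, dz_apply, dz_apply]
        by_cases r : k ∈ toSet oct0
        · rw [h3 k r]
        · rw [if_neg r, if_neg fun e => r ((h4 k).1 e)])
      rw [mul_smul, h5]
      have h6 := fun i hi => h2 i hi none none_mem_oct0
      by_cases p : none ∈ c
      · refine (cong_neg _).trans (cong_of_eq fun k => ?_)
        rw [signEl_apply, AddSubgroup.coe_neg, Pi.neg_apply, dz_apply]
        by_cases r : k ∈ toSet oct0
        · rw [if_pos ((h6 k r).2 p)]
        · rw [if_neg r]; split_ifs <;> rfl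
      · refine cong_of_eq fun k => ?_
        rw [signEl_apply, dz_apply]
        by_cases r : k ∈ toSet oct0
        · rw [if_neg (c := k ∈ c) fun e => p ((h6 k r).1 e)]
        · rw [if_neg r]; split_ifs <;> rfl
  · have : τ ∈ H42.fixS 8388671 := H42.mem_fixS.2 fun p hp =>
      (XE.base_sub p hp).elim (h1 p) fun e => e ▸ h2
    rwa [eq_bot_of_card_le _ XE.card_fix, mem_bot] at this

end Cfsg.Agent.H48.M2
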