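import Cfsg.Agent.H57.MPSC
import Cfsg.Agent.H43.HSO
import Cfsg.Agent.H43.HSM
import Cfsg.Agent.H42.Auts

/-! The Higman-Sims group is not the socle of a minimal parabolic. -/

set_option autoImplicit false
set_option maxRecDepth 1000000

namespace Cfsg.Agent.H57.MPS

open Subgroup Cfsg.Agent.H42 Cfsg.Agent.H46

theorem goodHS : Good (H43.grp 100 H43.HSM.E) :=
  good_perm (w := 7) (by decide) (by decide) H43.HSM.E_ok (m := 86625)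
    (near_base (H43.HSM.eq_lb ▸ H43.HSM.exact.isBase) 5)
    [[1, 0, 1, 0, 1, 0, 1, 0], [1, 1, 2, 1, 1, 1], [0, 0, 1, 0, 1, 0, 0, 1, 0, 1, 0, 0, 0], [1, 1, 1, 2, 1, 1, 1], [0, 0, 1, 0, 1, 1, 0, 1], [2, 2, 2, 1, 2], [1, 0, 1, 1, 0, 1, 1, 0], [2, 2, 1, 2], [2, 2, 0, 2, 5, 2, 3, 5, 8, 8, 7, 8], [4, 3, 1, 3, 5, 4, 7, 8, 7, 9, 4, 8], [4, 2, 7, 4, 5, 7, 8, 3, 11, 11, 11], [6, 4, 7, 7, 4, 6, 9, 5, 3, 11, 5], [4, 6, 7, 9, 9, 6, 8, 11, 6, 8, 12, 11, 6], [7, 7, 5, 7, 9, 6, 12, 11, 10, 14], [8, 9, 9, 11, 11, 6, 12, 13, 12, 15, 8], [8, 10, 9, 10, 11, 11, 13, 11, 7, 15, 14, 9], [8, 11, 11, 11, 13, 9, 13, 13, 15, 12, 11, 13, 16, 17, 12], [9, 12, 12, 12, 11, 14, 12, 10, 16, 15, 17, 17, 16, 17], [12, 12, 10, 12, 15, 13, 10, 17, 16, 16, 14, 18, 18, 16], [11, 14, 14, 14, 13, 16, 16, 15, 15, 18, 17, 17, 17, 19, 20, 13], [13, 15, 12, 19, 16,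 16, 19, 21, 15, 18], [16, 15, 14, 16, 17, 16, 13, 19, 20, 13, 22, 16, 20], [14, 17, 15, 19, 19, 15, 21, 22, 23, 22, 19], [19, 19, 16, 22, 19, 18], [17, 19, 16, 18, 19, 21, 21, 20, 20, 23, 18, 22], [20, 17, 19, 21, 24, 23, 18, 23, 25, 25, 23], [26, 27], [20, 22, 19, 24, 22, 20, 23, 26, 21, 25, 27, 25, 20], [21, 22, 22, 20, 25, 21, 26, 27, 20, 28, 29, 29, 23], [22, 23, 22, 24, 25, 24, 22, 27, 29, 27, 28], [23, 25, 24, 23, 25, 27, 26, 26, 23, 29, 28, 28, 28, 30, 31, 31, 25]]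
    [[1, 0, 0, 1], [4, 1, 1], [1, 0, 1, 1, 0, 1, 1], [1, 2, 1, 1, 1, 1], [0, 0, 1, 1, 1, 0, 1, 0, 0], [2, 1, 2, 1, 2, 1, 2, 2, 1, 2], [1, 0, 0, 1, 0, 1], [1, 2, 2, 1, 2, 1], [1, 3, 3, 1, 5, 0, 7, 2, 3, 8, 8, 0], [1, 4, 2, 3, 6, 6, 6, 1, 8, 4, 4, 9, 11, 7]]
    [22, 21, 20, 19, 18, 17, 16, 15, 14] [13, 12, 11] [10]
    [4, 5, 10, 16, 18, 21, 23, 31, 36, 43, 53, 58, 59, 78, 79, 84, 87, 91, 93, 99]
    [10, 21, 23, 78]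
    [([10, 23], [21, 78]), ([10], [23]), ([21], [78]), ([4, 16], [18, 53]), ([4], [16]), ([1, 94], [30, 90]), ([1], [94]), ([3], [42]), ([0], [62])]
    (nat_lit 0x4921ce29ae1dbfaf4301dbb46e057b3249ea93af9c45614d95afad13550143768983deb67e081620c95530ba10b468014b9ebeb61006e9638665b087514b258c9d6331528a9a88d460412863911e5d8320d4d5901c35e14)
    (nat_lit 0x49814599af2bd5771644ab6a5a4f0c96b5a573afd2585a8e21a6cf1346c5cc2b91a981ba7f0de808493f3021b8954ca3990b0e4c134f8e635f2c72e7542c4c4c511331474a8088d4604160c111605c7a07a1ea106cb5c27)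
    [9, 8] [7, 6] [7, 5, 4, 3, 2, 1] 0 0
    H43.HSM.card_grp (by decide) (by decide) (by decide +kernel)
    ((card_Out_congr H43.HSM.equiv).symm.trans H43.HSO.card_out)

end Cfsg.Agent.H57.MPS
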