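import Cfsg.Agent.H57.MPSC
import Cfsg.Agent.H46.J1
import Cfsg.Agent.H42.Auts

/-! The first Janko group is not the socle of a minimal parabolic. -/

set_option autoImplicit false
set_option maxRecDepth 1000000

namespace Cfsg.Agent.H57.MPS

open Subgroup Cfsg.Agent.H42 Cfsg.Agent.H46

theorem goodJ1 : Good (⊤ : Subgroup J1.G) :=
  good_coded J1.C (J1.matData.vecs (Equiv.refl _)) (act := J1.act) (ok := canonB 21 11 (7 * 1))
    (fun _ hv => ⟨_, J1.matData.P_dec _ (canon_of_canonB hv)⟩)
    (fun a g v x h1 h2 => J1.matData.P_act _ a g.1 v x h1 h2) (m := 21945)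
    (gens := [J1.gX, J1.gY])
    (List.forall_mem_cons.2 ⟨⟨_, trivial, J1.R_X⟩, List.forall_mem_cons.2 ⟨⟨_, trivial, J1.R_Y⟩,
      fun _ h => nomatch h⟩⟩) (more := []) (fun _ h => nomatch h)
    (fun H h => J1.closure_XY ▸ (closure_le H).2 (by
      rintro _ (rfl | rfl)
      exacts [(h _ (.head _)).mem J1.R_X, (h _ (.tail _ (.head _))).mem J1.R_Y]))
    [[0, 1, 1, 1, 1, 0], [1, 1, 1, 2, 1, 2], [2, 3, 0, 3, 0, 3, 3, 0, 3, 0], [2, 3, 2, 1, 2, 1], [0, 0, 1, 0, 0, 5, 2, 2, 5, 1], [1, 1, 1, 4, 4, 2, 3], [2, 3, 4, 5, 7, 7], [3, 3, 4, 3, 4, 7, 7, 4, 7, 7], [5, 4, 5, 5, 4, 8, 9, 4, 8, 5, 4], [6, 6, 5, 6, 7, 5, 6, 8]]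
    [[1, 1, 0, 2, 2, 0], [1, 3, 1, 3, 1, 3], [2, 4, 4, 2, 0, 1], [2, 2, 3, 2, 4], [0, 1, 0, 0, 4, 1, 0, 1, 4], [1, 2, 1, 2, 5, 4, 1, 1]]
    [5, 4, 3] [2, 1] [0]
    [0x20000600003800008000040000a, 0x1400003000028000040001400006, 0x40000a00000000008000200000c0000a, 0x40000a00003000030000040000600005, 0x40000a00008000040000180000c0000a, 0x4000100000500002800000000020000a, 0x80000400009000020000240001200002, 0x8000060000a000038000100000e00000, 0x80000800009000048000240000400009, 0x80000c000040000100000c0000200005, 0x80001200007000048000080001200002, 0xc0001000001000018000180000600000, 0xc0001400006000008000180001400000, 0x1000000000000000280001c0000e00000, 0x100000200000000038000240000800003, 0x100000e00005000038000180000a00007, 0x140000000001000008000280001000005, 0x1400000000030000180000c000100000a, 0x140000600001000040000280000c00005, 0x140000600008000018000040000800009, 0x140000e00004000038000140000e00006, 0x140001400006000040000180001400003, 0x180000000000000040000140000a00000, 0x180000a000020000400000c0000a00003, 0x180000c000040000380001c0000c00007, 0x180001200008000040000140000600005, 0x1c00000000080000380001c0001200001,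 0x1c0000600002000018000180000200003, 0x200000600006000040000140000a00009, 0x200000a00005000010000040001200007, 0x200001000006000030000280000200005, 0x200001400000000018000200000c00008, 0x240000400002000048000240001200004, 0x240000a00001000038000000000400001, 0x24000140000a000038000080000000005, 0x280000a000060000300000c0001400008, 0x280000c00001000028000280000000008, 0x280000e00006000010000240000600006, 0x280001200002000028000040000200009, 0x280001200008000018000100000c00003]
    [0x1000003000008000200000c00003, 0x40000000008000008000140001400005, 0x40000000008000018000140000600003, 0x40000600005000008000140000600006, 0x40001200000000048000000000000008, 0x100000400004000040000100000200000, 0x180001400000000040000040000c0000a, 0x200000200005000010000140000800009]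
    [([0x140000200006000050000000000600001, 0x200000600001000018000180001000000, 0x200000600003000040000040000a00000, 0x20000080000a0000000001c0001200004], [0x80001400002000038000200000a00006, 0x100000400002000008000000001400006, 0x100000c000050000200001c0000800005, 0x140000800004000000000100000000000]), ([0x200000600001000018000180001000000, 0x200000600003000040000040000a00000], [0x140000200006000050000000000600001, 0x20000080000a0000000001c0001200004]), ([0x200000600001000018000180001000000], [0x200000600003000040000040000a00000])]
    (fun _ _ => true) (by rw [card_top, J1.card_G]; rfl) (by decide) (by decide)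
    (by decide +kernel) (.inl ((card_Out_congr topEquiv).trans J1.card_out))

end Cfsg.Agent.H57.MPS
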