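import Cfsg.Agent.H57.MPSC
import Cfsg.Agent.S2066
import Cfsg.Agent.H42.Auts

/-! The second Janko group is not the socle of a minimal parabolic. -/

set_option autoImplicit false
set_option maxRecDepth 1000000

namespace Cfsg.Agent.H57.MPS

open Subgroup Cfsg.Agent.H42 Cfsg.Agent.H46

theorem goodJ2 : Good (H43.grp 100 H47.J2P.h_O) :=
  good_perm (w := 7) (by decide) (by decide) H47.J2P.h_O_ok (m := 4725)
    (H47.J2P.h_eq ▸ near_step (by decide) (near_step (by decide)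
      (near_orbit ((H47.J2P.h_exact.tail (by decide)).tail (by decide)))))
    [[0, 0, 0, 1], [3, 4, 3, 2, 4, 3, 1, 2, 4, 1, 4, 2], [0, 0, 1, 0, 0, 0, 0, 0], [2, 1, 1, 1, 1, 1, 2, 2, 1], [0, 0, 0, 0], [2, 1, 2], [3, 5, 3, 3, 9, 6], [2, 4, 1, 4, 4, 6, 5, 1, 10, 7, 5, 6], [5, 5, 2, 5, 5, 6, 7, 2, 10, 9, 5, 11, 9], [3, 7, 8, 8, 5, 12, 9, 11, 6], [5, 6, 6, 7, 9, 8, 7, 4, 13, 11, 12], [6, 7, 8, 10, 8, 8, 13, 9, 13, 14], [8, 8, 9, 8, 11, 10, 15, 8], [11, 11, 16, 9, 12], [8, 11, 9, 11, 12, 13, 13, 12, 16, 15, 12, 12], [12, 12, 10, 12, 13, 14, 14, 17, 13, 12, 10], [11, 13, 11, 13, 14, 15, 10, 18, 14, 17], [14, 13, 13, 13, 16, 15, 14, 16, 20, 14, 16], [15, 15, 12, 15, 15, 17, 16, 14, 21, 18, 16, 17], [15, 15, 16, 15, 18], [18, 19, 19], [18, 18, 16, 19], [19, 18, 18, 18, 21, 20, 17, 25, 24, 21, 20], [19, 20, 19, 22, 21, 21, 21, 20, 25, 26, 19], [19, 21, 20, 19,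 22, 23, 23, 23, 26, 25, 22, 21]]
    [[0, 0, 0, 1, 0, 2], [1, 3, 2], [1, 1, 1, 0, 0], [2, 2, 1, 1, 2, 1, 2, 1, 1], [0, 1, 1, 0, 1], [2, 2, 2, 2], [0, 3, 3], [2, 3, 2, 5, 2], [3, 4, 2, 4, 7, 3, 8, 8, 9, 6], [4, 6, 6, 6, 8, 7, 8, 9, 11, 5]]
    [18, 17, 16, 15, 14, 13, 12] [11, 10] [9]
    [11, 13, 16, 21, 48, 51, 57, 58, 64, 67, 68, 73, 75, 77, 85, 86, 89, 91, 94, 99]
    [11, 13, 16, 48, 57, 58, 73, 75, 77, 89, 94, 99]
    [([11, 99], [48, 75]), ([11], [99]), ([48], [75]), ([7, 33], [18, 62]), ([7], [33]), ([13], [57]), ([0], [50])]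
    (nat_lit 0xc6cabbbbaea74f87224c2b9599e252a95a8304dcb160026c683323c0b63ad55a6d451e5c36ca14e0c39b88f22cb7afdf4a283cca6be8902359616af0a192176f80d512224ae168e1b5e38048021611292107ea16a47680c)
    (nat_lit 0xc750a1a4e42fd78705ca2c35a0057e0cc01b9764c660b2cda8b218b3b7623c45cb57b2c17a6923645f13ab8a64b40ed0a3a34a9d06ea049d4899c250cf010f68654cf3810aab9c20b8d5509d0016f4b076a78f8a6c3074a)
    [8, 7, 6, 5] [4, 3] [4, 2, 1] 0 0
    ((Nat.card_congr H47.eH.toEquiv).symm.trans H47.card_J2) (by decide) (by decide)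
    (by decide +kernel) ((card_Out_congr H47.eH).symm.trans S2066.result)

end Cfsg.Agent.H57.MPS
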