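import Cfsg.Agent.H57.MPSM
import Cfsg.Agent.H57.MPSJ1
import Cfsg.Agent.H57.MPSJ2
import Cfsg.Agent.H57.MPSHS
import Cfsg.Agent.H57.MPSHe
import Cfsg.Agent.H57.MPSRu
import Cfsg.Agent.H93.QTMP

/-! The sporadic case of the minimal parabolic statement. -/

set_option autoImplicit false

namespace Cfsg.Agent.H57.MPS

open Subgroup Cfsg.Agent.H81.QT Cfsg.Agent.H93.QT

universe u

theorem isoJ4_of_mp {X : Type*} [Group X] [Finite X] {K : Subgroup X} {T : Sylow 2 X}
    {X₀ A : Subgroup X} (H : MP K T X₀ A) (hK : IsSporS K) : Spor.IsoJ4 K := by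
  rcases hK with k | k | k | k | k | k | k | k | k | k | k
  exacts [(good11.congr H42.equiv11.symm H k).elim, (good12.congr H42.equiv12.symm H k).elim,
    (good22.congr H42.equiv22.symm H k).elim, (good23.congr H42.equiv23.symm H k).elim,
    (good24.congr topEquiv.symm H k).elim, (goodJ1.congr topEquiv.symm H k).elim,
    (goodJ2.congr H47.eH H k).elim, k, (goodHS.congr H43.HSM.equiv H k).elim,
    (goodHe.congr equivHe H k).elim,
    (goodRu.congr (H46.Ru.equivGG.trans topEquiv.symm) H k).elim]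

theorem mpFor2_spor (hJ4 : MPFor2.{u} (fun S _ => Spor.IsoJ4 S)) :
    MPFor2.{u} (fun S _ => IsSporS S) :=
  fun X _ _ K T X₀ A H hK => hJ4 X K T X₀ A H (isoJ4_of_mp H hK)

theorem mpFor_spor (hJ4 : MPFor.{u} (fun S _ => Spor.IsoJ4 S)) :
    MPFor.{u} (fun S _ => IsSporS S) :=
  fun X _ _ K T X₀ A H hK => hJ4 X K T X₀ A H (isoJ4_of_mp H hK)

theorem mpFor2_spor_of_good {M : Type*} [Group M] (h : Good M) (e : Spor.J4 ≃* M) :
    MPFor2.{u} (fun S _ => IsSporS S) :=
  mpFor2_spor fun _ _ _ _ _ _ _ H hK => (h.congr e H hK).elim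

end Cfsg.Agent.H57.MPS
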