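import Cfsg.Agent.H57.MPSFin
import Cfsg.Agent.S2068

/-! The fourth Janko group is not the socle of a minimal parabolic. -/

set_option autoImplicit false

namespace Cfsg.Agent.H57.MPS

open Subgroup MulAction Cfsg.Agent.H42 Cfsg.Agent.H16.J4C Cfsg.Agent.H17.J4R
open scoped Pointwise

universe u

theorem card_BJ4 : Nat.card S0.B = 2 ^ 21 * 135 := by
  have h := fun i (hi : i < 13) => S0.gn_B hi
  let f : S0.dat.V × stabilizer M24 (famDec 6 Sx) → S0.B := fun p =>
    ⟨p.1 * S0.φ p.2, mul_mem (S0.V_le h p.1.2) (S0.φ_mem h p.2.2)⟩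
  have hf : Function.Bijective f := by
    constructor
    · rintro ⟨v, m⟩ ⟨w, n⟩ h
      have h1 : (v : Spor.J4) * S0.φ m = w * S0.φ n := congrArg Subtype.val h
      have h2 : S0.φ (m.1 * n.1⁻¹) = (v : Spor.J4)⁻¹ * w := by
        rw [map_mul, map_inv, eq_inv_mul_iff_mul_eq, ← mul_assoc, h1, mul_inv_cancel_right]
      have h3 : m = n := Subtype.ext (mul_inv_eq_one.mp (S0.dat.eq_one_of_cent S0.ne fun g hg => by
        rw [h2]; exact S0.dat.V_comm (mul_mem (inv_mem v.2) w.2) hg))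
      subst h3
      exact Prod.ext (Subtype.ext (mul_right_cancel h1)) rfl
    · rintro ⟨g, hg⟩
      obtain ⟨v, hv, m, hm, rfl⟩ := S0.mem_B hg
      exact ⟨(⟨v, hv⟩, ⟨m, hm⟩), rfl⟩
  rw [← Nat.card_eq_of_bijective f hf, Nat.card_prod, S0.dat.card_V S0.ne,
    card_stab_sextet (famDec_mem_sextets chk_sext.2.1)]
  rfl

theorem goodJ4 : Good (⊤ : Subgroup Spor.J4) := by
  haveI := finite_J4
  haveI := simple_J4
  refine good_of (Y₁ := S0.dat.H) (Y₂ := centralizer {S0.z}) (R := S0.B) (k := 21)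
    (m := 41377816699065) (by rw [card_top, H46.J4.hub.card]; rfl) (by decide) (by decide)
    (le_inf le_top le_rfl) (card_BJ4 ▸ dvd_mul_right _ _) (fun h => ?_) (fun h => ?_) ?_
    (.inl ((card_Out_congr topEquiv).trans S2068.result))
  · have h1 : S0.dat.H.index = 173067389 := H46.J4.hub.index_H
    rw [top_le_iff.1 h, index_top] at h1
    omega
  · have h1 : S0.z ∈ center Spor.J4 :=
      mem_center_iff.2 fun g => mem_centralizer_singleton_iff.1 (h (mem_top g))
    rcases (inferInstance : (center Spor.J4).Normal).eq_bot_or_eq_top with h2 | h2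
    · exact S0.z_ne (mem_bot.1 (h2 ▸ h1))
    · exact not_comm_J4 ⟨⟨fun a b => (mem_center_iff.1 (h2 ▸ mem_top b) a)⟩⟩
  · rw [top_inf_eq, top_inf_eq, ← closure_gens, closure_le]
    rintro _ (rfl | rfl | rfl)
    · exact mem_sup_left (phi_X ▸ S0.φ_H _)
    · exact mem_sup_left (phi_Y ▸ S0.φ_H _)
    · exact mem_sup_right (mem_centralizer_singleton_iff.2 (S0_t ▸ S0.rel_t.1))

theorem mpFor2_isSporS : H93.QT.MPFor2.{u} (fun S _ => H81.QT.IsSporS S) :=
  mpFor2_spor_of_good goodJ4 topEquiv.symm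

theorem mpFor_isSporS : H81.QT.MPFor.{u} (fun S _ => H81.QT.IsSporS S) := mpFor2_isSporS.mpFor

end Cfsg.Agent.H57.MPS
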