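import Cfsg.Agent.H89.OlDefs

/-!
# A maximal subgroup whose automizer does not preserve a given set
-/

set_option autoImplicit false

namespace Cfsg.Agent.H57.OlEss

open Subgroup Cfsg.Agent.H18 Cfsg.Agent.H17 Cfsg.Agent.H26.K64 MonoidAlgebra Cfsg.Agent.H89.Ol

universe u

section

variable {F : Type*} [Field F] {G : Type u} [Group G] {P Q : Subgroup G} {b e f : F[G]}
  {X : Set G}

/-- The automizer of `Q` does not preserve `X`. -/
def Bad (P : Subgroup G) (e : F[G]) (X : Set G) (Q : Subgroup G) : Prop :=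
  ∃ f, Sub 2 ⊤ Q f P e ∧ IsDefect 2 (NP ⊤ Q f) f (P ⊓ Nz Q) ∧
    ∃ n ∈ NP ⊤ Q f, ∃ x ∈ Q, x ∈ X ∧ n * x * n⁻¹ ∉ X

theorem keep [CharP F 2] [Finite G] (hb : IsPrim (fixAlg F ⊤ ⊤) b) (h : IsMaxPair 2 ⊤ b P e)
    {m : ℕ} (hm : ∀ R, Bad P e X R → Nat.card R ≤ m) (hs : Sub 2 ⊤ Q f P e) {g : G}
    (hs' : Sub 2 ⊤ (cs g Q) (cj g f) P e) (hQ : m < Nat.card Q) :
    ∀ x ∈ Q, (x ∈ X ↔ g * x * g⁻¹ ∈ X) := by
  refine h.fusion_induction hb
    (fun Q g => m < Nat.card Q → ∀ x ∈ Q, (x ∈ X ↔ g * x * g⁻¹ ∈ X)) ?_ ?_ ?_ ?_ hs trivial hs' hQ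
  · intro Q g k h1 h2 h3 x hx
    rw [h1 h3 x hx, h2 (by rwa [card_cs]) _ (conj_mem_cs.2 hx)]
    simp only [mul_assoc, mul_inv_rev]
  · intro Q g h1 h3 x hx
    rw [inv_inv, h1 (by rwa [card_cs] at h3) _ (mem_cs.1 hx)]
    simp [mul_assoc]
  · exact fun Q R g h1 h2 h3 x hx => h2 (h3.trans_le (card_le_of_le h1)) x (h1 hx)
  · intro Q f h1 hD t ht h3 x hx
    have k : ∀ n ∈ NP ⊤ Q f, ∀ x ∈ Q, x ∈ X → n * x * n⁻¹ ∈ X := fun n hn x hx h4 => by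
      by_contra h5
      exact h3.not_ge (hm Q ⟨f, h1, hD, n, hn, x, hx, h4, h5⟩)
    refine ⟨k t ht x hx, fun h4 => ?_⟩
    simpa [mul_assoc] using k _ (inv_mem ht) _ (conj_mem_of_mem_Nz' ht.1.2 hx) h4

end

theorem ess : ESSStmt.{u} := by
  intro G _ _ M B P e X u v s hf hu hv
  have := s.charP
  have hb := s.prim
  have h := s.max
  have hP := h.pairOf.pair
  have hne : {Q | Bad P e X Q}.Nonempty := by
    by_contra h1
    obtain ⟨uP, g, rfl, hg⟩ := hf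
    exact hv ((keep hb h (m := 0) (fun R hR => (h1 ⟨R, hR⟩).elim) (sub_esub' hP uP) hg
      Nat.card_pos u (mem_zpowers u)).1 hu)
  obtain ⟨Q, ⟨f, hs, hD, bad⟩, hmax⟩ :=
    Set.exists_max_image _ (fun Q : Subgroup G => Nat.card Q) (Set.toFinite _) hne
  refine ⟨Q, NP ⊤ Q f, hs.le, (NP_le ⊤ Q f).trans inf_le_right, hs.inf_Nz_le_NP hP,
    by simpa using (hs.left hP).C_le_NP, by simpa using (hs.left hP).not_dvd_relIndex hD, bad,
    fun n hn y hy hyQ h1 x hx hX => ?_⟩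
  have hR : Q ⊔ zpowers y ≤ P ⊓ Nz Q := sup_le (le_inf hs.le le_normalizer) (zpowers_le.2 hy)
  obtain ⟨r, hr⟩ := hP.exists_sub (hR.trans inf_le_left)
  obtain ⟨c, hc, h2⟩ := exists_extension_C hP hs hD hs hr le_sup_left (hR.trans inf_le_right)
    hn.1.1 (mem_Nz_iff_cs.1 hn.1.2) (NP_fix hn) (by
      rw [cs_sup, mem_Nz_iff_cs.1 hn.1.2, cs_zpowers, top_inf_eq]
      exact sup_le (le_sup_of_le_left (le_inf hs.le le_normalizer)) (zpowers_le.2 h1))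
  have h3 := (keep hb h hmax hr h2 (by
    have := card_le_half (left_lt_sup.2 fun h => hyQ (h (mem_zpowers y)) : Q < Q ⊔ zpowers y)
    have := Nat.card_pos (α := Q)
    omega) x (mem_sup_left hx)).1 hX
  have h4 := hc.2 _ (conj_mem_of_mem_Nz' hn.1.2 hx)
  have h5 : c * n * x * (c * n)⁻¹ = n * x * n⁻¹ := by
    calc c * n * x * (c * n)⁻¹ = c * (n * x * n⁻¹) * c⁻¹ := by group
      _ = _ := by rw [← h4, mul_inv_cancel_right]
  rwa [h5] at h3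

end Cfsg.Agent.H57.OlEss
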