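import Cfsg.Agent.H95.ParBase

/-! A subgroup of order at least `2 ^ 7` of the Leech lattice modulo two contains a frame. -/

set_option autoImplicit false

namespace Cfsg.Agent.H57.ParSub7

open Cfsg Cfsg.Agent.H48 Cfsg.Agent.H48.Rec Cfsg.Agent.H49
open Cfsg.Agent.H74.Ms (VV mkV nV T2L mk_eq mk_surj card_le_map)

theorem avoid (A : AddSubgroup VV) (S : Finset VV) (l : List VV)
    (h : l.length * S.card < Nat.card A) : ∃ x ∈ A, ∀ t ∈ l, t + x ∉ S := by
  classical
  by_contra hc
  push Not at hc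
  let B : Finset VV := l.toFinset.biUnion fun t => S.image fun s => s - t
  have h1 : B.card ≤ l.length * S.card := by
    refine (Finset.card_biUnion_le_card_mul _ _ S.card fun t _ => Finset.card_image_le).trans ?_
    exact Nat.mul_le_mul_right _ (List.toFinset_card_le l)
  have h2 : Nat.card A ≤ B.card := by
    rw [← Nat.card_eq_finsetCard]
    refine Nat.card_le_card_of_injective (fun x : A => (⟨x.1, ?_⟩ : B)) fun a b e =>
      Subtype.ext (congrArg (fun y => y.1) e)
    obtain ⟨t, ht, hs⟩ := hc x.1 x.2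
    exact Finset.mem_biUnion.2 ⟨t, List.mem_toFinset.2 ht,
      Finset.mem_image.2 ⟨_, hs, by abel⟩⟩
  omega

theorem sing (A : AddSubgroup VV) (S : Finset VV) (h : 4 * S.card < Nat.card A) :
    ∃ v : Lam, mkV v ∈ A ∧ mkV v ∉ S ∧ 32 ∣ sqNorm v.1 := by
  obtain ⟨a, ha, ha'⟩ := avoid A S [0] (by simp only [List.length_singleton]; omega)
  obtain ⟨b, hb, hb'⟩ := avoid A S [0, a] (by simp only [List.length_cons, List.length_nil]; omega)
  obtain ⟨c, hc, hc'⟩ := avoid A S [0, a, b, a + b]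
    (by simp only [List.length_cons, List.length_nil]; omega)
  obtain ⟨a, rfl⟩ := mk_surj a
  obtain ⟨b, rfl⟩ := mk_surj b
  obtain ⟨c, rfl⟩ := mk_surj c
  have a1 := ha' 0 (by simp)
  have b1 := hb' 0 (by simp)
  have b2 := hb' (mkV a) (by simp)
  have c1 := hc' 0 (by simp)
  have c2 := hc' (mkV a) (by simp)
  have c3 := hc' (mkV b) (by simp)
  have c4 := hc' (mkV a + mkV b) (by simp)
  rw [zero_add] at a1 b1 c1
  rw [← map_add] at b2 c2 c3
  rw [← map_add, ← map_add] at c4
  by_contra hn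
  push Not at hn
  have n1 := hn a ha a1
  have n2 := hn b hb b1
  have n3 := hn c hc c1
  have n4 := hn (a + b) (by rw [map_add]; exact add_mem ha hb) b2
  have n5 := hn (a + c) (by rw [map_add]; exact add_mem ha hc) c2
  have n6 := hn (b + c) (by rw [map_add]; exact add_mem hb hc) c3
  have n7 := hn (a + b + c) (by rw [map_add, map_add]; exact add_mem (add_mem ha hb) hc) c4
  simp only [AddSubgroup.coe_add, sqNorm_add, H48.dotInt_add_left] at n4 n5 n6 n7
  have := sixteen_dvd_sqNorm a.2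
  have := sixteen_dvd_sqNorm b.2
  have := sixteen_dvd_sqNorm c.2
  have := eight_dvd_dot a.2 b.2
  have := eight_dvd_dot a.2 c.2
  have := eight_dvd_dot b.2 c.2
  omega

/-- the form with a fixed vector, modulo two -/
def pf (u : Lam) : Lam →+ ZMod 2 :=
  AddMonoidHom.mk' (fun v => ((dotInt v.1 u.1 / 8 : ℤ) : ZMod 2)) fun v w => by
    rw [← Int.cast_add]
    congr 1
    have := eight_dvd_dot v.2 u.2
    have := eight_dvd_dot w.2 u.2
    simp only [AddSubgroup.coe_add, H48.dotInt_add_left]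
    omega

theorem pf_eq {u v : Lam} : pf u v = 0 ↔ 16 ∣ dotInt v.1 u.1 := by
  show ((dotInt v.1 u.1 / 8 : ℤ) : ZMod 2) = 0 ↔ _
  rw [ZMod.intCast_zmod_eq_zero_iff_dvd]
  have := eight_dvd_dot v.2 u.2
  push_cast
  omega

/-- the same on the quotient -/
def pv (u : Lam) : VV →+ ZMod 2 :=
  QuotientAddGroup.lift T2L (pf u) fun v hv => by
    have h : cong 0 v := hv
    have := h.dot_mod u
    rw [AddMonoidHom.mem_ker, pf_eq]
    simpa [dotInt] using this

theorem pv_mk {u v : Lam} : mkV v ∈ (pv u).ker ↔ 16 ∣ dotInt v.1 u.1 := pf_eq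

theorem half (A : AddSubgroup VV) (u : Lam) :
    Nat.card A ≤ Nat.card (A ⊓ (pv u).ker : AddSubgroup VV) * 2 := by
  refine (card_le_map (pv u) le_rfl).trans (Nat.mul_le_mul_left _ ?_)
  have := Nat.card_le_card_of_injective _ (A.map (pv u)).subtype_injective
  rwa [Nat.card_zmod] at this

theorem sub7 : Cfsg.Agent.H95.Par.Sub7Stmt := by
  classical
  intro W hW
  by_contra hn
  push Not at hn
  -- short singular vectors
  have sh : ∀ (A : AddSubgroup VV) (S : Finset VV), A ≤ W → 0 ∈ S → 4 * S.card < Nat.card A →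
      ∃ v : Lam, mkV v ∈ A ∧ mkV v ∉ S ∧ sqNorm v.1 = 32 := by
    intro A S hA h0 h
    obtain ⟨v, h1, h2, h3⟩ := sing A S h
    obtain ⟨y, c, hy⟩ := short_all v
    rw [mk_eq.2 c] at h1 h2
    refine ⟨y, h1, h2, ?_⟩
    have := c.norm_mod
    rcases norm_cases y.2 hy with e | e | e | e
    · refine absurd ?_ h2
      have : y = 0 := Subtype.ext e
      rw [this, map_zero]; exact h0
    · exact e
    · omega
    · exact absurd (hA h1) (hn y e)
  have dt : ∀ v w : Lam, mkV v ∈ W → mkV w ∈ W → sqNorm v.1 = 32 → sqNorm w.1 = 32 →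
      16 ∣ dotInt v.1 w.1 → mkV v ≠ mkV w → dotInt v.1 w.1 = 16 ∨ dotInt v.1 w.1 = -16 := by
    intro v w hv hw nv nw d ne
    have h1 : v - w ≠ 0 := fun e => ne (by rw [sub_eq_zero.1 e])
    have h2 : v + w ≠ 0 := fun e => ne (by
      rw [eq_neg_of_add_eq_zero_left e]; exact (mk_eq.2 (cong_neg w)).symm)
    have h3 := lam_min_norm h1
    have h4 := lam_min_norm h2
    have h5 : sqNorm (v + w).1 ≠ 64 := fun e => hn _ e (by rw [map_add]; exact add_mem hv hw)
    simp only [AddSubgroup.coe_add, AddSubgroup.coe_sub, sqNorm_add, sqNorm_sub] at h3 h4 h5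
    omega
  obtain ⟨a, ha, -, na⟩ := sh W {0} le_rfl (by simp) (by simp only [Finset.card_singleton]; omega)
  have k1 := half W a
  obtain ⟨b, hb, sb, nb⟩ := sh (W ⊓ (pv a).ker) {0, mkV a} inf_le_left (by simp)
    (by have := Finset.card_le_two (a := (0 : VV)) (b := mkV a); omega)
  have k2 := half (W ⊓ (pv a).ker) b
  obtain ⟨c, hc, sc, nc⟩ := sh (W ⊓ (pv a).ker ⊓ (pv b).ker) {0, mkV a, mkV b, mkV (a + b)}
    (inf_le_left.trans inf_le_left) (by simp)
    (by have := Finset.card_le_four (a := (0 : VV)) (b := mkV a) (c := mkV b) (d := mkV (a + b))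
        omega)
  simp only [Finset.mem_insert, Finset.mem_singleton, not_or] at sb sc
  have ba := pv_mk.1 hb.2
  have ca := pv_mk.1 hc.1.2
  have cb := pv_mk.1 hc.2
  have d1 := dt b a hb.1 ha nb na ba sb.2
  have d2 := dt c a hc.1.1 ha nc na ca sc.2.1
  have d3 := dt c b hc.1.1 hb.1 nc nb cb sc.2.2.1
  rw [dotInt_comm] at d1
  rcases d1 with d1 | d1
  · have := dt c (a - b) hc.1.1 (by rw [map_sub]; exact sub_mem ha hb.1) nc
      (by rw [AddSubgroup.coe_sub, sqNorm_sub]; omega)
      (by rw [AddSubgroup.coe_sub, H48.dotInt_sub_right]; omega)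
      (by rw [← mk_eq.2 (cong_add_sub a b)]; exact sc.2.2.2)
    rw [AddSubgroup.coe_sub, H48.dotInt_sub_right] at this
    omega
  · have := dt c (a + b) hc.1.1 (by rw [map_add]; exact add_mem ha hb.1) nc
      (by rw [AddSubgroup.coe_add, sqNorm_add]; omega)
      (by rw [AddSubgroup.coe_add, H48.dotInt_add_right]; omega) sc.2.2.2
    rw [AddSubgroup.coe_add, H48.dotInt_add_right] at this
    omega

end Cfsg.Agent.H57.ParSub7
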