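import Cfsg.Agent.H42.PcDefs

set_option autoImplicit false

namespace Cfsg.Agent.H57.PcOrb

open MulAction Cfsg.Agent.H42.Pc

universe u

theorem card_eq_sum (S Ω : Type u) [Group S] [MulAction S Ω] [Finite Ω]
    [Fintype (orbitRel.Quotient S Ω)] :
    Nat.card Ω = ∑ ω : orbitRel.Quotient S Ω, Nat.card (orbit S ω.out) := by
  rw [Nat.card_congr (selfEquivSigmaOrbits S Ω), Nat.card_sigma]

theorem orb_mul (S Ω : Type u) [Group S] [MulAction S Ω] (x : Ω) :
    Nat.card (orbit S x) * Nat.card (stabilizer S x) = Nat.card S := by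
  rw [← Nat.card_prod]; exact Nat.card_congr (orbitProdStabilizerEquivGroup S x)

theorem orb : OrbStmt.{u} := by
  intro S Ω _ _ _ _ T A c l hT hl hΩ hc hA hTA hcov x hx s hs
  classical
  let B : SubMulAction T Ω := ⟨A, fun t {x} hx => hTA x hx t t.2⟩
  have := Fintype.ofFinite (orbitRel.Quotient S Ω)
  have := Fintype.ofFinite (orbitRel.Quotient T B)
  have : Fact (Nat.Prime 2) := ⟨Nat.prime_two⟩
  obtain ⟨nu, hnu0⟩ : ∃ nu, nu = Nat.card (orbitRel.Quotient S Ω) := ⟨_, rfl⟩
  have h1 : Nat.card Ω * c = nu * Nat.card S := by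
    rw [card_eq_sum S Ω, Finset.sum_mul]
    rw [Finset.sum_congr rfl (fun ω _ => by rw [← hc ω.out, orb_mul])]
    simp [hnu0]
  have : Nonempty Ω := ⟨x⟩
  have hΩpos : 0 < Nat.card Ω := Nat.card_pos
  have hcl : c = nu * l := by
    apply Nat.eq_of_mul_eq_mul_left hΩpos
    rw [h1, ← hΩ]; ring
  have hnu : 0 < nu := by
    rw [hnu0]
    have : Nonempty (orbitRel.Quotient S Ω) := ⟨Quotient.mk _ x⟩
    exact Nat.card_pos
  have h2 : ∀ b : B, Nat.card T ≤ Nat.card (orbit T b) * nu := by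
    intro b
    rw [← orb_mul T B b]
    apply Nat.mul_le_mul_left
    have hd : Nat.card (stabilizer T b) ∣ c := by
      rw [← hc (b : Ω)]
      let φ : stabilizer T b →* stabilizer S (b : Ω) :=
        (T.subtype.comp (stabilizer T b).subtype).codRestrict _ (fun t => by
          have h := congrArg Subtype.val (mem_stabilizer_iff.1 t.2)
          exact mem_stabilizer_iff.2 h)
      refine Subgroup.card_dvd_of_injective φ ?_
      intro a b hab
      have h := congrArg Subtype.val hab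
      exact Subtype.ext (Subtype.ext h)
    obtain ⟨k, hk⟩ := IsPGroup.iff_card.1 (hT.to_subgroup (stabilizer T b))
    rw [hk] at hd ⊢
    rw [hcl] at hd
    exact Nat.le_of_dvd hnu
      ((Nat.Coprime.pow_left k (Nat.coprime_two_left.2 hl)).dvd_of_dvd_mul_right hd)
  have h3 : Nat.card (orbitRel.Quotient T B) * Nat.card T ≤ nu * Nat.card T := by
    have hB : Nat.card B = Nat.card T := hA
    calc Nat.card (orbitRel.Quotient T B) * Nat.card T
        = ∑ _ω : orbitRel.Quotient T B, Nat.card T := by simp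
      _ ≤ ∑ ω : orbitRel.Quotient T B, Nat.card (orbit T ω.out) * nu :=
          Finset.sum_le_sum (fun ω _ => h2 ω.out)
      _ = Nat.card B * nu := by rw [← Finset.sum_mul, ← card_eq_sum T B]
      _ = nu * Nat.card T := by rw [hB, mul_comm]
  have h4 : Nat.card (orbitRel.Quotient T B) ≤ Nat.card (orbitRel.Quotient S Ω) := by
    rw [← hnu0]
    exact Nat.le_of_mul_le_mul_right h3 Nat.card_pos
  let f : orbitRel.Quotient T B → orbitRel.Quotient S Ω :=
    Quotient.map (fun b => (b : Ω)) (by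
      intro a b hab
      obtain ⟨t, ht⟩ := orbitRel_apply.1 hab
      exact orbitRel_apply.2 ⟨(t : S), congrArg Subtype.val ht⟩)
  have hf : Function.Surjective f := by
    intro ω
    obtain ⟨y, rfl⟩ := Quotient.exists_rep ω
    obtain ⟨s', hs'⟩ := hcov y
    refine ⟨Quotient.mk _ ⟨s' • y, hs'⟩, ?_⟩
    exact Quotient.sound (orbitRel_apply.2 ⟨s', rfl⟩)
  have hinj := (hf.bijective_of_nat_card_le h4).1
  have h5 : f (Quotient.mk _ ⟨s • x, hs⟩) = f (Quotient.mk _ ⟨x, hx⟩) :=
    Quotient.sound (orbitRel_apply.2 ⟨s, rfl⟩)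
  obtain ⟨t, ht⟩ := orbitRel_apply.1 (Quotient.exact (hinj h5))
  exact ⟨t, t.2, congrArg Subtype.val ht⟩

end Cfsg.Agent.H57.PcOrb
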