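import Mathlib
import Cfsg.Agent.H1.SpD

/-!
# Realizability of the standard form in characteristic two
-/

set_option autoImplicit false

namespace Cfsg.Agent.H57.SpEM

open Subgroup Cfsg.Agent.H83 Cfsg.Agent.H97 Cfsg.Agent.H1.SP
open Matrix.GeneralLinearGroup (det)

universe u

variable {K : Type u} [Field K]

theorem det_th (g : U K) : det (th g) = 1 := Units.ext (by
  rw [Matrix.GeneralLinearGroup.val_det_apply, th_val, Matrix.det_fin_three]; simp)

theorem th_eq_one {g : U K} : th g = 1 ↔ g ∈ Z K := by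
  constructor
  · intro h
    have h1 := congrArg Units.val h
    rw [th_val] at h1
    exact ⟨by simpa using congrFun (congrFun h1 0) 1, by simpa using congrFun (congrFun h1 1) 2,
      by simpa using congrFun (congrFun h1 0) 2⟩
  · rintro ⟨h1, h2, h3⟩
    refine Units.ext ?_
    rw [th_val, h1, h2, h3]
    ext i j; fin_cases i <;> fin_cases j <;> simp

theorem card_range : Nat.card (th (K := K)).range = Nat.card K ^ 3 := by
  have : Function.Bijective fun x : K × K × K =>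
      (⟨th ⟨x.1, x.2.1, x.2.2, 0⟩, _, rfl⟩ : (th (K := K)).range) := by
    constructor
    · intro x y e
      have h1 := congrArg (fun a : (th (K := K)).range => a.1.1) e
      simp only [th_val] at h1
      exact Prod.ext (by simpa using congrFun (congrFun h1 0) 1) (Prod.ext
        (by simpa using congrFun (congrFun h1 1) 2) (by simpa using congrFun (congrFun h1 0) 2))
    · rintro ⟨_, g, rfl⟩
      exact ⟨(g.t, g.u, g.v), Subtype.ext (Units.ext rfl)⟩
  rw [← Nat.card_congr (Equiv.ofBijective _ this), Nat.card_prod, Nat.card_prod]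
  ring

theorem odd_index [Finite K] [CharP K 2] : Odd (th (K := K)).range.index := by
  have := Fintype.ofFinite K
  obtain ⟨n, -, hn⟩ := FiniteField.card K 2
  have h := (th (K := K)).range.card_mul_index
  rw [card_range, Matrix.card_GL_field, Fin.prod_univ_three, Nat.card_eq_fintype_card] at h
  have hq : Even (Fintype.card K) := by
    rw [hn]; exact (Nat.even_pow' n.ne_zero).2 even_two
  obtain ⟨m, hm⟩ : ∃ m, Fintype.card K = m + 1 := ⟨_, (Nat.succ_pred Fintype.card_ne_zero).symm⟩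
  rw [hm] at h hq
  have hm' : Odd m := by simpa [Nat.even_add_one] using hq
  have e1 : (m + 1) ^ 3 - (m + 1) ^ ((0 : Fin 3) : ℕ) = m * ((m + 1) * (m + 2) + 1) :=
    Nat.sub_eq_of_eq_add (by simp; ring)
  have e2 : (m + 1) ^ 3 - (m + 1) ^ ((1 : Fin 3) : ℕ) = (m + 1) * (m * (m + 2)) :=
    Nat.sub_eq_of_eq_add (by simp; ring)
  have e3 : (m + 1) ^ 3 - (m + 1) ^ ((2 : Fin 3) : ℕ) = (m + 1) ^ 2 * m :=
    Nat.sub_eq_of_eq_add (by simp; ring)
  rw [e1, e2, e3] at h
  have e : (th (K := K)).range.index = m * ((m + 1) * (m + 2) + 1) * (m * (m + 2)) * m :=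
    Nat.eq_of_mul_eq_mul_left (show 0 < (m + 1) ^ 3 by positivity) (h.trans (by ring))
  rw [e]
  exact ((hm'.mul (hq.mul_right _).add_one).mul (hm'.mul (hm'.add_even even_two))).mul hm'

/-- The multiplication of the last coordinate by a scalar. -/
def rho (N : Subgroup (U K)) (h : ∀ g, g ∈ N ↔ g ∈ Z K) : Kˣ →* MulAut N :=
  MonoidHom.mk' (fun δ =>
    { toFun a := ⟨⟨0, 0, 0, δ * a.1.w⟩, (h _).2 ⟨rfl, rfl, rfl⟩⟩
      invFun a := ⟨⟨0, 0, 0, (δ⁻¹ : Kˣ) * a.1.w⟩, (h _).2 ⟨rfl, rfl, rfl⟩⟩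
      left_inv a := by
        obtain ⟨h1, h2, h3⟩ := (h _).1 a.2
        ext <;> simp [h1, h2, h3]
      right_inv a := by
        obtain ⟨h1, h2, h3⟩ := (h _).1 a.2
        ext <;> simp [h1, h2, h3]
      map_mul' a b := by
        obtain ⟨h1, -, -⟩ := (h _).1 a.2
        ext <;> simp [h1, mul_add] })
    fun a b => by ext <;> simp [mul_assoc]

theorem rho_apply (N : Subgroup (U K)) (h : ∀ g, g ∈ N ↔ g ∈ Z K) (δ : Kˣ) (a : N) :
    (rho N h δ a).1 = ⟨0, 0, 0, δ * a.1.w⟩ := rfl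

theorem grp [CharP K 2] : IsPGroup 2 (U K) := fun g => ⟨2, by
  have h2 : (2 : K) = 0 := CharP.ofNat_eq_zero K 2
  have a : ∀ x : K, x + x = 0 := fun x => by rw [← two_mul, h2, zero_mul]
  have : g ^ 2 ^ 2 = g * g * (g * g) := by simp [pow_succ, mul_assoc]
  rw [this]
  ext <;> simp [a]⟩

theorem emStmt (et : EtStmt.{u}) (h1 : H1Stmt.{u}) (h2 : H2Stmt.{u}) (rg : RgStmt.{u})
    (tw : TwStmt.{u}) : EmStmt.{u} := by
  intro K _ _ _ F hF
  obtain ⟨h3, Δ, hT⟩ := et K F hF
  have : Fact (Nat.Prime 2) := ⟨Nat.prime_two⟩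
  let L : Subgroup (GL (Fin 3) K) := Δ.comap det
  have hL : ∀ g : U K, th g ∈ L := fun g => by
    change det (th g) ∈ Δ
    rw [det_th]; exact one_mem _
  let θ : U K →* L := th.codRestrict L hL
  have hk : ∀ g, g ∈ θ.ker ↔ g ∈ Z K := fun g => by
    rw [MonoidHom.mem_ker, ← th_eq_one, Subtype.ext_iff]; rfl
  have hk' : θ.ker = Z K := SetLike.ext hk
  refine tw (U K) L 2 grp F hF.sat θ (fun a ha => ?_) (hk' ▸ hF.nrm) ?_
    ((rho θ.ker hk).comp (invMonoidHom.comp (det.comp L.subtype))) (fun s => ?_)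
    (fun P f _ hf => ?_) (fun P g hP hg => ?_) fun γ a b c => ?_
  · obtain ⟨a1, a2, a3⟩ := (hk a).1 ha
    exact mem_center_iff.2 fun g => by ext <;> simp [a1, a2, a3, add_comm]
  · have hle : (th (K := K)).range ≤ L := by rintro _ ⟨g, rfl⟩; exact hL g
    rw [← MonoidHom.subgroupOf_range_eq_of_le _ hle, ← even_iff_two_dvd, Nat.not_even_iff_odd]
    exact odd_index.of_dvd_nat (relIndex_dvd_index_of_le hle)
  · change rho θ.ker hk (det (th s))⁻¹ = 1
    rw [det_th, inv_one, map_one]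
  · obtain ⟨g, a, b, c⟩ := h1 K F Δ hF h3 hT P f hf
    exact ⟨⟨g, a⟩, fun x hx => Subtype.ext (b x hx), fun x => c x (‹θ.ker ≤ P› x.2) ((hk _).1 x.2)⟩
  · obtain ⟨f, a, b, c⟩ := h2 K F Δ hF h3 hT P g g.2 (hk' ▸ hP) fun x hx =>
      let ⟨y, hy⟩ := hg x hx; ⟨y, congrArg Subtype.val hy⟩
    exact ⟨f, a, fun x hx => Subtype.ext (b x hx), fun x => c x (hP x.2) ((hk _).1 x.2)⟩
  · rw [rg K F hF γ (fun x => congrArg Subtype.val (a x)) (hk' ▸ b) (hk' ▸ c)]
    exact mor_id F le_rfl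

end Cfsg.Agent.H57.SpEM
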