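import Cfsg.Agent.Lead.T3Defs

/-! The interface between the two halves of the classification of Coxeter diagrams. -/

set_option autoImplicit false

namespace Cfsg.Agent.H57.T3Cls

open Cfsg.Agent.Lead.T3

/-- **CLS1**: the cosine form of a finite connected Coxeter system is positive definite. -/
def PdStmt : Prop := All0 fun {I _} _ _ X => ∀ [Fintype I],
  (∀ J : Set I, J.Nonempty → Jᶜ.Nonempty → ∃ i ∈ J, ∃ j ∉ J, X.m i j ≠ 2) →
    ∀ x : I → ℝ, x ≠ 0 → 0 < ∑ i, ∑ j, x i * x j * (-Real.cos (Real.pi / X.m i j))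

end Cfsg.Agent.H57.T3Cls
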