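import Cfsg.Agent.H97.U5Defs

/-! The images of the point `P` under the automizer of `Q` form one orbit under `AW`. -/

set_option autoImplicit false

namespace Cfsg.Agent.H57.U5W2

open Subgroup Cfsg.Agent.H97.U5

universe u

variable {K : Type u} [Field K] {T : Hm K} {p : ℕ} {Γ : Subgroup (Equiv.Perm (W K))}

theorem tau_eq (s r c y : K) : tauW T s r c (y, 0, 0) = (y, s * T.σ y, r * T.σ y + c * y) := by
  simp [tauW_apply]

/-- `g P` is the graph with the parameters `s r c` -/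
def Gr (T : Hm K) (g : Equiv.Perm (W K)) (s r c : K) : Prop :=
  ∀ w, (∃ x, w = g (0, 0, x)) ↔ ∃ y, w = tauW T s r c (y, 0, 0)

theorem perp_inv (h : WG T p Γ) {g : Equiv.Perm (W K)} (hg : g ∈ Γ) {x y : W K}
    (e : Perp T x (g y)) : Perp T (g⁻¹ x) y := by
  simpa using h.perp _ (inv_mem hg) _ _ e

theorem smul_mem (h : WG T p Γ) {g : Equiv.Perm (W K)} (hg : g ∈ Γ) {l : K} (hl : T.σ l = l)
    (x : K) : ∃ y, l • g (0, 0, x) = g (0, 0, y) := by
  have := perp_perp_P.1 fun a b => perp_inv h hg (x := l • g (0, 0, x)) (y := (0, b, a))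
    (Perp.smul hl (h.perp g hg _ _ (perp_perp_P.2 ⟨rfl, rfl⟩ a b)))
  refine ⟨(g⁻¹ (l • g (0, 0, x))).2.2, ?_⟩
  have e : g⁻¹ (l • g (0, 0, x)) = (0, 0, (g⁻¹ (l • g (0, 0, x))).2.2) :=
    Prod.ext this.1 (Prod.ext this.2 rfl)
  rw [← e]; simp

theorem add_P (h : WG T p Γ) {g : Equiv.Perm (W K)} (hg : g ∈ Γ) (x y : K) :
    g (0, 0, x + y) = g (0, 0, x) + g (0, 0, y) := by
  rw [← h.add g hg]; simp

theorem graph [Finite K] (h : WG T p Γ) (o : Opp T Γ) {g : Equiv.Perm (W K)} (hg : g ∈ Γ)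
    (hn : g ∉ normalizer (AW T : Set (Equiv.Perm (W K)))) :
    ∃ u ∈ AW T, ∃ s r c, Gr T (u * g) s r c := by
  have inj : Function.Injective fun x => (g (0, 0, x)).1 := fun x y e => by
    by_contra ne
    refine o g hg hn (x - y) (sub_ne_zero.2 ne) ?_
    have := congrArg Prod.fst (add_P h hg (x - y) y)
    rw [sub_add_cancel, Prod.fst_add] at this
    simp only at e
    linear_combination e - this
  have sur := Finite.surjective_of_injective inj
  obtain ⟨x1, h1⟩ := sur 1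
  obtain ⟨x2, h2⟩ := sur T.om
  simp only at h1 h2
  have ep : T.om - T.σ T.om ≠ 0 := T.ep_ne
  have ep' : T.σ T.om - T.om ≠ 0 := sub_ne_zero.2 T.om_ne
  have key : ∀ x, g (0, 0, x) =
      ((g (0, 0, x)).1 - ((g (0, 0, x)).1 - T.σ (g (0, 0, x)).1) / (T.om - T.σ T.om) * T.om) •
        g (0, 0, x1) +
      (((g (0, 0, x)).1 - T.σ (g (0, 0, x)).1) / (T.om - T.σ T.om)) • g (0, 0, x2) := fun x => by
    set γ := (g (0, 0, x)).1 with hγ
    obtain ⟨y1, e1⟩ := smul_mem h hg (l := γ - (γ - T.σ γ) / (T.om - T.σ T.om) * T.om) (by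
      simp only [map_sub, map_mul, map_div₀, T.inv]; field_simp; ring) x1
    obtain ⟨y2, e2⟩ := smul_mem h hg (l := (γ - T.σ γ) / (T.om - T.σ T.om)) (by
      simp only [map_sub, map_div₀, T.inv]; field_simp; ring) x2
    have e3 : x = y1 + y2 := inj (by
      simp only
      rw [add_P h hg, ← e1, ← e2, Prod.fst_add, Prod.smul_fst, Prod.smul_fst, h1, h2, ← hγ,
        smul_eq_mul, smul_eq_mul]
      ring)
    rw [e1, e2, ← add_P h hg, ← e3]
  set b1 := (g (0, 0, x1)).2.1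
  set b2 := (g (0, 0, x2)).2.1
  set a1 := (g (0, 0, x1)).2.2
  set a2 := (g (0, 0, x2)).2.2
  set e := T.om - T.σ T.om
  obtain ⟨b, hb⟩ := T.exists_tr (c := -((b1 + (b2 - T.om * b1) / e) * T.σ (b1 + (b2 - T.om * b1) / e)))
    (by rw [map_neg, map_mul, T.inv, mul_comm])
  have gr : ∀ x, (uW T (b1 + (b2 - T.om * b1) / e) b * g) (0, 0, x) =
      tauW T (-((b2 - T.om * b1) / e))
        (-((a2 - T.om * a1) / e) - T.σ (b1 + (b2 - T.om * b1) / e) * ((b2 - T.om * b1) / e))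
        (a1 + (a2 - T.om * a1) / e + T.σ (b1 + (b2 - T.om * b1) / e) * (b1 + (b2 - T.om * b1) / e)
          + T.σ b) ((g (0, 0, x)).1, 0, 0) := fun x => by
    have k1 := congrArg (fun w => w.2.1) (key x)
    have k2 := congrArg (fun w => w.2.2) (key x)
    simp only [Prod.snd_add, Prod.fst_add, Prod.smul_snd, Prod.smul_fst, smul_eq_mul] at k1 k2
    rw [Equiv.Perm.mul_apply, uW_apply, tau_eq, k1, k2]
    refine Prod.ext rfl (Prod.ext ?_ ?_) <;> simp only <;> ring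
  exact ⟨_, ⟨b1 + (b2 - T.om * b1) / e, b, by rw [hb, neg_add_cancel], rfl⟩, _, _, _,
    fun w => ⟨fun ⟨x, hx⟩ => ⟨_, hx.trans (gr x)⟩, fun ⟨y, hy⟩ => by
      obtain ⟨x, rfl⟩ := sur y
      exact ⟨x, hy.trans (gr x).symm⟩⟩⟩

theorem iso (h : WG T p Γ) {g : Equiv.Perm (W K)} (hg : g ∈ Γ) {s r c : K} (G : Gr T g s r c) :
    c + T.σ c = s * T.σ s := by
  obtain ⟨x, hx⟩ := (G _).2 ⟨T.om, rfl⟩
  obtain ⟨y, hy⟩ := (G _).2 ⟨1, rfl⟩
  have := h.perp g hg (0, 0, x) (0, 0, y) (perp_P.2 rfl y)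
  rw [← hx, ← hy, tau_eq, tau_eq] at this
  simp only [Perp, hm, map_add, map_mul, map_one, T.inv] at this
  have ep : T.om - T.σ T.om ≠ 0 := T.ep_ne
  refine mul_left_cancel₀ ep ?_
  linear_combination this

theorem key (h : WG T p Γ) (o : Opp T Γ) {g g' : Equiv.Perm (W K)} (hg : g ∈ Γ) (hg' : g' ∈ Γ)
    {s r c s' r' c' : K} (G : Gr T g s r c) (G' : Gr T g' s' r' c') {a b γ : K}
    (hab : b + T.σ b + a * T.σ a = 0) (h0 : γ ≠ 0)
    (e : γ * (T.σ r' - T.σ r - a * (T.σ s + T.σ s')) + T.σ γ * (s * T.σ s' - T.σ c - c' - b) = 0)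
    (w : W K) : (∃ x, w = g' (0, 0, x)) ↔ ∃ y, w = uW T a b (tauW T s r c (y, 0, 0)) := by
  obtain ⟨x0, hx⟩ := (G _).2 ⟨γ, rfl⟩
  have hk : g'⁻¹ * uW T a b * g ∈ Γ := mul_mem (mul_mem (inv_mem hg') (h.le ⟨a, b, hab, rfl⟩)) hg
  have x1 : x0 ≠ 0 := fun e0 => by
    have := add_P h hg 0 0
    rw [add_zero, left_eq_add] at this
    rw [e0, this, tau_eq] at hx
    exact h0 (congrArg Prod.fst hx)
  have kn : g'⁻¹ * uW T a b * g ∈ normalizer (AW T : Set (Equiv.Perm (W K))) := by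
    by_contra hn
    refine o _ hk hn x0 x1 ((perp_P (T := T)).1 fun x => ?_)
    rw [Equiv.Perm.mul_apply, Equiv.Perm.mul_apply]
    refine perp_inv h hg' ?_
    obtain ⟨δ, hδ⟩ := (G' _).1 ⟨x, rfl⟩
    rw [hδ, ← hx, tau_eq, tau_eq, uW_apply]
    have e' := congrArg T.σ e
    simp only [Perp, hm, map_add, map_sub, map_mul, map_zero, T.inv] at e' ⊢
    linear_combination δ * e - T.σ δ * e'
  constructor
  · rintro ⟨x, rfl⟩
    obtain ⟨y, hy⟩ := nor_AW T (inv_mem kn) x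
    obtain ⟨z, hz⟩ := (G _).1 ⟨y, rfl⟩
    refine ⟨z, ?_⟩
    rw [← hz, ← hy]
    simp
  · rintro ⟨y, rfl⟩
    obtain ⟨x, hx⟩ := (G _).2 ⟨y, rfl⟩
    obtain ⟨z, hz⟩ := nor_AW T kn x
    refine ⟨z, ?_⟩
    rw [hx, ← hz]
    simp

theorem two_s (h : WG T p Γ) (o : Opp T Γ) {g : Equiv.Perm (W K)} (hg : g ∈ Γ) {s r c : K}
    (G : Gr T g s r c) : 2 * s = 0 := by
  have i := iso h hg G
  obtain ⟨x, hx⟩ := (key h o hg hg G G (a := 4 * s) (b := -(8 * (s * T.σ s))) (γ := 1)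
    (by simp only [map_neg, map_mul, map_ofNat, T.inv]; ring) one_ne_zero
    (by rw [map_one]; linear_combination -i) _).2 ⟨1, rfl⟩
  obtain ⟨y, hy⟩ := (G _).1 ⟨x, rfl⟩
  rw [hy, tau_eq, tau_eq, uW_apply] at hx
  have h1 : 1 = y := congrArg Prod.fst hx
  have h2 : s * T.σ 1 - 4 * s * 1 = s * T.σ y := congrArg (fun w => w.2.1) hx
  rw [← h1] at h2
  have h3 : 2 * (2 * s) = 0 := by linear_combination -h2
  rcases mul_eq_zero.1 h3 with e | e
  · rw [e, zero_mul]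
  · exact e

theorem exists_u [Finite K] {s r c s' r' c' : K} (h1 : 2 * s = 0) (h2 : 2 * s' = 0)
    (i1 : c + T.σ c = s * T.σ s) (i2 : c' + T.σ c' = s' * T.σ s') :
    ∃ a b γ : K, b + T.σ b + a * T.σ a = 0 ∧ γ ≠ 0 ∧
      γ * (T.σ r' - T.σ r - a * (T.σ s + T.σ s')) + T.σ γ * (s * T.σ s' - T.σ c - c' - b) = 0 := by
  by_cases h : (2 : K) = 0
  · have inj : Function.Injective fun x : K => x * x := fun x y e => by
      have : (x - y) * (x - y) = 0 := by
        simp only at e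
        linear_combination (x * x - x * y) * h - e
      exact sub_eq_zero.1 (mul_self_eq_zero.1 this)
    obtain ⟨t, ht⟩ := Finite.surjective_of_injective inj
      (T.σ r' - T.σ r - (s + s') * (T.σ s + T.σ s'))
    simp only at ht
    by_cases t0 : t = 0
    · refine ⟨s + s', s * T.σ s' - T.σ c - c', 1, ?_, one_ne_zero, ?_⟩
      · simp only [map_add, map_sub, map_mul, T.inv]
        linear_combination (s * T.σ s' + s' * T.σ s) * h - i1 - i2
      · rw [← ht, t0]; ring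
    · refine ⟨s + s', s * T.σ s' - T.σ c - c' + t * T.σ t, T.σ t, ?_, T.σ_ne_zero t0, ?_⟩
      · simp only [map_add, map_sub, map_mul, T.inv]
        linear_combination (s * T.σ s' + s' * T.σ s + t * T.σ t) * h - i1 - i2
      · rw [← ht, T.inv]; ring
  · obtain rfl : s = 0 := (mul_eq_zero.1 h1).resolve_left h
    obtain rfl : s' = 0 := (mul_eq_zero.1 h2).resolve_left h
    obtain ⟨a, ha⟩ := T.exists_nrm (T.σ r' - T.σ r - T.σ c - c')
    exact ⟨a, _, 1, ha, one_ne_zero, by simp only [map_zero, map_one]; ring⟩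

theorem w2 [Finite K] : W2Stmt T p := by
  rintro Γ h o ⟨g0, hg0, hn0⟩
  obtain ⟨u0, hu0, s, r, c, G⟩ := graph h o hg0 hn0
  have m0 := mul_mem (h.le hu0) hg0
  refine ⟨s, r, c, two_s h o m0 G, iso h m0 G, fun g hg hn => ?_⟩
  obtain ⟨u1, hu1, s', r', c', G'⟩ := graph h o hg hn
  have m1 := mul_mem (h.le hu1) hg
  obtain ⟨a, b, γ, hab, h0, e⟩ := exists_u (T := T) (r := r) (r' := r') (two_s h o m0 G)
    (two_s h o m1 G') (iso h m0 G) (iso h m1 G')
  refine ⟨u1⁻¹ * uW T a b, mul_mem (inv_mem hu1) ⟨a, b, hab, rfl⟩, fun w => ?_⟩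
  have := key h o m0 m1 G G' hab h0 e (u1 w)
  simp only [Equiv.Perm.mul_apply, EmbeddingLike.apply_eq_iff_eq] at this
  rw [this]
  exact exists_congr fun y => by
    rw [Equiv.Perm.mul_apply, Equiv.Perm.inv_def, Equiv.eq_symm_apply]

end Cfsg.Agent.H57.U5W2
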