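import Cfsg.Agent.H57.UQS
import Cfsg.Agent.H43.HSO
import Cfsg.Agent.H43.HSM
import Cfsg.Agent.H17.HST
import Cfsg.Agent.S2066
import Cfsg.Agent.H47.J2Model
import Cfsg.Agent.H42.Auts

/-! The groups `HS` and `J₂` are generated by two invariant subgroups of characteristic two. -/

set_option autoImplicit false
set_option maxRecDepth 1000000

namespace Cfsg.Agent.H57.UQS

open Subgroup Cfsg.Agent.H42 Cfsg.Agent.H46 Cfsg.Agent.H57.MPS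

theorem oddC_HS : OddC (H43.grp 100 H43.HSM.E) := fun y h1 h2 => by
  obtain ⟨i, hi, -, h3, h4⟩ := H17.HST.ht.exists y.2
  rw [orderOf_coe] at h3
  rw [h3] at h1 h2
  rw [H43.card_centralizer_coe, h4]
  clear h3 h4
  revert h1 h2
  revert i
  decide +kernel

theorem good2_HS : Good2 (H43.grp 100 H43.HSM.E) :=
  good2_perm (w := 7) (by decide) (by decide) H43.HSM.E_ok (m := 86625)
    (near_base (H43.HSM.eq_lb ▸ H43.HSM.exact.isBase) 5)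
    [[1, 0, 1, 0, 1, 0, 1, 0], [1, 1, 2, 1, 1, 1], [0, 0, 1, 0, 1, 0, 0, 1, 0, 1, 0, 0, 0], [1, 1, 1, 2, 1, 1, 1], [0, 0, 1, 0, 1, 1, 0, 1], [2, 2, 2, 1, 2], [1, 0, 1, 1, 0, 1, 1, 0], [2, 2, 1, 2], [2, 2, 0, 2, 5, 2, 3, 5, 8, 8, 7, 8], [4, 3, 1, 3, 5, 4, 7, 8, 7, 9, 4, 8], [4, 2, 7, 4, 5, 7, 8, 3, 11, 11, 11], [6, 4, 7, 7, 4, 6, 9, 5, 3, 11, 5], [4, 6, 7, 9, 9, 6, 8, 11, 6, 8, 12, 11, 6], [7, 7, 5, 7, 9, 6, 12, 11, 10, 14], [8, 9, 9, 11, 11, 6, 12, 13, 12, 15, 8], [8, 10, 9, 10, 11, 11, 13, 11, 7, 15, 14, 9], [8, 11, 11, 11, 13, 9, 13, 13, 15, 12, 11, 13, 16, 17, 12], [9, 12, 12, 12, 11, 14, 12, 10, 16, 15, 17, 17, 16, 17], [12, 12, 10, 12, 15, 13, 10, 17, 16, 16, 14, 18, 18, 16], [11, 14, 14, 14, 13, 16, 16, 15, 15, 18, 17, 17, 17, 19, 20, 13], [13, 15, 12, 19, 16, 16, 19, 21, 15, 18], [16, 15, 14, 16, 17, 16, 13, 19, 20, 13, 22,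 16, 20], [14, 17, 15, 19, 19, 15, 21, 22, 23, 22, 19], [19, 19, 16, 22, 19, 18], [17, 19, 16, 18, 19, 21, 21, 20, 20, 23, 18, 22], [20, 17, 19, 21, 24, 23, 18, 23, 25, 25, 23], [26, 27], [20, 22, 19, 24, 22, 20, 23, 26, 21, 25, 27, 25, 20], [21, 22, 22, 20, 25, 21, 26, 27, 20, 28, 29, 29, 23], [22, 23, 22, 24, 25, 24, 22, 27, 29, 27, 28], [23, 25, 24, 23, 25, 27, 26, 26, 23, 29, 28, 28, 28, 30, 31, 31, 25], [18, 15], [16, 19], [17, 16], [24, 23], [23, 24], [24, 20, 23], [24, 22], [25, 25]]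
    [[1, 0, 0, 1], [4, 1, 1], [1, 0, 1, 1, 0, 1, 1], [1, 2, 1, 1, 1, 1], [0, 0, 1, 1, 1, 0, 1, 0, 0], [2, 1, 2, 1, 2, 1, 2, 2, 1, 2], [1, 0, 0, 1, 0, 1], [1, 2, 2, 1, 2, 1], [1, 3, 3, 1, 5, 0, 7, 2, 3, 8, 8, 0], [1, 4, 2, 3, 6, 6, 6, 1, 8, 4, 4, 9, 11, 7]]
    [30, 29, 28, 27, 26, 25, 24, 23, 22] [21, 20, 19] [18] [7, 6, 5, 4, 3, 25] [2, 1, 0, 25]
    [[17, 33, 9, 60, 58, 1], [9, 56, 17, 11, 13, 1], [16, 32, 57, 29, 27, 1], [17, 32, 56, 29, 27, 1], [16, 32, 57, 29, 27, 1], [16, 32, 9, 61, 58, 1], [32, 16, 8, 4, 2, 1], [17, 33, 8, 61, 58, 1], [16, 32, 8, 61, 58, 1], [17, 33, 8, 60, 59, 1], [44, 3, 53, 21, 19, 1], [47, 53, 8, 10, 13, 1], [13, 44, 16, 14, 9, 1]]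
    [[10, 6, 2, 1], [15, 6, 3, 1], [10, 5, 2, 1], [14, 4, 3, 1], [10, 5, 2, 1], [9, 7, 2, 1], [8, 4, 2, 1], [9, 7, 2, 1], [11, 6, 2, 1], [9, 7, 2, 1], [9, 12, 1, 2]]
    [([10, 23], [21, 78]), ([10], [23]), ([21], [78]), ([4, 16], [18, 53]), ([4], [16]), ([1, 94], [30, 90]), ([1], [94]), ([3], [42]), ([0], [62])]
    (nat_lit 0x4921ce29ae1dbfaf4301dbb46e057b3249ea93af9c45614d95afad13550143768983deb67e081620c95530ba10b468014b9ebeb61006e9638665b087514b258c9d6331528a9a88d460412863911e5d8320d4d5901c35e14)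
    (nat_lit 0x49814599af2bd5771644ab6a5a4f0c96b5a573afd2585a8e21a6cf1346c5cc2b91a981ba7f0de808493f3021b8954ca3990b0e4c134f8e635f2c72e7542c4c4c511331474a8088d4604160c111605c7a07a1ea106cb5c27)
    [17, 16] [15, 14] [15, 13, 12, 11, 10, 9] 8 0
    H43.HSM.card_grp (by decide) (by decide +kernel) (oddC_HS.hook (by decide) (by decide) _)
    ((card_Out_congr H43.HSM.equiv).symm.trans H43.HSO.card_out)

theorem oddC_J2 : OddC (H43.grp 100 H47.J2P.h_E0) := fun y h1 h2 => by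
  obtain ⟨i, hi, -, h3, h4⟩ := H47.J2P.ht.exists y.2
  rw [orderOf_coe] at h3
  rw [h3] at h1 h2
  rw [H43.card_centralizer_coe, h4]
  clear h3 h4
  revert h1 h2
  revert i
  decide +kernel

theorem good2_J2 : Good2 (H43.grp 100 H47.J2P.h_O) :=
  good2_perm (w := 7) (by decide) (by decide) H47.J2P.h_O_ok (m := 4725)
    (H47.J2P.h_eq ▸ near_step (by decide) (near_step (by decide)
      (near_orbit ((H47.J2P.h_exact.tail (by decide)).tail (by decide)))))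
    [[0, 0, 0, 1], [3, 4, 3, 2, 4, 3, 1, 2, 4, 1, 4, 2], [0, 0, 1, 0, 0, 0, 0, 0], [2, 1, 1, 1, 1, 1, 2, 2, 1], [0, 0, 0, 0], [2, 1, 2], [3, 5, 3, 3, 9, 6], [2, 4, 1, 4, 4, 6, 5, 1, 10, 7, 5, 6], [5, 5, 2, 5, 5, 6, 7, 2, 10, 9, 5, 11, 9], [3, 7, 8, 8, 5, 12, 9, 11, 6], [5, 6, 6, 7, 9, 8, 7, 4, 13, 11, 12], [6, 7, 8, 10, 8, 8, 13, 9, 13, 14], [8, 8, 9, 8, 11, 10, 15, 8], [11, 11, 16, 9, 12], [8, 11, 9, 11, 12, 13, 13, 12, 16, 15, 12, 12], [12, 12, 10, 12, 13, 14, 14, 17, 13, 12, 10], [11, 13, 11, 13, 14, 15, 10, 18, 14, 17], [14, 13, 13, 13, 16, 15, 14, 16, 20, 14, 16], [15, 15, 12, 15, 15, 17, 16, 14, 21, 18, 16, 17], [15, 15, 16, 15, 18], [18, 19, 19], [18, 18, 16, 19], [19, 18, 18, 18, 21, 20, 17, 25, 24, 21, 20], [19, 20, 19, 22, 21, 21, 21, 20, 25, 26, 19], [19, 21, 20, 19, 22, 23, 23, 23, 26, 25, 22, 21], [15, 13]]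
    [[0, 0, 0, 1, 0, 2], [1, 3, 2], [1, 1, 1, 0, 0], [2, 2, 1, 1, 2, 1, 2, 1, 1], [0, 1, 1, 0, 1], [2, 2, 2, 2], [0, 3, 3], [2, 3, 2, 5, 2], [3, 4, 2, 4, 7, 3, 8, 8, 9, 6], [4, 6, 6, 6, 8, 7, 8, 9, 11, 5]]
    [19, 18, 17, 16, 15, 14, 13] [12, 11] [10] [0, 13, 17, 18, 15] [19, 18, 16, 15, 14, 13]
    [[16, 9, 20, 18, 1], [24, 8, 22, 10, 1], [17, 8, 4, 2, 1], [17, 9, 4, 2, 1], [16, 8, 21, 10, 1], [16, 8, 4, 2, 1], [16, 8, 21, 11, 1], [16, 8, 5, 2, 1], [16, 6, 10, 21, 1], [23, 6, 24, 21, 1]]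
    [[56, 30, 6, 4, 12, 5], [32, 17, 13, 4, 6, 1], [33, 16, 9, 4, 7, 1], [58, 16, 7, 4, 9, 5], [37, 17, 8, 4, 2, 1], [32, 16, 8, 4, 2, 1], [36, 21, 8, 4, 2, 1], [32, 16, 8, 4, 2, 1], [41, 7, 36, 1, 27, 4]]
    [([11, 99], [48, 75]), ([11], [99]), ([48], [75]), ([7, 33], [18, 62]), ([7], [33]), ([13], [57]), ([0], [50])]
    (nat_lit 0xc6cabbbbaea74f87224c2b9599e252a95a8304dcb160026c683323c0b63ad55a6d451e5c36ca14e0c39b88f22cb7afdf4a283cca6be8902359616af0a192176f80d512224ae168e1b5e38048021611292107ea16a47680c)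
    (nat_lit 0xc750a1a4e42fd78705ca2c35a0057e0cc01b9764c660b2cda8b218b3b7623c45cb57b2c17a6923645f13ab8a64b40ed0a3a34a9d06ea049d4899c250cf010f68654cf3810aab9c20b8d5509d0016f4b076a78f8a6c3074a)
    [9, 8, 7, 6] [5, 4] [5, 3, 2] 1 0
    ((Nat.card_congr H47.eH.toEquiv).symm.trans H47.card_J2) (by decide) (by decide +kernel)
    ((oddC_J2.of_injective (H47.eH.symm.trans H47.eH0).toMonoidHom
      (H47.eH.symm.trans H47.eH0).injective).hook (by decide) (by decide) _)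
    ((card_Out_congr H47.eH).symm.trans S2066.result)

end Cfsg.Agent.H57.UQS
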