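import Cfsg.Agent.H57.UQSK
import Cfsg.Agent.H46.Ru
import Cfsg.Agent.H42.Auts
import Cfsg.Agent.H44.KiRu

/-! The Rudvalis group is generated by two invariant subgroups of characteristic two. -/

set_option autoImplicit false
set_option maxRecDepth 1000000

namespace Cfsg.Agent.H57.UQS

open Subgroup Cfsg.Agent.H42 Cfsg.Agent.H46 Cfsg.Agent.H57.MPS

open H44.Ki H44.KiRu in
theorem twoC_Ru : TwoC 14 (H43.grp 4060 H43.RuM.E) :=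
  twoC_of (Cov.reps pc (by rw [H43.RuM.card_grp]; norm_num) cov1)
    (charTwo_cert' ok pc (k := 11) (by decide) cz_c (by decide +kernel) nq cz_n fun p hp h => by
      have : p ∈ (245760 : ℕ).primeFactorsList := (Nat.mem_primeFactorsList (by decide)).2 ⟨hp, h⟩
      simp only [Nat.primeFactorsList_ofNat, List.mem_cons, List.not_mem_nil, or_false,
        or_self_left] at this
      rcases this with rfl | rfl | rfl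
      exacts [Or.inl rfl, Or.inr ⟨by norm_num, [16, 20], 2, by decide +kernel⟩,
        Or.inr ⟨by norm_num, [19, 21, 15], 2, by decide +kernel⟩])
    (by rw [cb_n]; norm_num)

theorem twoC_Ru' : TwoC 14 (⊤ : Subgroup Ru.GG) := twoC_Ru.congr H43.RuM.exists_equiv.choose.symm

theorem good2_Ru : Good2 (⊤ : Subgroup Ru.GG) :=
  good2_coded Ru.CG Ru.QV (act := Ru.act) (ok := canonB 1 2 (28 * 1))
    (fun _ hv => ⟨_, Ru.matData.P_dec Ru.eI (canon_of_canonB hv)⟩) Ru.P_act (m := 8906625)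
    (gens := [Ru.c_g1, Ru.c_g2, Ru.c_v])
    (List.forall_mem_cons.2 ⟨⟨_, trivial, Ru.R_g1⟩, List.forall_mem_cons.2 ⟨⟨_, trivial, Ru.R_g2⟩,
      List.forall_mem_cons.2 ⟨⟨_, trivial, Ru.R_v⟩, fun _ h => nomatch h⟩⟩⟩)
    (more := []) (fun _ h => nomatch h)
    (fun H h => Ru.closure_gen ▸ (closure_le H).2 (by
      rintro _ (rfl | rfl | rfl)
      exacts [(h _ (.head _)).mem Ru.R_g1, (h _ (.tail _ (.head _))).mem Ru.R_g2,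
        (h _ (.tail _ (.tail _ (.head _)))).mem Ru.R_v]))
    [[0, 2, 1, 1, 2, 1], [3, 1, 1, 1, 1, 3], [4, 3, 2, 4, 2, 1, 1, 0, 1], [5, 5, 2, 2], [0, 1, 1, 0, 1, 1, 1, 1, 0, 0, 1], [1, 1], [0, 1, 0, 1, 1, 0, 0], [2, 2, 1, 2, 2, 2, 1, 1, 2, 2, 1], [1, 1, 0, 0, 3, 3, 1, 2, 3, 3, 4, 3, 0, 3, 0, 5, 6, 2], [1, 2, 4, 2, 3, 3, 6, 6, 5, 1, 5, 6, 9, 7, 3, 6, 6], [3, 3, 2, 3, 4, 2, 4, 4, 5, 3, 6, 2, 7, 4, 3, 12, 7, 4, 3], [4, 4, 6, 4, 5, 4, 3, 8, 8, 6, 5, 6, 5, 11, 6, 11, 8, 11], [5, 4, 7, 5, 7, 5, 9, 6, 4, 8, 9, 12, 9, 4, 14], [8, 6, 5, 6, 10, 7, 6, 10, 5, 10, 13, 13, 6, 15, 9], [7, 9, 9, 7, 9, 9, 11, 6, 11, 8, 6, 14, 14, 11, 9, 8], [8, 7, 8, 10, 10, 7, 7, 12, 12, 11, 12, 10, 15, 12, 10, 10, 11], [9, 8, 8, 11, 9, 11, 9, 11, 13, 11, 13, 12, 8, 10, 18, 10, 9, 16], [9, 9, 10, 12, 12, 12, 9, 14, 11, 9, 10, 11, 17, 13, 15, 15, 18], [10, 10,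 13, 12, 12, 13, 13, 13, 15, 14, 12, 11, 14, 13, 20, 14, 15, 16], [12, 11, 12, 14, 14, 12, 12, 13, 13, 14, 16, 16, 14, 12, 19, 19, 16, 14, 13], [12, 13, 15, 15, 15, 12, 14, 14, 17, 12, 13, 17, 17, 20, 15, 20, 17, 20], [14, 16, 16, 16, 14, 15, 13, 18, 17, 14, 17, 15, 23, 17, 14, 23, 13], [17, 15, 17, 17, 16, 17, 19, 19, 17, 15, 19, 15, 24, 22, 14, 21, 15], [16, 16, 18, 18, 18, 18, 16, 16, 19, 15, 19, 15, 16, 23, 18, 19, 21], [17, 17, 16, 17, 18, 19, 17, 21, 20, 16, 18, 21, 18, 24, 26, 24, 19, 26], [10, 10, 3]]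
    [[1, 0, 0, 0, 0, 2], [2, 1, 1, 2, 3, 3], [3, 3, 0, 2, 0, 4], [5, 5, 4, 2, 1, 1], [1, 1, 1, 1, 1, 1, 1, 0, 1, 1, 1, 0], [2, 2, 1, 2, 2], [0, 1, 1, 1, 1, 1, 1], [2, 1, 1, 1, 1, 1, 1, 2], [1, 1, 1, 1, 1, 3, 3, 2, 3, 0, 2, 0, 4, 5, 5, 1, 3, 4, 10, 4, 5], [2, 2, 2, 2, 2, 4, 3, 1, 3, 4, 6, 1, 3, 6, 6, 11, 5, 6], [2, 3, 3, 5, 5, 4, 4, 5, 4, 2, 7, 7, 7, 4, 5, 2, 11, 10, 7, 5]]
    [17, 16, 15, 14, 13, 12, 11, 10, 9, 8, 7, 6, 5, 4] [3, 2] [1] [0] [4, 0]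
    [[1], [1], [1], [1], [1], [1], [1], [1], [1], [1], [1], [1], [1], [1], [1], [1], [1]]
    [[2, 1], [2, 1], [2, 1], [3, 1], [2, 1], [2, 1], [2, 1], [2, 1], [2, 1], [2, 1], [2, 1], [2, 1], [2, 1], [2, 1], [2, 1], [3, 2]]
    [([0x733e3dc, 0x879d453], [0x1f9d720, 0xeb3e0af]), ([0x733e3dc], [0x879d453]), ([0x1f9d720], [0xeb3e0af]), ([0x5cda48, 0x696eeb4, 0x936b630, 0xffc82cc], [0x2293a7, 0xc8fcac, 0x602c850, 0x6e8a75b]), ([0x5cda48, 0x696eeb4], [0x936b630, 0xffc82cc]), ([0x5cda48], [0x696eeb4]), ([0xc8fcac], [0x602c850]), ([0x6e8a75b], [0x2293a7]), ([0x749d8c, 0x82fda78], [0x62a8f94, 0xe71c860]), ([0x749d8c], [0x82fda78]), ([0x917f5a7], [0xf49e7bf]), ([0x3469b78, 0x457eb03], [0xb639563, 0xc72e518]), ([0x3469b78], [0x457eb03]), ([1], [0x289cc54])]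
    Ru.O.one (fun _ _ => true) (by rw [card_top, Ru.card_GG]; rfl) (by decide)
    (by decide +kernel)
    (twoC_Ru'.hook (m := 8906625) (card_top.trans Ru.card_GG) (by decide) (by decide))
    (.inl (((card_Out_congr topEquiv).trans (card_Out_congr Ru.equivGG).symm).trans Ru.card_out_Ru))

end Cfsg.Agent.H57.UQS
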