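import Cfsg.Agent.H57.UQS
import Cfsg.Agent.H57.MPSM
import Cfsg.Agent.H74.Mathieu
import Cfsg.Agent.H49.M24Cls

/-! The Mathieu groups are generated by two invariant subgroups of characteristic two. -/

set_option autoImplicit false
set_option maxRecDepth 1000000

namespace Cfsg.Agent.H57.UQS

open Subgroup Cfsg.Agent.H42 Cfsg.Agent.H46 Cfsg.Agent.H57.MPS

theorem oddC24 : OddC M24 := fun y h1 h2 => by
  obtain ⟨i, hi, -, h3, h4⟩ := H49.m24_class y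
  rw [h3] at h1 h2
  rw [h4]
  clear h3 h4
  revert h1 h2
  revert i
  decide +kernel

theorem good2_M {M : Subgroup M24} {gens : List ℕ} (hM : M = gen gens)
    (hg : ∀ g ∈ gens, inM g = true) {inK : ℕ → Bool}
    (hK : ∀ g, inM g = true → inK g = true → toM g ∈ M) (more : List ℕ)
    (p₀ p₁ : List (List ℕ)) (xi y₁ y₂ e₁ e₂ : List ℕ) (h₁ h₂ : List (List ℕ))
    (ch : List (List ℕ × List ℕ)) (a : ℕ) {m : ℕ} (hc : Nat.card M = 2 ^ ch.length * m) (hm : Odd m)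
    (h : allL inM more = true ∧ allL inK more = true ∧ 4 ≤ e₁.length ∧ 4 ≤ e₂.length ∧
      good2B H74.opsP (fun v => v) app (fun v => ltB v 24) gens more p₀ p₁ xi y₁ y₂ e₁ e₂ h₁ h₂ ch a
        (fun _ _ => true) = true)
    (ho : Nat.card (Out M) = 1 ∨ (Nat.card (Out M) = 2 ∧
      (∀ c : M24, (∀ x ∈ M, c * x = x * c) → c = 1) ∧
        ∃ c₃, (inM a = true → toM a ∈ normalizer (M : Set M24)) ∧
        (inM a = true ∧ famOk 1 c₃ = true ∧ allL (fx 1 c₃) gens = true ∧ fx 1 c₃ a = false))) :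
    Good2 M := by
  have hR : ∀ g, inM g = true → (H74.codedK M24).R g (toM g) := fun g hg =>
    ⟨inM_isPerm hg, (coe_toM hg).symm⟩
  obtain ⟨q1, q2, q3, q4, q5⟩ := h
  refine good2_coded (H74.codedK M24) H74.ptsP H74.ptsP_ok (fun _ _ _ _ => H74.ptsP_act)
    (fun g h => ⟨_, hM ▸ toM_mem_gen h, hR g (hg g h)⟩)
    (fun g h => ⟨_, hK g (allL_iff.1 q1 g h) (allL_iff.1 q2 g h), hR g (allL_iff.1 q1 g h)⟩)
    (fun H hH => hM.le.trans (gen_le _ fun g h => (hH g h).mem (hR g (hg g h))))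
    p₀ p₁ xi y₁ y₂ e₁ e₂ h₁ h₂ ch a _ hc hm q5
    ((oddC24.of_injective _ M.subtype_injective).hook q3 q4 _) (ho.imp_right ?_)
  rintro ⟨o1, o2, c₃, a0, a1, a4, a5, a6⟩
  refine ⟨o1, fun _ _ _ => ⟨toM a, a0 a1, hR a a1, not_inner o2 fun e => ?_⟩⟩
  rw [(fx_iff a4 a1).mpr ((le_fx a4 hg).mp a5 (hM ▸ e))] at a6
  exact absurd a6 (by simp)

theorem good2_12 : Good2 G12 :=
  good2_M G12_eq inM_gens12 mem_of_inK12
    [0xbbceab32265b88d9d609a20b200443, 0xbd9f3a222da960c59cd2525c418801, 0x8da6fac2f2a390c59ccd524a410c20, 0x2ccea5b1c9b448d7d506a42f218820, 0x89df3ac2eda150655992591c918820, 0xbae957b6289ba44b1cd0524ac18820, 0x8bd76a18b2ab92499e0d522ec08c40, 0x2aceaab2eda3890b4cd27a62800c22, 0x74ceaa9232a5d897da0d5a0a610403, 0x7a8aeb86628d40c3d92359a84821b2]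
    [[4, 3], [5, 6, 3]]
    [[0], [3, 4, 1, 2, 2, 4], [1, 1, 1], [2, 2, 1], [1], [1, 2, 1, 2, 1, 1, 2, 2, 2, 1], [1], [1, 1, 2, 2, 1, 1, 2, 1], [0, 2, 2, 2, 4, 2, 6, 0, 10], [2, 3, 3, 4, 1, 5, 7, 3, 10, 1]]
    [4, 5, 6, 7, 8, 9] [10, 11, 12] [13] [1, 7, 4, 8, 9] [0, 1, 8, 9]
    [[17, 23, 10, 18, 1], [17, 8, 4, 2, 1], [16, 10, 22, 3, 1], [16, 11, 23, 3, 1], [17, 8, 4, 3, 1], [16, 9, 4, 2, 1], [16, 8, 4, 2, 1], [29, 2, 18, 10, 1], [12, 10, 22, 8, 1], [12, 2, 18, 8, 1]]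
    [[15, 5, 6, 1], [14, 5, 2, 1], [12, 4, 3, 1], [12, 4, 3, 1], [11, 5, 3, 1], [8, 4, 2, 1], [8, 4, 2, 1], [8, 4, 15, 5]]
    [([0, 1], [2, 3]), ([0], [1]), ([2], [3]), ([5, 14], [17, 23]), ([5], [14]), ([4], [12])]
    0x140c962c6a206d5435e794c1471637 (m := 1485) card_G12 (by decide) (by decide +kernel)
    (.inr ⟨card_Out_G12, fun _ => eq_one_of_comm_G12, dod0,
      fun h => GDD_le_normalizer (mem_of_inDD _ h (by decide +kernel)), by decide +kernel⟩)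

theorem good2_22 : Good2 G22 :=
  good2_M G22_eq inM_gens22 mem_of_inK22
    [0xb90cc3bc705c5aa4a254acdd628440, 0xbc0d43a0b678c8b629329d62d70820, 0xbb6aa9a1c44c6cb651f23987028820, 0xbae957b6289ba44b1cd0524ac18820, 0xbcc8cb2a265b8f47c9096c0b518820, 0xba1474922b3398d85676a3cb218820, 0xb9e086be3593a6952d94b10a618820, 0xbceb03ac34b0d446c9887a4462ba20, 0xbc288228b33056cabecd91dc91c440, 0xbcdee559668b0ed20cb0a251590820]
    [[8, 6], [3, 3]]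
    [[2], [1, 1], [1], [1, 2, 2, 2, 1, 2, 1, 2, 1], [1, 0, 1, 1, 0, 1, 0], [2, 1, 1, 2, 2], [2, 3, 2, 3, 3, 2, 2, 3, 3, 2], [1], [2, 2, 2, 2], [1, 1, 4, 3, 2, 6, 2, 7, 8, 2, 9, 11, 10, 5], [5, 4, 3, 7, 3, 10, 12]]
    [4, 5, 6, 7, 8, 9, 10] [11, 12] [13] [7, 10, 8, 9] [1, 0, 6, 5]
    [[7, 10, 5, 14], [12, 2, 11, 10], [14, 11, 13, 7], [1, 2, 4, 8], [8, 4, 2, 1], [8, 4, 2, 1], [8, 4, 2, 1], [8, 4, 2, 1], [4, 8, 6, 3], [4, 7, 6, 15]]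
    [[13, 14, 7, 11], [5, 4, 11, 12], [8, 4, 2, 1], [8, 4, 2, 1], [8, 12, 7, 9], [8, 9, 10, 12], [8, 12, 7, 9], [8, 9, 10, 12], [3, 9, 1, 5]]
    [([1], [2]), ([3, 5], [14, 17]), ([3], [5]), ([4, 6, 10, 11, 15, 16, 18, 21], [7, 8, 9, 12, 13, 19, 20, 22]), ([4, 6, 15, 18], [10, 11, 16, 21]), ([4, 6], [15, 18]), ([4], [6])]
    0x11467b06da96d25cce8a263070837 (m := 3465) card_G22 (by decide) (by decide +kernel)
    (.inr ⟨card_Out_G22, fun _ => eq_one_of_comm_G22, 1,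
      fun h => GD2_le_normalizer (mem_of_inD2 _ h (by decide +kernel)), by decide +kernel⟩)

theorem good2_23 : Good2 G23 :=
  good2_M G23_eq inM_gens23 mem_of_inK23
    [0xbbe534106aac53069cd65b1d428440, 0xbade7a58a830e506d6644aa2c70820, 0xbbe504186969553ad88762dd488820, 0xbc92655a2c3b9706cea47d0a818820, 0xb9e086be3593a6952d94b10a618820, 0xba1474922b3398d85676a3cb218820, 0xba64d4562f83a87312d362caa18820, 0xba5ec3586a686a492e08a1c138b845, 0xbd9ac5bdd4844c444d474d47211401, 0xbba927b4f15cc7682184524c5a8402]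
    [[8, 4], [5, 9], [5, 9], [10, 8]]
    [[0, 0], [1, 2, 3], [0, 1, 0, 0, 0, 0, 1, 1], [2, 1], [1, 0, 0, 0], [1, 1, 2], [1, 0, 1, 1, 1, 0, 1, 0, 1], [1, 2, 2, 1, 2], [3, 2, 2, 2, 2, 2, 3, 3, 3], [2, 1, 0, 2], [3, 3, 3, 2, 1], [4, 2, 2, 6, 3, 8, 4, 9, 9, 11, 6], [1, 5, 4, 4, 6, 6, 9, 4, 10, 8, 12, 13]]
    [6, 7, 8, 9, 10, 11, 12] [13, 14] [15] [12, 10, 9, 11] [3, 2, 1, 0]
    [[8, 4, 2, 1], [1, 9, 5, 6], [6, 7, 15, 12], [5, 10, 1, 2], [8, 4, 2, 1], [8, 4, 2, 1], [8, 4, 2, 1], [8, 4, 2, 1], [6, 13, 8, 9], [11, 8, 6, 4]]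
    [[8, 4, 2, 1], [11, 6, 15, 1], [9, 5, 14, 1], [4, 8, 15, 1], [9, 5, 14, 1], [5, 9, 3, 1], [9, 5, 14, 1], [4, 8, 15, 1], [7, 5, 9, 8]]
    [([1], [2]), ([3, 17], [5, 14]), ([3], [17]), ([4, 6, 10, 11, 15, 16, 18, 21], [7, 8, 9, 12, 13, 19, 20, 22]), ([4, 10, 18, 21], [6, 11, 15, 16]), ([4, 10], [18, 21]), ([4], [10])]
    pid (m := 79695) card_G23 (by decide) (by decide +kernel)
    (.inl card_Out_G23)

theorem good2_24 : Good2 (⊤ : Subgroup M24) :=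
  good2_M gen_gens24.symm inM_gens24 (inK := fun _ => true) (fun _ _ _ => trivial)
    [0x8d1865900a3852d84eb6922ef13865, 0x12653435d4a95f621cd05b06a882e1, 0x3d70656296b94735893448b418457, 0xb99aa82e3548e7243e8cb10a770440, 0xbcda882466914efa2d8a259d588820, 0xbb286790b238d0d84eb65262b70820, 0xba1474922b3398d85676a3cb218820, 0xbae957b6289ba44b1cd0524ac18820, 0xbd6cb22627638cfa224a834b318820, 0xbb1f3a4232ab916218ed4a8ab18820, 0xbaeb653c6d40187a48864cc308b8a2, 0x2cd8959856538906a247a3c750c6e0, 0xb08cb38d4163ef174905ace804920d]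
    [[11, 10, 4], [4, 6, 10], [8, 8], [14, 10], [10, 14], [10, 10]]
    [[1], [3, 2, 3, 2], [1, 1, 0, 0, 0, 1, 1], [1, 1, 1, 1, 2], [0, 0, 1, 1, 0, 0], [2], [1, 1, 1, 0, 1, 1], [2, 1, 2, 1, 2, 2, 1, 2, 2, 2], [0, 0, 0, 1, 1, 0, 0], [1, 2, 1, 2, 2, 1, 1, 2, 2], [3, 3, 3, 2], [0], [2, 1, 2, 1, 2], [1, 4, 3, 3, 6, 6, 0, 7, 3, 9, 9, 10, 12, 12, 4, 13, 2], [2, 5, 1, 9, 1, 6, 10, 11, 1, 13, 13, 5]]
    [8, 9, 10, 11, 12, 13, 14, 15, 16, 17] [18, 19] [20] [17, 15, 16, 14] [5, 4, 3, 2, 1, 0]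
    [[8, 4, 2, 1], [15, 3, 14, 6], [15, 3, 2, 10], [13, 1, 14, 4], [6, 10, 2, 3], [4, 8, 7, 13], [1, 13, 14, 8], [8, 4, 2, 1], [8, 4, 2, 1], [8, 4, 2, 1], [8, 4, 2, 1], [3, 2, 6, 15], [11, 7, 6, 9]]
    [[32, 16, 8, 4, 2, 1], [12, 25, 8, 41, 63, 1], [41, 61, 9, 12, 6, 1], [41, 25, 8, 12, 11, 1], [33, 53, 9, 5, 14, 1], [33, 16, 8, 5, 10, 1], [40, 25, 8, 13, 3, 1], [40, 25, 8, 13, 3, 1], [40, 25, 8, 13, 3, 1], [33, 16, 8, 5, 10, 1], [40, 25, 8, 13, 3, 1], [2, 46, 43, 4, 28, 56]]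
    [([0, 1, 2, 23], [3, 5, 14, 17]), ([0, 23], [1, 2]), ([0], [23]), ([1], [2]), ([3, 14], [5, 17]), ([3], [14]), ([4, 11, 12, 15, 19, 20, 21, 22], [6, 7, 8, 9, 10, 13, 16, 18]), ([4, 11, 19, 20], [12, 15, 21, 22]), ([4, 11], [19, 20]), ([4], [11])]
    pid (m := 239085) card_G24 (by decide) (by decide +kernel)
    (.inl card_Out_G24)


end Cfsg.Agent.H57.UQS
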